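import Cfsg.Agent.PF10.Main
import Cfsg.Agent.PF8.TypeIIISetup

/-!
Peterfalvi, Hypothesis (10.1) holds for every maximal subgroup of type `P` that is not of type II,
and such a subgroup has a partner of type II.
-/

set_option autoImplicit false
set_option linter.unusedSectionVars false

namespace Cfsg.Agent.PF10

open Cfsg
open Cfsg.Agent.BGSummary

universe u

variable {G : Type u} [Group G] [Finite G]

/-- For a maximal subgroup of type `P` outside type II, `M_s = M'`. -/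
theorem typeCore_eq_derived (hG : IsMinSimpleOddOrder G) {M W₁ U W₂ : Subgroup G}
    (hM : IsCoatom M) (hP : IsTypePWith M W₁ U W₂) (hT : ¬ IsOfTypeII M) :
    typeCore M = ⁅M, M⁆ := by
  have h := PF8.typeInputs hG
  obtain ⟨⟨U₀, hKU⟩, -, -⟩ := PF8.decomp_of_typePWith hG hM hP
  have hU : U₀ = ⊥ := by
    by_contra hU
    exact hT ((typeII_stmt hG h M hM W₁ U₀ hKU).mpr ⟨hP.W₁_ne, hU⟩)
  rw [typeCore]
  split_ifs with h34
  · rfl
  · have hF : fittingHallOf M = sigmaCore M := by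
      by_contra hF
      exact h34 ((typeIII_IV_stmt hG h M hM W₁ U₀ hKU).mpr ⟨hP.W₁_ne, hU, hF⟩)
    rw [(h.derived M hM W₁ U₀ hKU hP.W₁_ne).1, hU, bot_sup_eq, hF]

/-- Hypothesis (10.1). -/
theorem hyp_of_typeP (hG : IsMinSimpleOddOrder G) {M W₁ U W₂ : Subgroup G}
    (hM : IsCoatom M) (hP : IsTypePWith M W₁ U W₂) (hT : ¬ IsOfTypeII M) :
    Hyp M W₁ U W₂ where
  minSimple := hG
  coatom := hM
  data := hP
  notI := PF8.not_typeI hG hM hP
  core := typeCore_eq_derived hG hM hP hT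
  prime := PF8.prime_W₂ hG hM hP hT
  dade := PF8.dade_typeA0 hG (PF8.summaryInputs hG) hM

theorem not_typeII_of_V (hG : IsMinSimpleOddOrder G) {M : Subgroup G} (hM : IsCoatom M)
    (hV : IsOfTypeV M) : ¬ IsOfTypeII M := by
  obtain ⟨W₁, U, W₂, hP, -⟩ := id hV
  have h := PF8.typeInputs hG
  obtain ⟨⟨U₀, hKU⟩, -, -⟩ := PF8.decomp_of_typePWith hG hM hP
  exact fun hII => ((typeII_stmt hG h M hM W₁ U₀ hKU).mp hII).2
    ((typeV_stmt hG h M hM W₁ U₀ hKU).mp hV).2.1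

/-- The partner of type II. -/
theorem exists_partner (hG : IsMinSimpleOddOrder G) {M W₁ U W₂ : Subgroup G}
    (hM : IsCoatom M) (hP : IsTypePWith M W₁ U W₂) (hT : ¬ IsOfTypeII M) :
    ∃ S V : Subgroup G, Partner S W₂ V W₁ ∧ M ⊓ S = W₁ ⊔ W₂ ∧ IsOfTypeII S := by
  have h := PF8.typeInputs hG
  obtain ⟨S, V₁, hS, hV₁, hinf, hor, -⟩ := PF8.exists_partner hG hM hP
  have hII := hor.resolve_left hT
  obtain ⟨⟨U', hKU⟩, hW₁, -⟩ := PF8.decomp_of_typePWith hG hS hV₁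
  have hU' : U' ≠ ⊥ := ((typeII_stmt hG h S hS W₂ U' hKU).mp hII).2
  obtain ⟨V, hV, hVU⟩ := PF8.exists_typePWith hG hS hKU hV₁.W₁_ne
  rw [← hW₁] at hV
  have hVU := hVU hU'
  subst hVU
  obtain ⟨hab, hN⟩ := h.complement_abelian S hS W₂ V hKU hV₁.W₁_ne
  obtain ⟨hF, hTI⟩ := PF8.typeII_of_typePWith hG hS hV hII
  refine ⟨S, V, ⟨hS, hV, PF8.prime_W₂ hG hM hP hT, hU', hab, hN, hTI, ?_, ?_⟩, hinf, hII⟩
  · obtain ⟨h1, h2⟩ := (h.sigma_hall S hS).2.1
    rw [hF]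
    exact Nat.coprime_of_dvd fun p hp hp1 hp2 => h2 p hp (h1 p hp hp1) hp2
  · exact fun u hu hu1 hC => PF8.centralizer_uniq_of_compl hG hS hV hII hu hu1 hC

/-- Peterfalvi (10.8), in the setting of the Bender–Glauberman classification of types. -/
theorem not_coherent_of_typeP {G : Type u} [Group G] [Fintype G] (hG : IsMinSimpleOddOrder G)
    {M W₁ U W₂ : Subgroup G} [Fintype ↥M] (hM : IsCoatom M) (hP : IsTypePWith M W₁ U W₂)
    (hT : ¬ IsOfTypeII M) : ¬ IsCoherent (calS M) {1}ᶜ (tau M) := by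
  obtain ⟨S, V, P, -, -⟩ := exists_partner hG hM hP hT
  exact not_coherent (hyp_of_typeP hG hM hP hT) P

end Cfsg.Agent.PF10
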