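import Cfsg.Agent.PF10.NotCoherent

/-!
Peterfalvi (10.8): for `M` as in Hypothesis (10.1) with a partner of type II, the set of characters
induced from the nonprincipal irreducible characters of `M'` is not coherent.
-/

set_option autoImplicit false

namespace Cfsg.Agent.PF10

open Cfsg Cfsg.Agent.OddChar Cfsg.Agent.OddChar.PrimeTI Cfsg.Agent.Coherence
open Cfsg.Agent.OddChar.CycTI (D1 D2 offSet)

universe u

variable {G : Type u} [Group G] [Fintype G] {M W₁ U W₂ : Subgroup G}
variable (hh : Hyp M W₁ U W₂)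
include hh

theorem off_not_coprime {v : G} (hv : v ∈ offSet W₁ W₂) :
    ¬ (orderOf v).Coprime (Nat.card W₁) := by
  intro hc
  have hs := CycTI.Split.of_selfNormalizing hh.data.selfNormalizing
  have hd : orderOf v ∣ Nat.card W₁ * Nat.card W₂ := by
    have h := Subgroup.orderOf_dvd_natCard _ hv.1
    rwa [← Nat.card_congr (CycTI.prodEquiv W₁ W₂ hs.disj hs.comm).toEquiv, Nat.card_prod] at h
  refine hv.2 (Or.inr (CycTI.card_pow_le hs le_sup_right hv.1 ?_))
  exact orderOf_dvd_iff_pow_eq_one.mp (hc.dvd_of_dvd_mul_left hd)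

theorem sat_off_bound :
    ((sat (offSet W₁ W₂)).ncard : ℝ) * ((Nat.card W₁ : ℝ) * Nat.card W₂) ≤
      (Nat.card G : ℝ) *
        ((Nat.card W₁ : ℝ) * Nat.card W₂ - Nat.card W₁ - Nat.card W₂ + 1) := by
  have hs := CycTI.Split.of_selfNormalizing hh.data.selfNormalizing
  have h := ncard_sat_mul_le (offSet W₁ W₂) (W₁ ⊔ W₂) fun l hl a ha => by
    have := congrArg Subtype.val (hs.mulComm ⟨l, hl⟩ ⟨a, ha.1⟩)
    simp only [Subgroup.coe_mul] at this
    rw [this, mul_inv_cancel_right]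
    exact ha
  have hW : Nat.card ↥(W₁ ⊔ W₂) = Nat.card W₁ * Nat.card W₂ := by
    rw [← Nat.card_congr (CycTI.prodEquiv W₁ W₂ hs.disj hs.comm).toEquiv, Nat.card_prod]
  have hu := Set.ncard_union_add_ncard_inter (W₁ : Set G) (W₂ : Set G)
  have hi : (W₁ : Set G) ∩ (W₂ : Set G) = {1} := by
    rw [← Subgroup.coe_inf, hs.disj, Subgroup.coe_bot]
  rw [hi, Set.ncard_singleton, ← Nat.card_coe_set_eq (W₁ : Set G),
    ← Nat.card_coe_set_eq (W₂ : Set G)] at hu
  have ho : (offSet W₁ W₂).ncard + ((W₁ : Set G) ∪ (W₂ : Set G)).ncard =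
      Nat.card W₁ * Nat.card W₂ := by
    rw [← hW]
    exact (Set.ncard_sdiff_add_ncard_of_subset (Set.union_subset
      (SetLike.coe_subset_coe.mpr le_sup_left) (SetLike.coe_subset_coe.mpr le_sup_right))).trans
      (Nat.card_coe_set_eq _).symm
  rw [hW] at h
  have h' : ((sat (offSet W₁ W₂)).ncard : ℝ) * ((Nat.card W₁ : ℝ) * Nat.card W₂) ≤
      (Nat.card G : ℝ) * (offSet W₁ W₂).ncard := by exact_mod_cast h
  refine h'.trans (le_of_eq ?_)
  congr 1
  have e1 : ((offSet W₁ W₂).ncard : ℝ) + (((W₁ : Set G) ∪ (W₂ : Set G)).ncard : ℝ) =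
      (Nat.card W₁ : ℝ) * Nat.card W₂ := by exact_mod_cast ho
  have e2 : (((W₁ : Set G) ∪ (W₂ : Set G)).ncard : ℝ) + 1 =
      (Nat.card W₁ : ℝ) + Nat.card W₂ := by exact_mod_cast hu
  linarith

theorem sat_supp_bound {S V : Subgroup G} (P : Partner S W₂ V W₁) :
    7 * (((sat (Partner.supp S)).ncard : ℝ) * (Nat.card W₂ : ℝ)) ≤ 3 * (Nat.card G : ℝ) := by
  have h := ncard_sat_mul_le (Partner.supp S) S P.supp_conj
  have hs := P.supp_ncard
  have hb := P.bad_ncard hh.minSimple
  have hu := P.seven_le hh.odd_card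
  rw [P.card_S] at h
  set f := (sat (Partner.supp S)).ncard
  set n := (Partner.supp S).ncard
  set b := (Partner.bad S V).ncard
  set a := Nat.card (fittingHallOf S)
  set u := Nat.card V
  have hpos : 0 < a * u := Nat.mul_pos Nat.card_pos Nat.card_pos
  have h2 : 7 * (f * Nat.card W₂) * (a * u) ≤ 3 * Nat.card G * (a * u) := by
    calc 7 * (f * Nat.card W₂) * (a * u) = 7 * (f * (a * u * Nat.card W₂)) := by ring
      _ ≤ 7 * (Nat.card G * n) := Nat.mul_le_mul_left 7 h
      _ = Nat.card G * (7 * n) := by ring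
      _ ≤ Nat.card G * (3 * (a * u)) := by
        refine Nat.mul_le_mul_left _ ?_
        calc 7 * n ≤ 7 * (a * (b + 1)) := Nat.mul_le_mul_left 7 (by omega)
          _ = a * (7 * (b + 1)) := by ring
          _ ≤ a * (3 * u) := Nat.mul_le_mul_left a (by omega)
          _ = 3 * (a * u) := by ring
      _ = 3 * Nat.card G * (a * u) := by ring
  have h3 := Nat.le_of_mul_le_mul_right h2 hpos
  exact_mod_cast h3

variable [Fintype ↥M]

/-- Peterfalvi (10.8). -/
theorem not_coherent {S V : Subgroup G} (P : Partner S W₂ V W₁) :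
    ¬ IsCoherent (calS M) {1}ᶜ (tau M) := by
  classical
  rintro ⟨-, τ₁, hiso, hag⟩
  have hτ : Coh M τ₁ := ⟨hiso, hag⟩
  haveI := hh.primeTI.split.finite_dual
  haveI : Fintype ↥(D1 (W₁.subgroupOf M) (W₂.subgroupOf M)) := Fintype.ofFinite _
  obtain ⟨ζ, hζ⟩ := exists_ref hh
  obtain ⟨χ, F⟩ := hh.primeTI.exists_fam
  obtain ⟨η, E⟩ := PF.exists_eta M (W₁.subgroupOf M) (W₂.subgroupOf M) hh.cyclicTI hh.primeTI.odd
  obtain ⟨ψ, hψ1⟩ : ∃ ψ : ↥(D2 (W₁.subgroupOf M) (W₂.subgroupOf M)), ψ ≠ 1 := by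
    have : Nontrivial ↥(D2 (W₁.subgroupOf M) (W₂.subgroupOf M)) := by
      rw [← Finite.one_lt_card_iff_nontrivial, hh.primeTI.split.card_d2, hh.card₂]
      exact hh.prime.one_lt
    exact exists_ne 1
  obtain ⟨h3, h3', -, -, hcop, -⟩ := hh.w₁_facts
  let good : Finset G := Finset.univ.filter fun g =>
    g ∉ covered hh ∧ (orderOf g).Coprime (Nat.card W₁)
  have hgood : ∀ g ∈ good, (1 : ℝ) ≤ ‖τ₁ ζ g‖ ^ 2 := by
    intro g hg
    obtain ⟨hgc, hgo⟩ := (Finset.mem_filter.mp hg).2
    have hrow := ref_eq_row hh F hζ hτ E ψ.2 (fun e => hψ1 (Subtype.ext e)) (g := g)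
      fun α hα hW => by
        by_contra hne
        rcases hh.tau_support hα hW hne with ⟨a, haK, ha1, -, u, hu, y, hy⟩ | ⟨y, hy⟩
        · refine hgc ((Set.toFinite _).mem_toFinset.mpr ?_)
          show tau M (indK M) g ≠ 0
          rw [show tau M (indK M) g = indK M a from dadeIsometry_apply hh.dade
            (indK_adm hh).1.1 (hh.mem_A0_der haK fun e => ha1 (Subtype.ext e)) hu hy,
            indK_of_mem ⟨haK, ha1⟩]
          exact one_ne_zero
        · refine off_not_coprime hh hy ?_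
          rwa [orderOf_injective (MulAut.conj y).toMonoidHom (MulAut.conj y).injective g |>
            (show orderOf (y * g * y⁻¹) = orderOf g from ·)]
    obtain ⟨n, hn, hsum⟩ := row_odd hh E hgo
    rw [hrow, hsum, Complex.norm_intCast, sq_abs]
    have h1 : (1 : ℤ) ≤ n ^ 2 := (one_le_sq_iff_one_le_abs n).mpr
      (Int.one_le_abs fun e => by simp [e] at hn)
    exact_mod_cast h1
  have htotal : ∑ g, ‖τ₁ ζ g‖ ^ 2 = (Nat.card G : ℝ) := by
    have h1 : normSqFn (τ₁ ζ) = 1 := by
      have := hτ.iso.2.2.1 _ (zspan_subset hζ.mem) _ (zspan_subset hζ.mem)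
      rw [irr_inner_self hζ.irr, inner_self] at this
      exact_mod_cast this
    rw [Coherence.normSqFn] at h1
    have hne : (Nat.card G : ℝ) ≠ 0 := Nat.cast_ne_zero.mpr Nat.card_pos.ne'
    field_simp at h1
    linarith
  have hdisj : Disjoint (covered hh) good :=
    Finset.disjoint_left.mpr fun g hg hg' => (Finset.mem_filter.mp hg').2.1 hg
  have hupper : (good.card : ℝ) + ∑ g ∈ covered hh, ‖τ₁ ζ g‖ ^ 2 ≤ (Nat.card G : ℝ) := by
    rw [← htotal]
    refine le_trans ?_ (Finset.sum_le_sum_of_subset_of_nonneg (Finset.subset_univ (covered hh ∪ good))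
      fun g _ _ => sq_nonneg _)
    rw [Finset.sum_union hdisj, add_comm]
    refine add_le_add le_rfl ?_
    simpa using Finset.card_nsmul_le_sum good _ 1 hgood
  have hcover : Nat.card G ≤ good.card + (covered hh).card + (sat (Partner.supp S)).ncard +
      (sat (offSet W₁ W₂)).ncard := by
    have hsub : (Set.univ : Set G) ⊆ ((good : Set G) ∪ (covered hh : Set G)) ∪
        (sat (Partner.supp S) ∪ sat (offSet W₁ W₂)) := by
      intro g _
      by_cases h1 : g ∈ covered hh
      · exact Or.inl (Or.inr h1)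
      by_cases h2 : (orderOf g).Coprime (Nat.card W₁)
      · exact Or.inl (Or.inl (Finset.mem_filter.mpr ⟨Finset.mem_univ _, h1, h2⟩))
      · exact Or.inr (P.covering hh.minSimple hcop h2)
    have h := (Set.ncard_le_ncard hsub).trans ((Set.ncard_union_le _ _).trans
      (add_le_add (Set.ncard_union_le _ _) (Set.ncard_union_le _ _)))
    rw [Set.ncard_univ, Set.ncard_coe_finset, Set.ncard_coe_finset] at h
    omega
  have hlow := covered_bound hh F hζ hτ
  have hA := card_covered hh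
  have hB := sat_supp_bound hh P
  have hC := sat_off_bound hh
  have hk := card_der_bound hh F
  set n : ℝ := (Nat.card G : ℝ) with hn
  set w : ℝ := (Nat.card W₁ : ℝ) with hw
  set p : ℝ := (Nat.card W₂ : ℝ) with hp
  set k : ℝ := (Nat.card ↥(der M) : ℝ) with hkdef
  set A : ℝ := ((covered hh).card : ℝ)
  set B : ℝ := ((sat (Partner.supp S)).ncard : ℝ)
  set C : ℝ := ((sat (offSet W₁ W₂)).ncard : ℝ)
  have hcover' : n ≤ (good.card : ℝ) + A + B + C := by
    simp only [hn, A, B, C]; exact_mod_cast hcover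
  have hw3 : (3 : ℝ) ≤ w := by rw [hw]; exact_mod_cast h3
  have hp3 : (3 : ℝ) ≤ p := by rw [hp]; exact_mod_cast h3'
  have hnpos : 0 < n := by rw [hn]; exact_mod_cast Nat.card_pos
  have hkbig : (p - 1) * (2 * w - 1) ^ 2 ≤ k - 1 := by
    refine le_of_mul_le_mul_left ?_ (show (0 : ℝ) < w by linarith)
    linarith
  have hk0 : 0 < k - 1 := lt_of_lt_of_le (by nlinarith) hkbig
  have hgood_le : (good.card : ℝ) * (k - 1) ≤ n * w := by
    have h1 : (good.card : ℝ) ≤ n * (w / (k - 1)) := by linarith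
    calc (good.card : ℝ) * (k - 1) ≤ n * (w / (k - 1)) * (k - 1) :=
          mul_le_mul_of_nonneg_right h1 hk0.le
      _ = n * w := by field_simp
  have hA' : A * w ≤ n := by
    refine le_of_mul_le_mul_right ?_ (show (0 : ℝ) < k by linarith)
    rw [hA]
    exact mul_le_mul_of_nonneg_left (by linarith) hnpos.le
  have hgp : 5 * n ≤ 21 * (p * (good.card : ℝ)) := by
    have h1 : n * (w * p) ≤ ((good.card : ℝ) + A + B + C) * (w * p) :=
      mul_le_mul_of_nonneg_right hcover' (by positivity)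
    have h2 : A * w * p ≤ n * p := mul_le_mul_of_nonneg_right hA' (by linarith)
    have h3 : 7 * (B * p) * w ≤ 3 * n * w := mul_le_mul_of_nonneg_right hB (by linarith)
    have h4 : n * 3 ≤ n * w := mul_le_mul_of_nonneg_left hw3 hnpos.le
    have h5 : 5 * n * w ≤ 21 * (p * (good.card : ℝ)) * w := by nlinarith
    exact le_of_mul_le_mul_right h5 (by linarith)
  have hfin : 5 * (k - 1) ≤ 21 * (p * w) := by
    refine le_of_mul_le_mul_left ?_ hnpos
    calc n * (5 * (k - 1)) = 5 * n * (k - 1) := by ring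
      _ ≤ 21 * (p * (good.card : ℝ)) * (k - 1) := mul_le_mul_of_nonneg_right hgp hk0.le
      _ = 21 * p * ((good.card : ℝ) * (k - 1)) := by ring
      _ ≤ 21 * p * (n * w) := mul_le_mul_of_nonneg_left hgood_le (by positivity)
      _ = n * (21 * (p * w)) := by ring
  have h7 : 25 * w / 3 ≤ (2 * w - 1) ^ 2 := by nlinarith
  have h8 : (p - 1) * (25 * w / 3) ≤ (p - 1) * (2 * w - 1) ^ 2 :=
    mul_le_mul_of_nonneg_left h7 (by linarith)
  nlinarith

end Cfsg.Agent.PF10
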