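import Cfsg.Agent.PF10.Extra
import Cfsg.Agent.PF10.Glue
import Cfsg.Agent.PF13.Structure
import Cfsg.Agent.BGUniq.FittingHall
import Cfsg.Agent.S1521

/-!
Peterfalvi (10.10): no maximal subgroup of type V.
-/

set_option autoImplicit false

namespace Cfsg.Agent.PF10

open Cfsg Cfsg.Agent.OddChar Cfsg.Agent.Coherence
open scoped commutatorElement

universe u

variable {G : Type u} [Group G] [Fintype G]

/-- For type V, `calS M` is coherent. -/
theorem coherent_of_typeV (hG : IsMinSimpleOddOrder G) {M W₁ W₂ : Subgroup G} [Fintype ↥M]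
    (hM : IsCoatom M) (hV : IsOfTypeV M) (hP : IsTypePWith M W₁ ⊥ W₂)
    (hor : IsTISubset (fittingHallOf M : Set G) ∨
      (∃ p : ℕ, p.Prime ∧ p ∣ Nat.card (fittingHallOf M) ∧ Nat.card W₁ ∣ p - 1 ∧
        IsCyclic (pPrimeCore p (fittingHallOf M))) ∨
      (∃ p : ℕ, p.Prime ∧ p ∣ Nat.card (fittingHallOf M) ∧
        Nat.card (pCore p (fittingHallOf M)) = p ^ 3 ∧ Nat.card W₁ ∣ p + 1 ∧
        IsCyclic (pPrimeCore p (fittingHallOf M)))) :
    IsCoherent (calS M) {1}ᶜ (tau M) := by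
  classical
  haveI : Fintype ↥(der M) := Fintype.ofFinite _
  have hT := not_typeII_of_V hG hM hV
  have hh : Hyp M W₁ ⊥ W₂ := hyp_of_typeP hG hM hP hT
  have hFM : fittingHallOf M = ⁅M, M⁆ := by
    have := BGSummary.TypeCore.sup_eq hP.U_compl
    rwa [sup_bot_eq] at this
  have h := PF8.typeInputs hG
  obtain ⟨⟨U₀, hKU⟩, -, -⟩ := PF8.decomp_of_typePWith hG hM hP
  have hσ : ⁅M, M⁆ = sigmaCore M :=
    hFM.symm.trans ((BGSummary.typeV_stmt hG h M hM W₁ U₀ hKU).mp hV).2.2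
  have hHall : (Nat.card ↥(⁅M, M⁆ : Subgroup G)).Coprime (⁅M, M⁆ : Subgroup G).index := by
    obtain ⟨h1, h2⟩ := (h.sigma_hall M hM).2.1
    rw [hσ]
    exact Nat.coprime_of_dvd fun p hp hp1 hp2 => h2 p hp (h1 p hp hp1) hp2
  set eK : ↥(der M) ≃* ↥(⁅M, M⁆ : Subgroup G) := Subgroup.subgroupOfEquivOfLe hh.derived_le
    with heK
  haveI hnilF : Group.IsNilpotent ↥(fittingHallOf M) := by
    haveI := BGUniq.fittingHall_isNilpotent ↥M
    exact nilpotent_of_mulEquiv ((fittingHall ↥M).equivMapOfInjective M.subtype M.subtype_injective)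
  haveI hnilD : Group.IsNilpotent ↥(⁅M, M⁆ : Subgroup G) := hFM ▸ hnilF
  have hnil : Group.IsNilpotent ↥(der M) := nilpotent_of_mulEquiv eK.symm
  haveI := hnil
  have hcardK : Nat.card ↥(der M) = Nat.card ↥(⁅M, M⁆ : Subgroup G) := Nat.card_congr eK.toEquiv
  obtain ⟨Rs, hS⟩ := nonempty_system hh
  haveI : (der M).Normal := der_normal' M
  haveI : ((⊥ : Subgroup ↥M).subgroupOf (der M)).Normal := Subgroup.normal_subgroupOf
  have hnilq : Group.IsNilpotent (↥(der M) ⧸ (⊥ : Subgroup ↥M).subgroupOf (der M)) :=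
    nilpotent_of_surjective (QuotientGroup.mk' _) (QuotientGroup.mk'_surjective _)
  haveI hlown : (⁅der M, der M⁆).Normal := Subgroup.commutator_normal _ _
  have hidx : (der M).index = Nat.card W₁ := hh.index_der
  have use21 := fun hgood => S1521.result (der M) (inferInstance : Group.IsSolvable ↥(der M))
    (tau M) Rs hS hh.odd_M ⊥ bot_le hnilq (⁅der M, der M⁆ ⊔ ⊥) rfl
    (by rw [sup_bot_eq]; exact low_lt_der hh hnil) (der_lt_top hh)
    (by rw [sup_bot_eq]; exact frob_top hh) hgood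
  by_cases hpp : ∃ p m : ℕ, p.Prime ∧ (⊥ : Subgroup ↥M).relIndex (der M) = p ^ m
  swap
  · exact use21 (Or.inr (Or.inr (Or.inl hpp)))
  obtain ⟨p, m, hp, hm⟩ := id hpp
  haveI := Fact.mk hp
  rw [Subgroup.relIndex_bot_left] at hm
  have hpK : IsPGroup p ↥(der M) := IsPGroup.of_card hm
  have hpW : Nat.card W₂ = p := by
    have h2 : Nat.card W₂ ∣ p ^ m := by
      rw [← hm, hcardK]
      exact Subgroup.card_dvd_of_le hh.W₂_le_derived
    exact (Nat.prime_dvd_prime_iff_eq hh.prime hp).1 (hh.prime.dvd_of_dvd_pow h2)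
  have hsame : ∀ p', p'.Prime → p' ∣ Nat.card ↥(fittingHallOf M) → p' = p := fun p' hp' hd => by
    rw [hFM, ← hcardK, hm] at hd
    exact (Nat.prime_dvd_prime_iff_eq hp' hp).1 (hp'.dvd_of_dvd_pow hd)
  have hdvd1 : Nat.card W₁ ∣ p - 1 → IsCoherent (calS M) {1}ᶜ (tau M) := fun hd =>
    use21 (Or.inr (Or.inr (Or.inr (Or.inr ⟨p, m, hp, by rw [Subgroup.relIndex_bot_left]; exact hm,
      by rwa [hidx]⟩))))
  rcases hor with hTI | ⟨p', hp', hd, hw, -⟩ | ⟨p', hp', hd, hcore, hw, -⟩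
  · rw [hFM] at hTI
    exact coherent_of_ti hh hTI (hpK.of_equiv eK) hHall
  · obtain rfl := hsame p' hp' hd
    exact hdvd1 hw
  obtain rfl := hsame p' hp' hd
  -- `M'` has order `p³`
  have hpF : IsPGroup p' ↥(fittingHallOf M) := by
    rw [hFM]; exact hpK.of_equiv eK
  have htop : pCore p' ↥(fittingHallOf M) = ⊤ :=
    top_le_iff.1 (le_sSup ⟨Subgroup.normal_top, hpF.to_subgroup ⊤⟩)
  have hK3 : Nat.card ↥(der M) = p' ^ 3 := by
    rw [hcardK, ← hFM, ← hcore, htop, Subgroup.card_top]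
  have hlt := low_lt_der hh hnil
  have hle : ⁅der M, der M⁆ ≤ der M := hlt.le
  obtain ⟨j, hj, hjc⟩ : ∃ j ≤ 3, Nat.card ↥(⁅der M, der M⁆ : Subgroup ↥M) = p' ^ j :=
    (Nat.dvd_prime_pow hp).1 (hK3 ▸ Subgroup.card_dvd_of_le hle)
  have hmul : Nat.card ↥(⁅der M, der M⁆ : Subgroup ↥M) * (⁅der M, der M⁆).relIndex (der M) =
      p' ^ 3 := by
    have h0 := Subgroup.relIndex_mul_relIndex ⊥ (⁅der M, der M⁆) (der M) bot_le hle
    rwa [Subgroup.relIndex_bot_left, Subgroup.relIndex_bot_left, hK3] at h0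
  have hq := index_dvd_relIndex_sub_one (der M) ⁅der M, der M⁆ hle le_rfl (frob_top hh) (der M)
    le_rfl
  rw [hidx] at hq
  rw [hjc] at hmul
  have hp2 := hp.two_le
  have hj0 : j ≠ 0 := fun e => by
    rw [e, pow_zero] at hjc
    have := Subgroup.card_eq_one.1 hjc
    exact hh.primeTI.ne₂ (le_bot_iff.1 ((W₂_le_low hh).trans this.le))
  have hj3 : j ≠ 3 := fun e => hlt.ne (Subgroup.eq_of_le_of_card_ge hle (by rw [hjc, hK3, e]))
  obtain rfl | rfl : j = 1 ∨ j = 2 := by omega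
  swap
  · refine hdvd1 ?_
    have h0 : (⁅der M, der M⁆).relIndex (der M) = p' :=
      Nat.eq_of_mul_eq_mul_left (pow_pos hp.pos 2) (hmul.trans (pow_succ p' 2))
    rwa [h0] at hq
  have hrel : (⁅der M, der M⁆).relIndex (der M) = p' ^ 2 :=
    Nat.eq_of_mul_eq_mul_left hp.pos (by rw [pow_one] at hmul; rw [hmul]; ring)
  by_cases hbig : 4 * (der M).index ^ 2 + 1 < (⁅der M, der M⁆).relIndex (der M)
  · exact use21 (Or.inr (Or.inl (by rwa [sup_bot_eq])))
  rw [hidx, hrel, not_lt] at hbig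
  obtain ⟨h3, h3', ⟨a, ha⟩, ⟨b, hb⟩, -⟩ := hh.w₁_facts
  obtain ⟨k, hk⟩ := hw
  rw [hpW] at h3' hb
  have hk2 : k = 2 := by
    rcases Nat.lt_or_ge k 4 with hk4 | hk4
    · interval_cases k
      · omega
      · omega
      · rfl
      · omega
    · exfalso
      have h4 : 4 * Nat.card W₁ ≤ p' + 1 := by rw [hk]; nlinarith
      obtain ⟨t, ht⟩ := Nat.exists_eq_add_of_le h4
      nlinarith
  refine coherent_of_cube hh hnil (by rw [hpW, hk, hk2]; ring) (by rw [hpW]; exact hK3) ?_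
  rw [hpW, hjc, pow_one]

/-- Peterfalvi (10.10). -/
theorem noV (hG : IsMinSimpleOddOrder G) : PF13.NoV G := by
  intro M hM hV
  classical
  haveI : Fintype ↥M := Fintype.ofFinite _
  obtain ⟨W₁, U, W₂, hP, rfl, hor⟩ := id hV
  exact not_coherent_of_typeP hG hM hP (not_typeII_of_V hG hM hV)
    (coherent_of_typeV hG hM hV hP hor)

end Cfsg.Agent.PF10
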