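import Cfsg.Agent.PF10.Setup
import Cfsg.Agent.Coherence.NilpDegree
import Cfsg.Agent.Lib.CharCore.Linear
import Cfsg.Agent.S1486

/-!
The reference characters of Peterfalvi §10: the characters `μ_j`, their degrees, and the
reference character `ζ` of degree `|W₁|`.
-/

set_option autoImplicit false

namespace Cfsg.Agent.PF10

open Cfsg Cfsg.Agent.OddChar Cfsg.Agent.OddChar.PrimeTI
open Cfsg.Agent.OddChar.CycTI (D1 D2)

universe u

variable {G : Type u} [Group G] [Fintype G] {M W₁ U W₂ : Subgroup G} [Fintype ↥M]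

/-- A reference character: an irreducible member of `calS M` of degree `|W₁|`. -/
structure Ref (M W₁ : Subgroup G) [Fintype ↥M] (ζ : ↥M → ℂ) : Prop where
  mem : ζ ∈ calS M
  irr : IsIrrCharacter ↥M ζ
  deg : ζ 1 = (Nat.card W₁ : ℂ)

/-- A coherent extension of the Dade map to `calS M`. -/
structure Coh (M : Subgroup G) [Fintype ↥M] (τ₁ : (↥M → ℂ) → G → ℂ) : Prop where
  iso : IsLinearIsometryOn (zspan (calS M)) τ₁
  agree : ∀ α ∈ zspanOn (calS M) {1}ᶜ, τ₁ α = tau M α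

/-- The index set of the two families. -/
abbrev Idx (M W₁ W₂ : Subgroup G) := ↥(W₁.subgroupOf M ⊔ W₂.subgroupOf M) →* ℂˣ

/-- The character `μ_j` of `M`, as a sum over a column of the family. -/
noncomputable def mu (χ : Idx M W₁ W₂ → (↥M → ℂ))
    [Fintype ↥(D1 (W₁.subgroupOf M) (W₂.subgroupOf M))] (ψ : Idx M W₁ W₂) : ↥M → ℂ :=
  sgn χ ψ • ∑ φ : ↥(D1 (W₁.subgroupOf M) (W₂.subgroupOf M)), χ (φ.1 * ψ)

/-! ### Members of `calS M` -/

namespace Hyp

variable (hh : Hyp M W₁ U W₂)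
include hh

theorem card₁ : Nat.card (W₁.subgroupOf M) = Nat.card W₁ :=
  Nat.card_congr (Subgroup.subgroupOfEquivOfLe hh.W₁_le).toEquiv

theorem card₂ : Nat.card (W₂.subgroupOf M) = Nat.card W₂ :=
  Nat.card_congr (Subgroup.subgroupOfEquivOfLe hh.W₂_le).toEquiv

theorem index_der : (der M).index = Nat.card W₁ := by
  rw [hh.primeTI.index_K, hh.card₁]

theorem one_not_W₁_W₂ {w : ↥M} (h1 : (w : G) ∈ W₁) (h2 : (w : G) ∈ W₂) : w = 1 :=
  Subtype.ext (Subgroup.mem_bot.mp (hh.data.selfNormalizing.2.2.1.le ⟨h1, h2⟩))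

theorem not_der_W₁ {w : ↥M} (h1 : (w : G) ∈ W₁) (h : w ≠ 1) : w ∉ der M := fun q =>
  h (Subgroup.mem_bot.mp (hh.primeTI.inf.le ⟨q, h1⟩))

theorem member_off {φ : ↥M → ℂ} (hφ : φ ∈ calS M) {x : ↥M} (hx : x ∉ der M) : φ x = 0 := by
  obtain ⟨θ, -, -, -, rfl⟩ := hφ
  haveI := hh.der_normal
  exact indFun_eq_zero_of_notMem _ θ hx

theorem zspan_off {α : ↥M → ℂ} (hα : α ∈ zspan (calS M)) {x : ↥M} (hx : x ∉ der M) : α x = 0 := by
  induction hα using Submodule.span_induction with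
  | mem a ha => exact hh.member_off ha hx
  | zero => rfl
  | add a b _ _ iha ihb => simp [iha, ihb]
  | smul c a _ iha => simp [iha]

omit hh in
theorem zspan_gen {α : ↥M → ℂ} (hα : α ∈ zspan (calS M)) : IsGeneralizedCharacter ↥M α := by
  induction hα using Submodule.span_induction with
  | mem a ha => exact Coherence.gen_of_char (Coherence.seq_isCharacter _ ha)
  | zero => exact Coherence.gen_zero
  | add a b _ _ iha ihb => exact Coherence.gen_add iha ihb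
  | smul c a _ iha => exact Coherence.gen_zsmul iha c

theorem adm_zspanOn {α : ↥M → ℂ} (hα : α ∈ zspanOn (calS M) {1}ᶜ) : Adm M α :=
  ⟨CharCore.IsGeneralizedCharacter.isClassFunction (zspan_gen hα.1),
    hh.supp_der (hα.2 1 (by simp)) fun _ => hh.zspan_off hα.1⟩

/-- Distinct members are orthogonal. -/
theorem member_orth {φ φ' : ↥M → ℂ} (h : φ ∈ calS M) (h' : φ' ∈ calS M) (hne : φ ≠ φ') :
    classInner φ φ' = 0 := by
  haveI := hh.der_normal
  obtain ⟨θ, h0, -, -, rfl⟩ := h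
  obtain ⟨θ', h0', -, -, rfl⟩ := h'
  exact (S1486.result (der M) θ' θ h0' h0).2 fun q =>
    hne ((S1486.result (der M) θ' θ h0' h0).1 q)

end Hyp

/-! ### The family of `M` -/

section Family

variable (hh : Hyp M W₁ U W₂) {χ : Idx M W₁ W₂ → (↥M → ℂ)} (F : Fam hh.primeTI χ)
include F

theorem chi_gen (ω : Idx M W₁ W₂) : IsGeneralizedCharacter ↥M (χ ω) :=
  IsSignedIrr.isGeneralizedCharacter (F.fam.irr_or_neg ω)

theorem chi_twist_K {φ : Idx M W₁ W₂} (hφ : φ ∈ D1 (W₁.subgroupOf M) (W₂.subgroupOf M))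
    (ψ : Idx M W₁ W₂) {k : ↥M} (hk : k ∈ der M) : χ (φ * ψ) k = χ ψ k := by
  rw [F.twist φ hφ ψ]
  simp only [hh.primeTI.infl_K φ hk, Units.val_one, one_mul]

theorem chi_row {φ : Idx M W₁ W₂} (hφ : φ ∈ D1 (W₁.subgroupOf M) (W₂.subgroupOf M)) :
    χ φ = fun g => (hh.primeTI.infl φ g : ℂ) := by
  have h := F.twist φ hφ 1
  rw [show φ * (1 : Idx M W₁ W₂) = φ from MonoidHom.ext fun v => mul_one _] at h
  rw [h, F.fam.map_one]
  simp

theorem chi_row_K {φ : Idx M W₁ W₂} (hφ : φ ∈ D1 (W₁.subgroupOf M) (W₂.subgroupOf M))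
    {k : ↥M} (hk : k ∈ der M) : χ φ k = 1 := by
  rw [chi_row hh F hφ]
  simp [hh.primeTI.infl_K φ hk]

theorem chi_W₁ (ω : Idx M W₁ W₂) {w : ↥M} (hw : (w : G) ∈ W₁) (hw1 : w ≠ 1) :
    χ ω w = (ω ⟨w, Subgroup.mem_sup_left hw⟩ : ℂ) :=
  F.on_off ω ⟨w, Subgroup.mem_sup_left hw⟩ fun h2 => hw1 (hh.one_not_W₁_W₂ hw h2)

/-- Members of `calS M` of norm one are orthogonal to the family. -/
theorem chi_orth {ζ : ↥M → ℂ} (hζ : ζ ∈ calS M) (hirr : IsIrrCharacter ↥M ζ)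
    (ω : Idx M W₁ W₂) : classInner ζ (χ ω) = 0 := by
  obtain ⟨⟨a, ha⟩, ha1⟩ := (Subgroup.ne_bot_iff_exists_ne_one).mp hh.data.W₁_ne
  have h1 : (⟨a, hh.W₁_le ha⟩ : ↥M) ≠ 1 := fun e => ha1 (Subtype.ext (congrArg (fun z : ↥M => (z : G)) e :))
  have hz := hh.member_off hζ (hh.not_der_W₁ (w := ⟨a, hh.W₁_le ha⟩) ha h1)
  have hc := chi_W₁ hh F ω (w := ⟨a, hh.W₁_le ha⟩) ha h1
  rcases signed_eq_or_inner (Or.inl hirr) (F.fam.irr_or_neg ω) with e | e | e
  · rw [e, hc] at hz; exact absurd hz (Units.ne_zero _)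
  · rw [e, Pi.neg_apply, neg_eq_zero, hc] at hz; exact absurd hz (Units.ne_zero _)
  · exact e

variable [Fintype ↥(D1 (W₁.subgroupOf M) (W₂.subgroupOf M))]

theorem mu_eq (ψ : Idx M W₁ W₂) :
    mu χ ψ = indFun (der M) (fun k : der M => (sgn χ ψ • χ ψ) k) := by
  have := hh.der_normal
  haveI : Fintype ↥(der M) := Fintype.ofFinite _
  rw [F.ind_restrict, mu, Finset.smul_sum]
  exact Finset.sum_congr rfl fun φ _ => by rw [F.sgn_eq φ.2]

theorem mu_mem {ψ : Idx M W₁ W₂} (hψ : ψ ∈ D2 (W₁.subgroupOf M) (W₂.subgroupOf M))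
    (hψ1 : ψ ≠ 1) : mu χ ψ ∈ calS M := by
  have := hh.der_normal
  haveI : Fintype ↥(der M) := Fintype.ofFinite _
  refine ⟨_, F.restrict_irr ψ, fun e => hψ1 ?_, fun a ha => ?_, mu_eq hh F ψ⟩
  · refine F.restrict_inj hψ (one_mem _) (e.trans ?_)
    have h1 : sgn χ 1 = 1 := by
      rw [sgn, if_pos]
      rw [F.fam.map_one]
      exact CharCore.isIrrCharacter_one
    funext k
    simp [h1, F.fam.map_one]
  · rw [show a = 1 from Subtype.ext (Subgroup.mem_bot.mp ha)]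

theorem inner_mu_chi {ψ : Idx M W₁ W₂} (hψ : ψ ∈ D2 (W₁.subgroupOf M) (W₂.subgroupOf M))
    {φ : Idx M W₁ W₂} (hφ : φ ∈ D1 (W₁.subgroupOf M) (W₂.subgroupOf M)) :
    classInner (χ (φ * ψ)) (mu χ ψ) = sgn χ ψ := by
  classical
  rw [mu, CharCore.classInner_smul_right, CharCore.classInner_sum_right,
    Finset.sum_eq_single (⟨φ, hφ⟩ : ↥(D1 (W₁.subgroupOf M) (W₂.subgroupOf M))),
    F.fam.orthonormal, if_pos rfl, mul_one]
  · rcases sgn_sq χ ψ with e | e <;> simp [e]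
  · intro b _ hb
    rw [F.fam.orthonormal, if_neg fun q => hb (Subtype.ext
      (CycTI.mul_inj _ _ hφ b.2 hψ hψ q).1.symm)]
  · simp

theorem norm_mu {ψ : Idx M W₁ W₂} (hψ : ψ ∈ D2 (W₁.subgroupOf M) (W₂.subgroupOf M)) :
    classInner (mu χ ψ) (mu χ ψ) = (Nat.card W₁ : ℂ) := by
  classical
  have h : ∀ φ : ↥(D1 (W₁.subgroupOf M) (W₂.subgroupOf M)),
      classInner (χ (φ.1 * ψ)) (mu χ ψ) = sgn χ ψ := fun φ => inner_mu_chi hh F hψ φ.2
  nth_rewrite 1 [mu]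
  rw [CharCore.classInner_smul_left, CharCore.classInner_sum_left,
    Finset.sum_congr rfl fun φ _ => h φ, Finset.sum_const, Finset.card_univ,
    ← Nat.card_eq_fintype_card, hh.primeTI.split.card_d1, hh.card₁, nsmul_eq_mul]
  rcases sgn_sq χ ψ with e | e <;> simp [e]

/-- The degree of `μ_j` is at least `2 |W₁| - 1` per row. -/
theorem degree_bound {ψ : Idx M W₁ W₂} (hψ : ψ ∈ D2 (W₁.subgroupOf M) (W₂.subgroupOf M))
    (hψ1 : ψ ≠ 1) {N : ℤ} (hN : χ ψ 1 - 1 = N * (Nat.card W₁ : ℂ)) :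
    2 * (Nat.card W₁ : ℤ) - 1 ≤ |N * Nat.card W₁ + 1| := by
  haveI : Fintype ↥(der M) := Fintype.ofFinite _
  obtain ⟨hw1, -, ho1, -, -, -⟩ := hh.w₁_facts
  let θ : IrrCharacter ↥(der M) := ⟨_, F.restrict_irr ψ⟩
  set d := charDegree (θ : ↥(der M) → ℂ) with hd
  have hθ1 := Coherence.charDegree_eq (Coherence.irr_isCharacter θ.2)
  rw [← hd] at hθ1
  have hval : (θ : ↥(der M) → ℂ) 1 = sgn χ ψ * ((N * Nat.card W₁ + 1 : ℤ) : ℂ) := by
    show sgn χ ψ * χ ψ ((1 : ↥(der M)) : ↥M) = _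
    rw [OneMemClass.coe_one, show χ ψ 1 = N * (Nat.card W₁ : ℂ) + 1 by linear_combination hN]
    push_cast; ring
  rw [hθ1] at hval
  have habs : (d : ℤ) = |N * Nat.card W₁ + 1| := by
    rcases sgn_sq χ ψ with e | e
    · rw [e, one_mul] at hval
      have : (d : ℤ) = N * Nat.card W₁ + 1 := by exact_mod_cast hval
      rw [← this, Nat.abs_cast]
    · rw [e, neg_one_mul] at hval
      have : (d : ℤ) = -(N * Nat.card W₁ + 1) := by exact_mod_cast hval
      rw [← abs_neg, ← this, Nat.abs_cast]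
  have hodd : Odd d := by
    refine (hh.odd_card.of_dvd_nat ((Subgroup.card_subgroup_dvd_card M))).of_dvd_nat ?_
    exact (Coherence.charDegree_irr_dvd θ).trans (Subgroup.card_subgroup_dvd_card _)
  have hne : d ≠ 1 := by
    intro h1
    rw [h1, Nat.cast_one] at hθ1
    obtain ⟨f, hf⟩ := CharCore.IsCharacter.exists_hom_of_degree_one
      (Coherence.irr_isCharacter θ.2) hθ1
    have hμ : (sgn χ ψ • χ ψ) 1 = 1 := hθ1
    obtain ⟨m, hm⟩ := CharCore.IsCharacter.exists_hom_of_degree_one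
      (Coherence.irr_isCharacter (F.irr_sgn ψ)) hμ
    refine hψ1 (CycTI.eq_of_eq_on _ _ (fun w hw => by rw [hψ w hw]; rfl) fun w hw => ?_)
    show ψ w = 1
    obtain ⟨⟨a, ha⟩, ha1⟩ := (Subgroup.ne_bot_iff_exists_ne_one).mp hh.primeTI.ne₁
    have ha1' : a ≠ 1 := fun e => ha1 (Subtype.ext e)
    have hwd : (w : ↥M) ∈ commutator ↥M ∧ m (w : ↥M) = 1 := by
      refine ⟨by rw [← hh.derived_eq]; exact hh.primeTI.le hw, ?_⟩
      have hk : (w : ↥M) ∈ (commutator ↥M : Subgroup ↥M) := by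
        rw [← hh.derived_eq]; exact hh.primeTI.le hw
      exact (Abelianization.commutator_subset_ker m) hk
    let u : ↥(W₁.subgroupOf M ⊔ W₂.subgroupOf M) := ⟨a, Subgroup.mem_sup_left ha⟩
    have hu : (u : ↥M) ∉ W₂.subgroupOf M := fun q => ha1' (hh.one_not_W₁_W₂ ha q)
    have huw : ((u * w : ↥(W₁.subgroupOf M ⊔ W₂.subgroupOf M)) : ↥M) ∉ W₂.subgroupOf M :=
      fun q => hu (by simpa using (W₂.subgroupOf M).mul_mem q ((W₂.subgroupOf M).inv_mem hw))
    have e1 : (sgn χ ψ • χ ψ) ((u * w : ↥(W₁.subgroupOf M ⊔ W₂.subgroupOf M)) : ↥M) =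
        (sgn χ ψ • χ ψ) (u : ↥M) := by
      rw [show (sgn χ ψ • χ ψ) = fun g => (m g : ℂ) from hm]
      simp only [Subgroup.coe_mul, map_mul, Units.val_mul, hwd.2, Units.val_one, mul_one]
    simp only [Pi.smul_apply, smul_eq_mul, F.on_off ψ _ huw, F.on_off ψ _ hu, map_mul,
      Units.val_mul] at e1
    rcases sgn_sq χ ψ with e | e <;> rw [e] at e1 <;>
      exact Units.ext (by simpa [Units.ne_zero] using e1)
  rw [← habs]
  have hN0 : N ≠ 0 := fun h0 => hne (by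
    rw [h0, zero_mul, zero_add, abs_one] at habs; exact_mod_cast habs)
  have hNe : Even N := by
    by_contra hno
    rw [Int.not_even_iff_odd] at hno
    have h1 : Odd (N * Nat.card W₁) := hno.mul (by exact_mod_cast ho1)
    have h2 : Odd (N * Nat.card W₁ + 1) := by
      rw [← Int.natAbs_odd, show (N * Nat.card W₁ + 1).natAbs = d by
        rw [← Int.natAbs_natCast d, habs, Int.natAbs_abs]]
      exact hodd
    exact (Int.not_even_iff_odd.mpr h2) (h1.add_odd odd_one)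
  obtain ⟨k, rfl⟩ := hNe
  rw [habs]
  rcases lt_trichotomy k 0 with hk | hk | hk
  · rw [abs_of_neg (by nlinarith)]; nlinarith
  · exact absurd (by rw [hk]; ring) hN0
  · rw [abs_of_pos (by nlinarith)]; nlinarith

end Family

end Cfsg.Agent.PF10
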