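import Cfsg.Agent.OddChar.CyclicExist

/-!
Integer arrays of small norm that are additive up to two cells in one row (Peterfalvi (10.5)).
-/

set_option autoImplicit false

namespace Cfsg.Agent.PF10.Grid

open scoped BigOperators

variable {X Y : Type*} [Fintype X] [Fintype Y] [DecidableEq X] [DecidableEq Y]

/-- The array `x + y` with one added at `p` and one removed at `q`. -/
def cell (x : X → ℤ) (y : Y → ℤ) (p q : X × Y) (t : X × Y) : ℤ :=
  x t.1 + y t.2 + (if t = p then 1 else 0) - (if t = q then 1 else 0)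

theorem sum_cell_sq (x : X → ℤ) (y : Y → ℤ) {p q : X × Y} (hpq : p ≠ q) :
    ∑ t, cell x y p q t ^ 2 =
      ∑ t : X × Y, (x t.1 + y t.2) ^ 2 + 2 * ((x p.1 + y p.2) - (x q.1 + y q.2)) + 2 := by
  have h : ∀ t, cell x y p q t ^ 2 = (x t.1 + y t.2) ^ 2 +
      ((if t = p then 2 * (x p.1 + y p.2) + 1 else 0) +
        (if t = q then 1 - 2 * (x q.1 + y q.2) else 0)) := by
    intro t
    unfold cell
    by_cases h1 : t = p
    · subst h1
      rw [if_pos rfl, if_pos rfl, if_neg hpq, if_neg hpq]; ring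
    · rw [if_neg h1, if_neg h1]
      by_cases h2 : t = q
      · subst h2
        rw [if_pos rfl, if_pos rfl]; ring
      · rw [if_neg h2, if_neg h2]; ring
  rw [Finset.sum_congr rfl fun t _ => h t, Finset.sum_add_distrib, Finset.sum_add_distrib,
    Finset.sum_ite_eq' Finset.univ p, Finset.sum_ite_eq' Finset.univ q,
    if_pos (Finset.mem_univ _), if_pos (Finset.mem_univ _)]
  ring

/-- An additive array vanishing at the origin, changed by `±1` in two cells of one row, of norm at
most two, is zero. -/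
theorem eq_zero_of_norm_le_two (hX : 3 ≤ Fintype.card X) (hY : 3 ≤ Fintype.card Y)
    (hne : Fintype.card X + 2 ≤ Fintype.card Y ∨ Fintype.card Y + 2 ≤ Fintype.card X)
    (x : X → ℤ) (y : Y → ℤ) (i₀ : X) (j₀ : Y) (hx : x i₀ = 0) (hy : y j₀ = 0) (i : X) (j : Y)
    (hj : j ≠ j₀) (hb : ∑ t, cell x y (i, j) (i, j₀) t ^ 2 ≤ 2) (k : X) (l : Y) :
    x k + y l = 0 := by
  haveI : Nonempty X := ⟨i⟩
  haveI : Nonempty Y := ⟨j⟩
  have hpq : ((i, j) : X × Y) ≠ (i, j₀) := fun e => hj (congrArg Prod.snd e)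
  have hsum := sum_cell_sq x y hpq
  simp only at hsum
  -- few nonzero entries
  have hfew : (Finset.univ.filter fun t : X × Y => x t.1 + y t.2 ≠ 0).card ≤ 4 := by
    have h1 : (Finset.univ.filter fun t => cell x y (i, j) (i, j₀) t ≠ 0).card ≤ 2 := by
      have : ∑ t ∈ Finset.univ.filter (fun t => cell x y (i, j) (i, j₀) t ≠ 0), (1 : ℤ) ≤
          ∑ t, cell x y (i, j) (i, j₀) t ^ 2 := by
        refine le_trans (Finset.sum_le_sum fun t ht => ?_)
          (Finset.sum_le_sum_of_subset_of_nonneg (Finset.subset_univ _) fun t _ _ => sq_nonneg _)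
        exact (one_le_sq_iff_one_le_abs _).mpr (Int.one_le_abs (Finset.mem_filter.mp ht).2)
      rw [Finset.sum_const, nsmul_eq_mul, mul_one] at this
      exact_mod_cast this.trans hb
    refine (Finset.card_le_card (t := (Finset.univ.filter fun t => cell x y (i, j) (i, j₀) t ≠ 0)
      ∪ {(i, j), (i, j₀)}) fun t ht => ?_).trans ?_
    · by_cases h : t = (i, j) ∨ t = (i, j₀)
      · exact Finset.mem_union_right _ (by simpa using h)
      · rw [not_or] at h
        refine Finset.mem_union_left _ (Finset.mem_filter.mpr ⟨Finset.mem_univ _, ?_⟩)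
        simpa [cell, h.1, h.2] using (Finset.mem_filter.mp ht).2
    · refine (Finset.card_union_le _ _).trans ?_
      have := Finset.card_le_two (a := ((i, j) : X × Y)) (b := (i, j₀))
      omega
  have hline : (∀ k l, x k + y l = 0) ∨
      (∃ j₁ a, ∀ k, x k + y j₁ = a ∧ ∀ l, l ≠ j₁ → x k + y l = 0) ∨
      (∃ i₁ a, ∀ l, x i₁ + y l = a ∧ ∀ k, k ≠ i₁ → x k + y l = 0) := by
    rcases hne with hne | hne
    · have := OddChar.CycTI.additive_few hne (fun k => (x k : ℂ)) (fun l => (y l : ℂ)) (by
        rw [Nat.card_eq_fintype_card, Fintype.card_subtype]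
        refine lt_of_le_of_lt ((Finset.card_le_card fun t ht => ?_).trans hfew) (by omega)
        simp only [Finset.mem_filter, Finset.mem_univ, true_and] at ht ⊢
        exact fun e => ht (by exact_mod_cast congrArg (fun z : ℤ => (z : ℂ)) e))
      rcases this with h | ⟨j₁, a, h⟩ | ⟨i₁, a, h⟩
      · exact Or.inl fun k l => by exact_mod_cast h k l
      · exact Or.inr (Or.inl ⟨j₁, x i + y j₁, fun k => ⟨by exact_mod_cast (h k).1.trans (h i).1.symm,
          fun l hl => by exact_mod_cast (h k).2 l hl⟩⟩)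
      · exact Or.inr (Or.inr ⟨i₁, x i₁ + y j, fun l => ⟨by exact_mod_cast (h l).1.trans (h j).1.symm,
          fun k hk => by exact_mod_cast (h l).2 k hk⟩⟩)
    · have := OddChar.CycTI.additive_few hne (fun l => (y l : ℂ)) (fun k => (x k : ℂ)) (by
        rw [Nat.card_eq_fintype_card, Fintype.card_subtype]
        refine lt_of_le_of_lt ((Finset.card_le_card_of_injOn Prod.swap (fun t ht => ?_)
          Prod.swap_injective.injOn).trans hfew) (by omega)
        simp only [Finset.coe_filter, Finset.mem_filter, Finset.mem_univ, true_and,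
          Set.mem_setOf_eq, Prod.fst_swap, Prod.snd_swap] at ht ⊢
        exact fun e => ht (by rw [add_comm]; exact_mod_cast congrArg (fun z : ℤ => (z : ℂ)) e))
      rcases this with h | ⟨i₁, a, h⟩ | ⟨j₁, a, h⟩
      · exact Or.inl fun k l => by rw [add_comm]; exact_mod_cast h l k
      · refine Or.inr (Or.inr ⟨i₁, x i₁ + y j, fun l => ⟨?_, fun k hk => ?_⟩⟩)
        · have := (h l).1.trans (h j).1.symm
          rw [add_comm (x i₁), add_comm (x i₁)]; exact_mod_cast this
        · rw [add_comm]; exact_mod_cast (h l).2 k hk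
      · refine Or.inr (Or.inl ⟨j₁, x i + y j₁, fun k => ⟨?_, fun l hl => ?_⟩⟩)
        · have := (h k).1.trans (h i).1.symm
          rw [add_comm (x k), add_comm (x i)]; exact_mod_cast this
        · rw [add_comm]; exact_mod_cast (h k).2 l hl
  have hnn : ∀ t : X × Y, 0 ≤ (x t.1 + y t.2) ^ 2 := fun t => sq_nonneg _
  rcases hline with h | ⟨j₁, a, h⟩ | ⟨i₁, a, h⟩
  · exact h k l
  · suffices ha : a = 0 by
      by_cases hl : l = j₁
      · rw [hl, (h k).1, ha]
      · exact (h k).2 l hl
    by_cases h0 : j₁ = j₀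
    · have := (h i₀).1
      rw [h0, hx, hy] at this
      linarith
    have hcol : (Fintype.card X : ℤ) * a ^ 2 ≤ ∑ t : X × Y, (x t.1 + y t.2) ^ 2 := by
      rw [Fintype.sum_prod_type]
      calc (Fintype.card X : ℤ) * a ^ 2 = ∑ _k : X, a ^ 2 := by simp
        _ ≤ _ := Finset.sum_le_sum fun k _ => by
          refine le_trans ?_ (Finset.single_le_sum (fun l _ => hnn (k, l)) (Finset.mem_univ j₁))
          simp only
          rw [(h k).1]
    have hq : x i + y j₀ = 0 := (h i).2 j₀ (Ne.symm h0)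
    have hX' : (3 : ℤ) ≤ Fintype.card X := by exact_mod_cast hX
    by_contra ha
    have ha1 : (1 : ℤ) ≤ a ^ 2 := (one_le_sq_iff_one_le_abs _).mpr (Int.one_le_abs ha)
    by_cases hjj : j = j₁
    · rw [hjj, (h i).1] at hsum
      rw [hjj] at hb
      nlinarith [sq_nonneg (a + 1)]
    · rw [(h i).2 j hjj] at hsum
      nlinarith
  · have hdiff : x i + y j - (x i + y j₀) = 0 := by
      by_cases hi : i = i₁
      · rw [hi, (h j).1, (h j₀).1, sub_self]
      · rw [(h j).2 i hi, (h j₀).2 i hi, sub_self]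
    rw [hdiff] at hsum
    have hz : ∑ t : X × Y, (x t.1 + y t.2) ^ 2 = 0 :=
      le_antisymm (by linarith) (Finset.sum_nonneg fun t _ => hnn t)
    have := (Finset.sum_eq_zero_iff_of_nonneg fun t _ => hnn t).mp hz (k, l) (Finset.mem_univ _)
    exact (pow_eq_zero_iff two_ne_zero).mp this

end Cfsg.Agent.PF10.Grid
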