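import Cfsg.Agent.PF10.Basic
import Cfsg.Agent.PF10.Grid
import Cfsg.Agent.OddChar.Twist
import Cfsg.Agent.S0161

/-!
Peterfalvi (10.5) and (10.6): if `calS M` is coherent, the Dade map on the bridge characters
`χ(φψ) - χ(φ) - n ζ`, and the image of the column characters.
-/

set_option autoImplicit false

namespace Cfsg.Agent.PF10

open Cfsg Cfsg.Agent.OddChar Cfsg.Agent.OddChar.PrimeTI Cfsg.Agent.Coherence
open Cfsg.Agent.OddChar.CycTI (D1 D2 offSet)
open scoped ComplexConjugate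

universe u

variable {G : Type u} [Group G] [Fintype G] {M W₁ U W₂ : Subgroup G} [Fintype ↥M]

/-- The bridge `χ(φψ) - χ(φ) - N ζ`. -/
noncomputable def bridge (χ : Idx M W₁ W₂ → (↥M → ℂ)) (ζ : ↥M → ℂ) (N : ℤ)
    (φ ψ : Idx M W₁ W₂) : ↥M → ℂ :=
  χ (φ * ψ) - χ φ - (N : ℂ) • ζ

theorem off_mem (hh : Hyp M W₁ U W₂) {w : ↥(W₁.subgroupOf M ⊔ W₂.subgroupOf M)}
    (h1 : (w : ↥M) ∉ W₁.subgroupOf M) (h2 : (w : ↥M) ∉ W₂.subgroupOf M) :
    ((w : ↥M) : G) ∈ offSet W₁ W₂ :=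
  ⟨hh.mem_W w.2, fun q => q.elim h1 h2⟩

variable (hh : Hyp M W₁ U W₂)

/-! ### The reference character -/

namespace Ref

variable {ζ : ↥M → ℂ} (hζ : Ref M W₁ ζ)
include hh hζ

theorem conj_mem : conjFun ζ ∈ calS M := seq_conj (der M) hζ.mem

theorem conj_irr : IsIrrCharacter ↥M (conjFun ζ) := isIrrCharacter_map (starRingEnd ℂ) hζ.irr

theorem conj_ne : conjFun ζ ≠ ζ := by
  intro e
  have h1 := S0161.result (hh.odd_card.of_dvd_nat (Subgroup.card_subgroup_dvd_card M))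
    ⟨ζ, hζ.irr⟩ fun g => by
      have := congrFun e g
      simp only [conjFun] at this
      exact Complex.conj_eq_iff_im.1 this
  obtain ⟨⟨a, ha⟩, ha1⟩ := (Subgroup.ne_bot_iff_exists_ne_one).mp hh.data.W₁_ne
  have h2 := hh.member_off hζ.mem (hh.not_der_W₁ (w := ⟨a, hh.W₁_le ha⟩) ha
    fun e => ha1 (Subtype.ext (congrArg (fun z : ↥M => (z : G)) e :)))
  rw [show ζ ⟨a, hh.W₁_le ha⟩ = 1 from congrFun h1 _] at h2
  exact one_ne_zero h2

theorem inner_one : classInner ζ (fun _ => 1) = 0 := by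
  refine irr_inner_ne hζ.irr CharCore.isIrrCharacter_one fun e => ?_
  have := congrFun e 1
  rw [hζ.deg] at this
  obtain ⟨h3, -⟩ := hh.w₁_facts
  have : Nat.card W₁ = 1 := by exact_mod_cast this
  omega

theorem sub_conj_mem : ζ - conjFun ζ ∈ zspanOn (calS M) {1}ᶜ :=
  mem_zspanOn_one.2 ⟨zspan_sub (zspan_subset hζ.mem) (zspan_subset (hζ.conj_mem hh)), by
    rw [Pi.sub_apply, conjFun, hζ.deg, map_natCast, sub_self]⟩

end Ref

/-! ### Orthogonality of the coherent images to the family of `G` -/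

section Orth

variable {η : Idx M W₁ W₂ → G → ℂ} (E : PF.Eta M (W₁.subgroupOf M) (W₂.subgroupOf M) η)
include hh E

omit [Fintype ↥M] in
theorem orth_eta_of_pair {X X' : G → ℂ} (hX : IsSignedIrr X) (hX' : IsSignedIrr X')
    (hXX : classInner X X' = 0) (h1 : classInner (X - X') (fun _ => 1) = 0)
    (hV : ∀ w : ↥(W₁.subgroupOf M ⊔ W₂.subgroupOf M), (w : ↥M) ∉ W₁.subgroupOf M →
      (w : ↥M) ∉ W₂.subgroupOf M → (X - X') ((w : ↥M) : G) = 0)
    (ω : Idx M W₁ W₂) : classInner X (η ω) = 0 := by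
  classical
  haveI : Fintype ↥M := Fintype.ofFinite _
  have hs := hh.primeTI.split
  haveI := hs.finite_dual
  haveI : Fintype ↥(D1 (W₁.subgroupOf M) (W₂.subgroupOf M)) := Fintype.ofFinite _
  haveI : Fintype ↥(D2 (W₁.subgroupOf M) (W₂.subgroupOf M)) := Fintype.ofFinite _
  obtain ⟨p, hp⟩ := E.exists_point hX
  obtain ⟨q, hq⟩ := E.exists_point hX'
  have hcl : IsClassFunction G (X - X') := CharCore.IsGeneralizedCharacter.isClassFunction
    (gen_sub hX.isGeneralizedCharacter hX'.isGeneralizedCharacter)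
  obtain ⟨p1, hp1, p2, hp2, hpe⟩ := CycTI.exists_factor _ _ hs.disj hs.comm p
  obtain ⟨q1, hq1, q2, hq2, hqe⟩ := CycTI.exists_factor _ _ hs.disj hs.comm q
  obtain ⟨-, -, h31, h32, -⟩ := CycTI.card_facts hh.primeTI.selfNorm hh.primeTI.odd
  have hc1 : classInner (X - X') (η 1) = 0 := by rw [E.map_one]; exact h1
  have hadd : ∀ φ ∈ D1 (W₁.subgroupOf M) (W₂.subgroupOf M),
      ∀ ψ ∈ D2 (W₁.subgroupOf M) (W₂.subgroupOf M), classInner (X - X') (η (φ * ψ)) =
        classInner (X - X') (η φ) + classInner (X - X') (η ψ) := fun φ hφ ψ hψ => by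
    rw [E.additive _ hcl hV φ hφ ψ hψ, hc1, sub_zero]
  have hzero : ∀ ω', classInner (X - X') (η ω') = 0 := by
    intro ω'
    obtain ⟨φ, hφ, ψ, hψ, rfl⟩ := CycTI.exists_factor _ _ hs.disj hs.comm ω'
    rw [hadd φ hφ ψ hψ]
    refine CycTI.additive_sparse (X := ↥(D1 (W₁.subgroupOf M) (W₂.subgroupOf M)))
      (Y := ↥(D2 (W₁.subgroupOf M) (W₂.subgroupOf M)))
      (by rw [← Nat.card_eq_fintype_card, hs.card_d1]; exact h31)
      (by rw [← Nat.card_eq_fintype_card, hs.card_d2]; exact h32)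
      (fun a => classInner (X - X') (η a.1)) (fun b => classInner (X - X') (η b.1))
      (⟨p1, hp1⟩, ⟨p2, hp2⟩) (⟨q1, hq1⟩, ⟨q2, hq2⟩) (fun a b na nb => ?_) ⟨φ, hφ⟩ ⟨ψ, hψ⟩
    rw [← hadd a.1 a.2 b.1 b.2, CharCore.classInner_sub_left, hp _ fun e => na ?_,
      hq _ fun e => nb ?_, sub_zero]
    · obtain ⟨u, v⟩ := CycTI.mul_inj _ _ a.2 hq1 b.2 hq2 (e.trans hqe.symm)
      exact Prod.ext (Subtype.ext u) (Subtype.ext v)
    · obtain ⟨u, v⟩ := CycTI.mul_inj _ _ a.2 hp1 b.2 hp2 (e.trans hpe.symm)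
      exact Prod.ext (Subtype.ext u) (Subtype.ext v)
  have heq : classInner X' (η ω) = classInner X (η ω) := by
    have := hzero ω
    rw [CharCore.classInner_sub_left, sub_eq_zero] at this
    exact this.symm
  by_contra hne
  rcases signed_eq_or_inner hX (E.signed ω) with a | a | a
  · rcases signed_eq_or_inner hX' (E.signed ω) with b | b | b
    · rw [a, b, E.self] at hXX; exact one_ne_zero hXX
    · rw [a, b, CharCore.classInner_neg_right, E.self] at hXX; norm_num at hXX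
    · exact hne (heq ▸ b)
  · rcases signed_eq_or_inner hX' (E.signed ω) with b | b | b
    · rw [a, b, CharCore.classInner_neg_left, E.self] at hXX; norm_num at hXX
    · rw [a, b, CharCore.classInner_neg_left, CharCore.classInner_neg_right, neg_neg, E.self]
        at hXX
      exact one_ne_zero hXX
    · exact hne (heq ▸ b)
  · exact hne a

end Orth

section Coherent

variable {ζ : ↥M → ℂ} (hζ : Ref M W₁ ζ) {τ₁ : (↥M → ℂ) → G → ℂ} (hτ : Coh M τ₁)
include hh hζ hτ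

theorem signed_image {φ : ↥M → ℂ} (hφ : φ ∈ calS M) (hirr : IsIrrCharacter ↥M φ) :
    IsSignedIrr (τ₁ φ) :=
  gen_norm_one (hτ.iso.2.2.2 _ (zspan_subset hφ)) (by
    rw [hτ.iso.2.2.1 _ (zspan_subset hφ) _ (zspan_subset hφ), irr_inner_self hirr])

variable {η : Idx M W₁ W₂ → G → ℂ} (E : PF.Eta M (W₁.subgroupOf M) (W₂.subgroupOf M) η)

theorem tau_sub_conj : tau M (ζ - conjFun ζ) = τ₁ ζ - τ₁ (conjFun ζ) := by
  rw [← hτ.agree _ (hζ.sub_conj_mem hh),
    iso_map_sub hτ.iso (zspan_subset hζ.mem) (zspan_subset (hζ.conj_mem hh))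
      (zspan_neg (zspan_subset (hζ.conj_mem hh)))]

include E

theorem orth_eta (ω : Idx M W₁ W₂) :
    classInner (τ₁ ζ) (η ω) = 0 ∧ classInner (τ₁ (conjFun ζ)) (η ω) = 0 := by
  have hX := signed_image hh hζ hτ hζ.mem hζ.irr
  have hX' := signed_image hh hζ hτ (hζ.conj_mem hh) (hζ.conj_irr hh)
  have hA := hh.adm_zspanOn (hζ.sub_conj_mem hh)
  have h0 : classInner (τ₁ ζ) (τ₁ (conjFun ζ)) = 0 := by
    rw [hτ.iso.2.2.1 _ (zspan_subset hζ.mem) _ (zspan_subset (hζ.conj_mem hh)),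
      irr_inner_ne hζ.irr (hζ.conj_irr hh) (hζ.conj_ne hh).symm]
  have h1 : classInner (τ₁ ζ - τ₁ (conjFun ζ)) (fun _ => 1) = 0 := by
    rw [← tau_sub_conj hh hζ hτ, hh.tau_inner_one hA, CharCore.classInner_sub_left,
      hζ.inner_one hh]
    have : classInner (conjFun ζ) (fun _ => 1) = conj (classInner ζ (fun _ => 1)) := by
      simp [classInner, conjFun, map_sum]
    rw [this, hζ.inner_one hh, map_zero, sub_zero]
  have hV : ∀ w : ↥(W₁.subgroupOf M ⊔ W₂.subgroupOf M), (w : ↥M) ∉ W₁.subgroupOf M →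
      (w : ↥M) ∉ W₂.subgroupOf M → (τ₁ ζ - τ₁ (conjFun ζ)) ((w : ↥M) : G) = 0 := by
    intro w a b
    rw [← tau_sub_conj hh hζ hτ, hh.tau_off hA.1 (off_mem hh a b)]
    exact hh.zspan_off (hζ.sub_conj_mem hh).1 fun q =>
      b (hh.primeTI.mem_W2_of_K w q)
  refine ⟨orth_eta_of_pair hh E hX hX' h0 h1 hV ω, ?_⟩
  refine orth_eta_of_pair hh E hX' hX (by rw [← CharCore.conj_classInner, h0, map_zero]) ?_ ?_ ω
  · rw [show τ₁ (conjFun ζ) - τ₁ ζ = -(τ₁ ζ - τ₁ (conjFun ζ)) from (neg_sub _ _).symm,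
      CharCore.classInner_neg_left, h1, neg_zero]
  · intro w a b
    have := hV w a b
    simp only [Pi.sub_apply] at this ⊢
    linear_combination -this

end Coherent

/-! ### The bridge -/

section Main

variable {χ : Idx M W₁ W₂ → (↥M → ℂ)} (F : Fam hh.primeTI χ) {ζ : ↥M → ℂ} (hζ : Ref M W₁ ζ)
variable {φ ψ : Idx M W₁ W₂} (hφ : φ ∈ D1 (W₁.subgroupOf M) (W₂.subgroupOf M))
variable (hψ : ψ ∈ D2 (W₁.subgroupOf M) (W₂.subgroupOf M)) (hψ1 : ψ ≠ 1)
variable {N : ℤ} (hN : χ ψ 1 - 1 = N * (Nat.card W₁ : ℂ))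
include F hζ hφ

theorem bridge_gen : IsGeneralizedCharacter ↥M (bridge χ ζ N φ ψ) := by
  rw [bridge, Int.cast_smul_eq_zsmul]
  exact gen_sub (gen_sub (chi_gen hh F _) (chi_gen hh F _))
    (gen_zsmul (irr_gen hζ.irr) N)

include hψ hN

theorem bridge_adm : Adm M (bridge χ ζ N φ ψ) ∧
    ∀ w : ↥M, (w : G) ∈ W₁ → w ≠ 1 → bridge χ ζ N φ ψ w = 0 := by
  have hW : ∀ w : ↥M, (w : G) ∈ W₁ → w ≠ 1 → bridge χ ζ N φ ψ w = 0 := by
    intro w hw hw1
    simp only [bridge, Pi.sub_apply, Pi.smul_apply, chi_W₁ hh F _ hw hw1,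
      hh.member_off hζ.mem (hh.not_der_W₁ hw hw1), MonoidHom.mul_apply, smul_zero, sub_zero]
    rw [hψ ⟨w, Subgroup.mem_sup_left hw⟩ hw, mul_one, sub_self]
  have hcl := CharCore.IsGeneralizedCharacter.isClassFunction
    (bridge_gen hh F hζ hφ (ψ := ψ) (N := N))
  refine ⟨⟨hcl, hh.supp_of hcl ?_ hW⟩, hW⟩
  simp only [bridge, Pi.sub_apply, Pi.smul_apply, smul_eq_mul, F.twist φ hφ ψ, chi_row hh F hφ,
    map_one, Units.val_one, one_mul, hζ.deg]
  linear_combination hN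

include hψ1

theorem bridge_norm : classInner (bridge χ ζ N φ ψ) (bridge χ ζ N φ ψ) = ((2 + N ^ 2 : ℤ) : ℂ) := by
  classical
  have hne : φ * ψ ≠ φ := fun e => hψ1
    (CycTI.mul_inj _ _ hφ hφ hψ (one_mem _) (by rw [e]; exact (mul_one φ).symm)).2
  have h2 : ∀ ω, classInner (χ ω) ζ = 0 := fun ω => by
    rw [← CharCore.conj_classInner, chi_orth hh F hζ.mem hζ.irr, map_zero]
  simp only [bridge, CharCore.classInner_sub_left, CharCore.classInner_sub_right,
    CharCore.classInner_smul_left, CharCore.classInner_smul_right, F.fam.orthonormal,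
    chi_orth hh F hζ.mem hζ.irr, h2, irr_inner_self hζ.irr, map_intCast, if_neg hne,
    if_neg hne.symm, if_true]
  push_cast; ring

variable [Fintype ↥(D1 (W₁.subgroupOf M) (W₂.subgroupOf M))]

open Classical in
theorem bridge_member {μ : ↥M → ℂ} (hμ : μ ∈ calS M) :
    classInner (bridge χ ζ N φ ψ) μ =
      (if μ = mu χ ψ then sgn χ ψ else 0) - (if μ = ζ then (N : ℂ) else 0) := by
  haveI := hh.der_normal
  haveI : Fintype ↥(der M) := Fintype.ofFinite _
  have h2 : classInner (χ φ) μ = 0 := by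
    obtain ⟨θ, h0, h1, -, rfl⟩ := hμ
    rw [CharInd.classInner_indFun_right _ _
      (CharCore.IsGeneralizedCharacter.isClassFunction (chi_gen hh F φ)),
      show (fun k : der M => χ φ k) = fun _ => 1 from funext fun k => chi_row_K hh F hφ k.2]
    exact irr_inner_ne CharCore.isIrrCharacter_one h0 (Ne.symm h1)
  have h3 : classInner ζ μ = if μ = ζ then 1 else 0 := by
    split_ifs with h
    · rw [h, irr_inner_self hζ.irr]
    · exact hh.member_orth hζ.mem hμ (Ne.symm h)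
  have h1 : classInner (χ (φ * ψ)) μ = if μ = mu χ ψ then sgn χ ψ else 0 := by
    split_ifs with h
    · rw [h, inner_mu_chi hh F hψ hφ]
    · have hm := hh.member_orth (mu_mem hh F hψ hψ1) hμ (Ne.symm h)
      obtain ⟨θ, h0, -, -, rfl⟩ := hμ
      rw [CharInd.classInner_indFun_right _ _
        (CharCore.IsGeneralizedCharacter.isClassFunction (chi_gen hh F _)),
        show (fun k : der M => χ (φ * ψ) k) =
            sgn χ ψ • fun k : der M => (sgn χ ψ • χ ψ) k from funext fun k => by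
          simp only [Pi.smul_apply, smul_eq_mul, chi_twist_K hh F hφ ψ k.2]
          rcases sgn_sq χ ψ with e | e <;> simp [e],
        CharCore.classInner_smul_left]
      rw [irr_inner_ne (F.restrict_irr ψ) h0 fun e => h ?_, mul_zero]
      rw [mu_eq hh F, e]
  rw [bridge, CharCore.classInner_sub_left, CharCore.classInner_sub_left,
    CharCore.classInner_smul_left, h1, h2, h3, sub_zero]
  split_ifs <;> simp

variable {τ₁ : (↥M → ℂ) → G → ℂ} (hτ : Coh M τ₁)
include hτ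

/-- The inner product of the image of the bridge with the image of a member. -/
theorem tau_bridge_member {μ : ↥M → ℂ} (hμ : μ ∈ calS M) :
    classInner (tau M (bridge χ ζ N φ ψ)) (τ₁ μ) =
      (((μ 1).re / Nat.card W₁ : ℝ) : ℂ) *
        (classInner (tau M (bridge χ ζ N φ ψ)) (τ₁ ζ) - classInner (bridge χ ζ N φ ψ) ζ) +
      classInner (bridge χ ζ N φ ψ) μ := by
  obtain ⟨θ, h0, -, -, hμe⟩ := id hμ
  obtain ⟨m, hm⟩ := CharCore.IsCharacter.exists_degree (irr_isCharacter h0)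
  have hμ1 : μ 1 = (m : ℂ) * (Nat.card W₁ : ℂ) := by
    rw [hμe, CharInd.indFun_apply_one, hh.index_der, hm, mul_comm]
  have hre : (((μ 1).re / Nat.card W₁ : ℝ) : ℂ) = (m : ℂ) := by
    have hw : (Nat.card W₁ : ℝ) ≠ 0 := Nat.cast_ne_zero.mpr Nat.card_pos.ne'
    rw [hμ1, show ((m : ℂ) * (Nat.card W₁ : ℂ)) = (((m : ℝ) * Nat.card W₁ : ℝ) : ℂ) by push_cast; rfl,
      Complex.ofReal_re, mul_div_assoc, div_self hw, mul_one]
    push_cast; rfl
  have hz : (m : ℤ) • ζ - μ ∈ zspanOn (calS M) {1}ᶜ :=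
    mem_zspanOn_one.2 ⟨zspan_sub (zspan_zsmul _ (zspan_subset hζ.mem)) (zspan_subset hμ), by
      simp [hμ1, hζ.deg]⟩
  obtain ⟨hA, -⟩ := bridge_adm hh F hζ hφ hψ hN
  have he : tau M ((m : ℤ) • ζ - μ) = (m : ℂ) • τ₁ ζ - τ₁ μ := by
    rw [← hτ.agree _ hz, iso_map_sub hτ.iso (zspan_zsmul _ (zspan_subset hζ.mem))
      (zspan_subset hμ) (zspan_neg (zspan_subset hμ)), hτ.iso.2.1 _ (zspan_subset hζ.mem),
      zsmul_eq, Int.cast_natCast]
  have key := hh.tau_inner hA (hh.adm_zspanOn hz)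
  rw [he, CharCore.classInner_sub_right, CharCore.classInner_smul_right,
    CharCore.classInner_sub_right, zsmul_eq, Int.cast_natCast, CharCore.classInner_smul_right,
    map_natCast] at key
  rw [hre]
  linear_combination -key

end Main

end Cfsg.Agent.PF10
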