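import Cfsg.Agent.PF10.Graft
import Cfsg.Agent.Coherence.Sibley
import Cfsg.Agent.PF.PrimeColumn

/-!
The coefficient by which a member of `calS M` fails to be anchored at the members of least
degree, its bounds, and the coherence criterion through a divisibility of their weighted sum.
-/

set_option autoImplicit false

namespace Cfsg.Agent.PF10

open Cfsg Cfsg.Agent.OddChar Cfsg.Agent.Coherence
open scoped ComplexConjugate

universe u

variable {G : Type u} [Group G] [Fintype G] {M W₁ U W₂ : Subgroup G} [Fintype ↥M]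

/-- The degree of an irreducible character of `M'`. -/
noncomputable abbrev deg (θ : IrrCharacter ↥(der M)) : ℕ := charDegree (θ : der M → ℂ)

/-- `t ζ - Ind θ` with `t = θ(1)`. -/
noncomputable abbrev anchor (ζ : ↥M → ℂ) (θ : IrrCharacter ↥(der M)) : ↥M → ℂ :=
  (deg θ : ℤ) • ζ - indFun (der M) (θ : der M → ℂ)

/-- The failure of `Ind θ` to be anchored at `ζ`. -/
noncomputable def coef (τ₂ : (↥M → ℂ) → G → ℂ) (ζ : ↥M → ℂ) (θ : IrrCharacter ↥(der M)) : ℂ :=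
  (deg θ : ℂ) - classInner (tau M (anchor ζ θ)) (τ₂ ζ)

/-- The characters of `M'` nontrivial on `Z`. -/
noncomputable abbrev offZ (Z : Subgroup ↥M) : Finset (IrrCharacter ↥(der M)) :=
  open Classical in irrNP (der M) ⊥ \ irrNP (der M) Z

theorem deg_eq (θ : IrrCharacter ↥(der M)) : (θ : der M → ℂ) 1 = (deg θ : ℂ) := by
  haveI : Fintype ↥(der M) := Fintype.ofFinite _
  exact Coherence.charDegree_eq (irr_isCharacter θ.2)

theorem deg_pos (θ : IrrCharacter ↥(der M)) : 0 < deg θ := by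
  haveI : Fintype ↥(der M) := Fintype.ofFinite _
  exact Coherence.charDegree_irr_pos θ

theorem offZ_mem {Z : Subgroup ↥M} {θ : IrrCharacter ↥(der M)} :
    θ ∈ offZ Z ↔ ¬ TrivOn (der M) Z (θ : der M → ℂ) := by
  classical
  rw [Finset.mem_sdiff, mem_irrNP, mem_irrNP]
  constructor
  · exact fun h hZ => h.2 ⟨h.1.1, hZ⟩
  · intro h
    refine ⟨⟨fun e => h fun a _ => by rw [e], fun a ha => by
      rw [show a = 1 from Subtype.ext (Subgroup.mem_bot.1 ha)]⟩, fun h' => h h'.2⟩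

variable (hh : Hyp M W₁ U W₂)
include hh

theorem low_irr {η : ↥M → ℂ} (h : η ∈ lowS M) : IsIrrCharacter ↥M η := by
  classical
  obtain ⟨θ, hθ, rfl⟩ := (mem_seqFinset _).1 h
  have hθ0 : θ ∈ irrNP (der M) ⊥ := (mem_irrNP _).2 ⟨((mem_irrNP _).1 hθ).1, fun a ha => by
    rw [show a = 1 from Subtype.ext (Subgroup.mem_bot.1 ha)]⟩
  obtain ⟨t, -, -, hdeg, hcase⟩ := member_cases hh hθ0
  have ht : t = 1 := by
    have e := hdeg.symm.trans (low_degree hh h)
    have e' : Nat.card W₁ * t = Nat.card W₁ * 1 := by rw [mul_one]; exact_mod_cast e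
    exact Nat.eq_of_mul_eq_mul_left Nat.card_pos e'
  rcases hcase with h' | ⟨-, -, h2⟩
  · exact h'.1
  · obtain ⟨h3, -⟩ := hh.w₁_facts
    omega

theorem offZ_not_low {Z : Subgroup ↥M} [Z.Normal] (hZH : Z ≤ ⁅der M, der M⁆)
    {θ : IrrCharacter ↥(der M)} (hθ : θ ∈ offZ Z) :
    θ ∈ irrNP (der M) ⊥ ∧ indFun (der M) (θ : der M → ℂ) ∉ lowS M := by
  classical
  refine ⟨(Finset.mem_sdiff.1 hθ).1, fun h => offZ_mem.1 hθ ?_⟩
  obtain ⟨ψ, hψ, e⟩ := (mem_seqFinset _).1 h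
  obtain ⟨g, rfl⟩ := (ind_eq_iff (der M) θ ψ).1 e.symm
  have hψZ : ψ ∈ irrNP (der M) Z := (mem_irrNP _).2
    ⟨((mem_irrNP _).1 hψ).1, fun a ha => ((mem_irrNP _).1 hψ).2 a (hZH ha)⟩
  exact ((mem_irrNP _).1 (conjIrr_mem (der M) hψZ g)).2

theorem sum_offZ (Z : Subgroup ↥M) [Z.Normal] :
    ∑ θ ∈ offZ Z, (deg θ : ℝ) ^ 2 =
      (Nat.card (der M) : ℝ) - (Z.relIndex (der M) : ℝ) := by
  classical
  have hsub : irrNP (der M) Z ⊆ irrNP (der M) ⊥ := fun θ h => (mem_irrNP _).2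
    ⟨((mem_irrNP _).1 h).1, fun a ha => by
      rw [show a = 1 from Subtype.ext (Subgroup.mem_bot.1 ha)]⟩
  have h := Finset.sum_sdiff (f := fun θ : IrrCharacter ↥(der M) => ((θ : der M → ℂ) 1).re ^ 2)
    hsub
  rw [sum_irrNP, sum_irrNP, Subgroup.relIndex_bot_left] at h
  have e : ∀ θ ∈ offZ Z, (deg θ : ℝ) ^ 2 = ((θ : der M → ℂ) 1).re ^ 2 := fun θ _ => by
    rw [deg_eq, Complex.natCast_re]
  rw [Finset.sum_congr rfl e]
  linarith

variable {Rs : (↥M → ℂ) → Finset (G → ℂ)} (hS : IsCoherenceSystem (calS M) (tau M) Rs)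
variable {τ₂ : (↥M → ℂ) → G → ℂ} (hτ : LowCoh M τ₂) {ζ : ↥M → ℂ} (hζ : ζ ∈ lowS M)
include hS hτ hζ

theorem anchor_mem {θ : IrrCharacter ↥(der M)} (hθ : θ ∈ irrNP (der M) ⊥) :
    anchor ζ θ ∈ zspanOn (calS M) {1}ᶜ := by
  refine mem_zspanOn_one.2 ⟨zspan_sub (zspan_zsmul _ (zspan_subset (low_subset hh hζ)))
    (zspan_subset ((mem_seq_iff _).2 ⟨θ, hθ, rfl⟩)), ?_⟩
  simp [anchor, low_degree hh hζ, CharInd.indFun_apply_one, hh.index_der, deg_eq]
  ring

theorem anchor_inner {θ : IrrCharacter ↥(der M)} (hθ : θ ∈ irrNP (der M) ⊥)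
    (hnot : indFun (der M) (θ : der M → ℂ) ∉ lowS M) {η : ↥M → ℂ} (hη : η ∈ lowS M) :
    classInner (anchor ζ θ) η = if η = ζ then (deg θ : ℂ) else 0 := by
  have e1 : classInner (indFun (der M) (θ : der M → ℂ)) η = 0 :=
    hS.orthogonal _ ((mem_seq_iff _).2 ⟨θ, hθ, rfl⟩) _ (low_subset hh hη) fun e => hnot (e ▸ hη)
  rw [anchor, Coherence.inner_sub_left, inner_zsmul_left, e1]
  split_ifs with h
  · rw [h, irr_inner_self (low_irr hh hζ)]; push_cast; ring
  · rw [irr_inner_ne (low_irr hh hζ) (low_irr hh hη) (Ne.symm h)]; simp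

theorem coef_spec {θ : IrrCharacter ↥(der M)} (hθ : θ ∈ irrNP (der M) ⊥)
    (hnot : indFun (der M) (θ : der M → ℂ) ∉ lowS M) {η : ↥M → ℂ} (hη : η ∈ lowS M) :
    classInner (tau M (anchor ζ θ)) (τ₂ η) =
      (if η = ζ then (deg θ : ℂ) else 0) - coef τ₂ ζ θ := by
  have hmem : η - ζ ∈ zspanOn (↑(lowS M) : Set (↥M → ℂ)) {1}ᶜ :=
    mem_zspanOn_one.2 ⟨zspan_sub (zspan_subset hη) (zspan_subset hζ),
      by simp [low_degree hh hη, low_degree hh hζ]⟩
  have h1 : classInner (tau M (anchor ζ θ)) (τ₂ (η - ζ)) = classInner (anchor ζ θ) (η - ζ) := by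
    rw [hτ.agree _ hmem]
    exact hS.isometry.2.2.1 _ (anchor_mem hh hS hτ hζ hθ) _
      (zspanOn_mono (low_subset hh) _ hmem)
  rw [iso_map_sub hτ.iso (zspan_subset hη) (zspan_subset hζ) (zspan_neg (zspan_subset hζ)),
    Coherence.inner_sub_right, Coherence.inner_sub_right, anchor_inner hh hS hτ hζ hθ hnot hη,
    anchor_inner hh hS hτ hζ hθ hnot hζ, if_pos rfl] at h1
  rw [coef]
  linear_combination h1

/-- The coefficient is an integer in `[0, t]`, and equals `t` only when there are two members of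
least degree. -/
theorem coef_bound {θ : IrrCharacter ↥(der M)} (hθ : θ ∈ irrNP (der M) ⊥)
    (hnot : indFun (der M) (θ : der M → ℂ) ∉ lowS M) :
    ∃ g : ℤ, coef τ₂ ζ θ = (g : ℂ) ∧ 0 ≤ g ∧ g ≤ deg θ ∧
      (g = deg θ → (lowS M).card = 2) := by
  classical
  set t := deg θ with htdef
  set β := tau M (anchor ζ θ) with hβ
  have hmem := anchor_mem hh hS hτ hζ hθ
  obtain ⟨a, ha⟩ := inner_gen_int (hS.isometry.2.2.2 _ hmem) (hτ.iso.2.2.2 _ (zspan_subset hζ))
  set g : ℤ := (t : ℤ) - a with hgdef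
  have hg : coef τ₂ ζ θ = (g : ℂ) := by
    rw [coef, ha, hgdef]; push_cast; rfl
  obtain ⟨t', ht', htpos, -, hcase⟩ := member_cases hh hθ
  have htt : t' = t := by
    have := ht'.symm.trans (deg_eq θ)
    exact_mod_cast this
  rw [htt] at htpos hcase
  have ht2 : 2 ≤ t := by
    by_contra hlt
    refine hnot (mem_low_of_linear hh hθ ?_)
    rw [deg_eq, show deg θ = 1 by omega, Nat.cast_one]
  set N := normSqFn (indFun (der M) (θ : der M → ℂ)) with hN
  have hζS := low_subset hh hζ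
  have hθS : indFun (der M) (θ : der M → ℂ) ∈ calS M := (mem_seq_iff _).2 ⟨θ, hθ, rfl⟩
  have horth : classInner (indFun (der M) (θ : der M → ℂ)) ζ = 0 :=
    hS.orthogonal _ hθS _ hζS fun e => hnot (e ▸ hζ)
  have hnorm : normSqFn β = (t : ℝ) ^ 2 + N := by
    apply Complex.ofReal_injective
    rw [← inner_self, hβ, hS.isometry.2.2.1 _ hmem _ hmem]
    simp only [anchor, Coherence.inner_sub_left, Coherence.inner_sub_right, inner_zsmul_left, inner_zsmul_right]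
    rw [irr_inner_self (low_irr hh hζ), horth,
      ← Coherence.inner_conj_symm (indFun (der M) (θ : der M → ℂ)) ζ, horth, inner_self, map_zero, ← htdef]
    push_cast
    ring
  set m := (lowS M).card with hm
  have hm2 : 2 ≤ m := by
    have h := Finset.card_pair (hS.conj_ne ζ hζS).symm
    rw [← h]
    exact Finset.card_le_card (Finset.insert_subset hζ
      (Finset.singleton_subset_iff.2 (low_conj hh hζ)))
  have hbes : (m : ℝ) * (g : ℝ) ^ 2 - 2 * t * g ≤ N := by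
    have h := bessel (ξ := β) (lowS M) τ₂ (fun _ => 1)
      (fun η => (if η = ζ then (t : ℝ) else 0) - (g : ℝ))
      (fun _ _ => one_ne_zero)
      (fun η h => by
        rw [hτ.iso.2.2.1 _ (zspan_subset h) _ (zspan_subset h), irr_inner_self (low_irr hh h)]
        simp)
      (fun η h η' h' hne => by
        rw [hτ.iso.2.2.1 _ (zspan_subset h) _ (zspan_subset h'),
          irr_inner_ne (low_irr hh h) (low_irr hh h') hne])
      (fun η h => by
        rw [hβ, coef_spec hh hS hτ hζ hθ hnot h, hg]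
        split_ifs <;> simp [htdef])
    simp only [div_one] at h
    have hsum : ∑ η ∈ lowS M, ((if η = ζ then (t : ℝ) else 0) - (g : ℝ)) ^ 2 =
        (t : ℝ) ^ 2 - 2 * t * g + m * (g : ℝ) ^ 2 := by
      have e : ∀ η ∈ lowS M, ((if η = ζ then (t : ℝ) else 0) - (g : ℝ)) ^ 2 =
          (if η = ζ then (t : ℝ) ^ 2 - 2 * t * g else 0) + (g : ℝ) ^ 2 := fun η _ => by
        split_ifs <;> ring
      rw [Finset.sum_congr rfl e, Finset.sum_add_distrib, Finset.sum_ite_eq', if_pos hζ,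
        Finset.sum_const, nsmul_eq_mul]
    rw [hsum, hnorm] at h
    have := normSqFn_nonneg (β - ∑ η ∈ lowS M,
      (((if η = ζ then (t : ℝ) else 0) - (g : ℝ) : ℝ) : ℂ) • τ₂ η)
    linarith
  obtain ⟨h3, -⟩ := hh.w₁_facts
  have hNb : N < 2 * (t : ℝ) ∧ (1 ≤ N) := by
    have ht2' : (2 : ℝ) ≤ t := by exact_mod_cast ht2
    rcases hcase with ⟨-, hn⟩ | ⟨-, hn, h2⟩
    · rw [hn]; exact ⟨by linarith, le_rfl⟩
    · have h2' : (2 : ℝ) * (Nat.card W₁ : ℝ) ≤ t + 1 := by exact_mod_cast h2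
      have h3' : (3 : ℝ) ≤ (Nat.card W₁ : ℝ) := by exact_mod_cast h3
      rw [hn]; exact ⟨by linarith, by linarith⟩
  have htR : (2 : ℝ) ≤ t := by exact_mod_cast ht2
  have hmR : (2 : ℝ) ≤ m := by exact_mod_cast hm2
  have hg0 : 0 ≤ g := by
    by_contra hlt
    have h1 : (g : ℝ) ≤ -1 := by exact_mod_cast (show g ≤ -1 by omega)
    nlinarith
  have hgt : g ≤ t := by
    by_contra hlt
    have h1 : (t : ℝ) + 1 ≤ g := by exact_mod_cast (show (t : ℤ) + 1 ≤ g by omega)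
    have hg2 : (2 : ℝ) * (g : ℝ) ^ 2 ≤ m * (g : ℝ) ^ 2 :=
      mul_le_mul_of_nonneg_right hmR (sq_nonneg _)
    nlinarith
  refine ⟨g, hg, hg0, hgt, fun he => ?_⟩
  by_contra hne
  have hm3 : (3 : ℝ) ≤ m := by exact_mod_cast (show 3 ≤ m by omega)
  have hgt' : (g : ℝ) = t := by exact_mod_cast he
  rw [hgt'] at hbes
  have : (3 : ℝ) * (t : ℝ) ^ 2 ≤ m * (t : ℝ) ^ 2 := mul_le_mul_of_nonneg_right hm3 (sq_nonneg _)
  nlinarith

/-- Members of equal degree have equal coefficients. -/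
theorem coef_eq_of_deg {θ θ' : IrrCharacter ↥(der M)} (hθ : θ ∈ irrNP (der M) ⊥)
    (hnot : indFun (der M) (θ : der M → ℂ) ∉ lowS M) (hθ' : θ' ∈ irrNP (der M) ⊥)
    (hnot' : indFun (der M) (θ' : der M → ℂ) ∉ lowS M) (he : deg θ = deg θ') :
    coef τ₂ ζ θ = coef τ₂ ζ θ' := by
  set χ := indFun (der M) (θ : der M → ℂ) with hχ
  set χ' := indFun (der M) (θ' : der M → ℂ) with hχ'
  have hχS : χ ∈ calS M := (mem_seq_iff _).2 ⟨θ, hθ, rfl⟩
  have hχS' : χ' ∈ calS M := (mem_seq_iff _).2 ⟨θ', hθ', rfl⟩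
  have hc : ∀ {φ : ↥M → ℂ}, φ ∉ lowS M → conjFun φ ∉ (↑(lowS M) : Set (↥M → ℂ)) :=
    fun h h' => h (by simpa [conjFun_conjFun] using low_conj hh (Finset.mem_coe.1 h'))
  have horth : ∀ {φ : ↥M → ℂ}, φ ∈ calS M → φ ∉ lowS M → ∀ α ∈ Rs φ,
      classInner α (τ₂ ζ) = 0 := by
    intro φ hφ hφn α hα
    rw [← Coherence.inner_conj_symm, coherent_inner_R hS (low_subset hh) (fun ψ h => low_conj hh h) hτ.iso
      hτ.agree hφ (fun h => hφn (Finset.mem_coe.1 h)) (hc hφn) (Finset.mem_coe.2 hζ) hα, map_zero]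
  by_cases h1 : χ' = χ
  · simp only [coef, anchor, ← hχ, ← hχ', h1, he]
  have hdeg : χ 1 = χ' 1 := by
    simp [hχ, hχ', CharInd.indFun_apply_one, deg_eq, he]
  have hdiff : classInner (tau M (χ - χ')) (τ₂ ζ) = 0 := by
    by_cases h2 : χ' = conjFun χ
    · rw [h2, hS.sum_eq χ hχS, Coherence.inner_sum_left]
      exact Finset.sum_eq_zero fun α hα => horth hχS hnot α hα
    · rw [(pair_decomp hS hχS hχS' h1 h2 hdeg).1, Coherence.inner_add_left,
        inner_proj_of_orth (horth hχS hnot), inner_proj_of_orth (horth hχS' hnot'), add_zero]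
  have hmem : χ - χ' ∈ zspanOn (calS M) {1}ᶜ := sys_sub_mem hS hχS hχS' hdeg
  have e : anchor ζ θ' = anchor ζ θ + (χ - χ') := by
    simp only [anchor, ← hχ, ← hχ', he]; abel
  simp only [coef, ← he]
  rw [e, hS.isometry.1 _ (anchor_mem hh hS hτ hζ hθ) _ hmem, Coherence.inner_add_left, hdiff, add_zero]

/-- Inside a coherent set the coefficients are proportional to the degrees. -/
theorem coef_prop {S₁ : Set (↥M → ℂ)} (hS₁ : S₁ ⊆ calS M) (hS₁c : ∀ φ ∈ S₁, conjFun φ ∈ S₁)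
    (hdis : ∀ φ ∈ S₁, φ ∉ lowS M) (hcoh : IsCoherent S₁ {1}ᶜ (tau M))
    {θ θ' : IrrCharacter ↥(der M)} (hθ : θ ∈ irrNP (der M) ⊥) (hθ' : θ' ∈ irrNP (der M) ⊥)
    (h : indFun (der M) (θ : der M → ℂ) ∈ S₁) (h' : indFun (der M) (θ' : der M → ℂ) ∈ S₁) :
    (deg θ' : ℂ) * coef τ₂ ζ θ = (deg θ : ℂ) * coef τ₂ ζ θ' := by
  obtain ⟨-, τ₁, hτ₁, hag⟩ := hcoh
  set χ := indFun (der M) (θ : der M → ℂ) with hχ
  set χ' := indFun (der M) (θ' : der M → ℂ) with hχ'
  have horth : ∀ φ ∈ S₁, classInner (τ₁ φ) (τ₂ ζ) = 0 := by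
    intro φ hφ
    rw [PF.coherent_eq_proj hS hS₁ hS₁c hτ₁ hag hφ]
    refine inner_proj_of_orth fun α hα => ?_
    rw [← Coherence.inner_conj_symm, coherent_inner_R hS (low_subset hh) (fun ψ h => low_conj hh h) hτ.iso
      hτ.agree (hS₁ hφ) (fun h => hdis φ hφ (Finset.mem_coe.1 h))
      (fun h => hdis _ (hS₁c φ hφ) (Finset.mem_coe.1 h)) (Finset.mem_coe.2 hζ) hα, map_zero]
  set a : ↥M → ℂ := (deg θ' : ℤ) • χ - (deg θ : ℤ) • χ' with ha
  have hmem₁ : a ∈ zspanOn S₁ {1}ᶜ := by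
    refine mem_zspanOn_one.2 ⟨zspan_sub (zspan_zsmul _ (zspan_subset h))
      (zspan_zsmul _ (zspan_subset h')), ?_⟩
    simp [ha, hχ, hχ', CharInd.indFun_apply_one, deg_eq]
    ring
  have h0 : classInner (tau M a) (τ₂ ζ) = 0 := by
    rw [← hag a hmem₁, ha, iso_map_sub hτ₁ (zspan_zsmul _ (zspan_subset h))
      (zspan_zsmul _ (zspan_subset h')) (zspan_neg (zspan_zsmul _ (zspan_subset h'))),
      hτ₁.2.1 _ (zspan_subset h), hτ₁.2.1 _ (zspan_subset h'), Coherence.inner_sub_left, inner_zsmul_left,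
      inner_zsmul_left, horth _ h, horth _ h', mul_zero, mul_zero, sub_zero]
  have e : (deg θ : ℤ) • anchor ζ θ' = (deg θ' : ℤ) • anchor ζ θ + a := by
    simp only [anchor, ha, ← hχ, ← hχ', smul_sub, smul_smul, mul_comm (deg θ' : ℤ)]
    abel
  have e2 : classInner (tau M ((deg θ : ℤ) • anchor ζ θ')) (τ₂ ζ) =
      classInner (tau M ((deg θ' : ℤ) • anchor ζ θ + a)) (τ₂ ζ) := by rw [e]
  rw [tau_add, tau_zsmul, tau_zsmul, Coherence.inner_add_left, inner_zsmul_left, inner_zsmul_left, h0,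
    add_zero] at e2
  simp only [coef]
  push_cast at e2
  linear_combination e2

end Cfsg.Agent.PF10
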