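import Cfsg.Agent.PF10.Bridge

/-!
Peterfalvi (10.5), (10.6): consequences of the coherence of `calS M`.
-/

set_option autoImplicit false

namespace Cfsg.Agent.PF10

open Cfsg Cfsg.Agent.OddChar Cfsg.Agent.OddChar.PrimeTI Cfsg.Agent.Coherence
open Cfsg.Agent.OddChar.CycTI (D1 D2 offSet)
open scoped ComplexConjugate

universe u

variable {G : Type u} [Group G] [Fintype G] {M W₁ U W₂ : Subgroup G} [Fintype ↥M]
variable (hh : Hyp M W₁ U W₂) {χ : Idx M W₁ W₂ → (↥M → ℂ)} (F : Fam hh.primeTI χ)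

theorem sgn_int (ψ : Idx M W₁ W₂) : ∃ s : ℤ, (s = 1 ∨ s = -1) ∧ sgn χ ψ = (s : ℂ) := by
  rcases sgn_sq χ ψ with e | e
  · exact ⟨1, Or.inl rfl, by rw [e]; norm_num⟩
  · exact ⟨-1, Or.inr rfl, by rw [e]; norm_num⟩

/-- The weighted sum of the squared degrees of the members. -/
theorem sum_members (hh : Hyp M W₁ U W₂) :
    ∑ μ ∈ seqFinset (der M) ⊥, (μ 1).re ^ 2 / normSqFn μ =
      (Nat.card W₁ : ℝ) * ((Nat.card ↥(der M) : ℝ) - 1) := by
  haveI := hh.der_normal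
  rw [sum_seq, sum_irrNP, hh.index_der, Subgroup.relIndex_bot_left]

section Mu

variable [Fintype ↥(D1 (W₁.subgroupOf M) (W₂.subgroupOf M))]
include F

theorem mu_one (ψ : Idx M W₁ W₂) :
    mu χ ψ 1 = sgn χ ψ * ((Nat.card W₁ : ℂ) * χ ψ 1) := by
  rw [mu, Pi.smul_apply, Finset.sum_apply, smul_eq_mul]
  congr 1
  rw [Finset.sum_congr rfl (g := fun _ => χ ψ 1) fun φ _ => ?_]
  · rw [Finset.sum_const, Finset.card_univ, ← Nat.card_eq_fintype_card,
      hh.primeTI.split.card_d1, hh.card₁, nsmul_eq_mul]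
  · rw [F.twist φ.1 φ.2 ψ]
    simp

theorem mu_injOn {ψ ψ' : Idx M W₁ W₂} (hψ : ψ ∈ D2 (W₁.subgroupOf M) (W₂.subgroupOf M))
    (hψ' : ψ' ∈ D2 (W₁.subgroupOf M) (W₂.subgroupOf M)) (h : mu χ ψ = mu χ ψ') : ψ = ψ' := by
  classical
  by_contra hne
  have h1 := inner_mu_chi hh F hψ (φ := 1) (one_mem _)
  rw [h, mu, CharCore.classInner_smul_right, CharCore.classInner_sum_right, Finset.sum_eq_zero,
    mul_zero] at h1
  · rcases sgn_sq χ ψ with e | e <;> simp [e] at h1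
  · intro b _
    rw [F.fam.orthonormal, if_neg fun q => hne (CycTI.mul_inj _ _ (one_mem _) b.2 hψ hψ' q).2]

/-- The order of `M'` is large. -/
theorem card_der_bound :
    (Nat.card W₁ : ℝ) + ((Nat.card W₂ : ℝ) - 1) * (Nat.card W₁ : ℝ) *
      (2 * (Nat.card W₁ : ℝ) - 1) ^ 2 ≤
      (Nat.card W₁ : ℝ) * ((Nat.card ↥(der M) : ℝ) - 1) + (Nat.card W₁ : ℝ) := by
  classical
  have hs := hh.primeTI.split
  haveI := hs.finite_dual
  haveI : Fintype ↥(D2 (W₁.subgroupOf M) (W₂.subgroupOf M)) := Fintype.ofFinite _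
  set T := (Finset.univ.filter fun b : ↥(D2 (W₁.subgroupOf M) (W₂.subgroupOf M)) => b ≠ 1).image
    fun b => mu χ b.1 with hT
  have hsub : T ⊆ seqFinset (der M) ⊥ := fun μ hμ => by
    obtain ⟨b, hb, rfl⟩ := Finset.mem_image.mp hμ
    rw [← Finset.mem_coe, coe_seqFinset]
    exact mu_mem hh F b.2 fun e => (Finset.mem_filter.mp hb).2 (Subtype.ext e)
  have hle := Finset.sum_le_sum_of_subset_of_nonneg hsub
    (f := fun μ : ↥M → ℂ => (μ 1).re ^ 2 / normSqFn μ)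
    fun μ _ _ => div_nonneg (sq_nonneg _) (normSqFn_nonneg μ)
  rw [sum_members hh, hT, Finset.sum_image fun a _ b _ e => Subtype.ext (mu_injOn hh F a.2 b.2 e)]
    at hle
  have hterm : ∀ b ∈ Finset.univ.filter
      fun b : ↥(D2 (W₁.subgroupOf M) (W₂.subgroupOf M)) => b ≠ 1,
      (Nat.card W₁ : ℝ) * (2 * (Nat.card W₁ : ℝ) - 1) ^ 2 ≤
        (mu χ b.1 1).re ^ 2 / normSqFn (mu χ b.1) := by
    intro b hb
    obtain ⟨N, hN⟩ := F.degree_congr b.1
    rw [hh.card₁] at hN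
    have hn : normSqFn (mu χ b.1) = (Nat.card W₁ : ℝ) := by
      have := norm_mu hh F b.2
      rw [inner_self] at this
      exact_mod_cast this
    obtain ⟨s, hs', hsgn⟩ := sgn_int (χ := χ) b.1
    have hv : mu χ b.1 1 =
        ((((s * (N * Nat.card W₁ + 1)) * Nat.card W₁ : ℤ) : ℝ) : ℂ) := by
      rw [mu_one hh F, hsgn, show χ b.1 1 = N * (Nat.card W₁ : ℂ) + 1 by linear_combination hN]
      push_cast; ring
    have hd := degree_bound hh F b.2 (fun e => (Finset.mem_filter.mp hb).2 (Subtype.ext e)) hN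
    obtain ⟨hw1, -⟩ := hh.w₁_facts
    have hd2 : (2 * (Nat.card W₁ : ℤ) - 1) ^ 2 ≤ (N * Nat.card W₁ + 1) ^ 2 := by
      rw [← sq_abs (N * (Nat.card W₁ : ℤ) + 1)]
      exact pow_le_pow_left₀ (by omega) hd 2
    have hd3 : (2 * (Nat.card W₁ : ℝ) - 1) ^ 2 ≤ ((N : ℝ) * Nat.card W₁ + 1) ^ 2 := by
      exact_mod_cast hd2
    have hpos : (0 : ℝ) < Nat.card W₁ := by exact_mod_cast Nat.card_pos
    rw [hn, hv, Complex.ofReal_re, le_div_iff₀ hpos]
    have hs2 : (s : ℝ) ^ 2 = 1 := by rcases hs' with rfl | rfl <;> norm_num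
    push_cast
    calc (Nat.card W₁ : ℝ) * (2 * (Nat.card W₁ : ℝ) - 1) ^ 2 * (Nat.card W₁ : ℝ)
        = (2 * (Nat.card W₁ : ℝ) - 1) ^ 2 * (Nat.card W₁ : ℝ) ^ 2 := by ring
      _ ≤ ((N : ℝ) * Nat.card W₁ + 1) ^ 2 * (Nat.card W₁ : ℝ) ^ 2 :=
          mul_le_mul_of_nonneg_right hd3 (sq_nonneg _)
      _ = _ := by linear_combination (-(((N : ℝ) * Nat.card W₁ + 1) ^ 2 *
          (Nat.card W₁ : ℝ) ^ 2)) * hs2
  have h2 := (Finset.card_nsmul_le_sum _ _ _ hterm).trans hle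
  rw [Finset.filter_ne', Finset.card_erase_of_mem (Finset.mem_univ _), Finset.card_univ,
    ← Nat.card_eq_fintype_card, hs.card_d2, hh.card₂, nsmul_eq_mul,
    Nat.cast_sub hh.prime.one_lt.le, Nat.cast_one] at h2
  linarith

theorem two_mul_lt_card_der : 2 * (Nat.card W₁ : ℝ) + 2 < (Nat.card ↥(der M) : ℝ) := by
  have h := card_der_bound hh F
  obtain ⟨h3, h3', -⟩ := hh.w₁_facts
  have a : (3 : ℝ) ≤ Nat.card W₁ := by exact_mod_cast h3
  have b : (3 : ℝ) ≤ Nat.card W₂ := by exact_mod_cast h3'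
  have c : ((Nat.card W₂ : ℝ) - 1) * (2 * (Nat.card W₁ : ℝ) - 1) ^ 2 ≤
      (Nat.card ↥(der M) : ℝ) - 1 := by
    refine le_of_mul_le_mul_left ?_ (show (0 : ℝ) < Nat.card W₁ by linarith)
    linarith
  nlinarith

end Mu

section Bridges

variable {ζ : ↥M → ℂ} (hζ : Ref M W₁ ζ) {τ₁ : (↥M → ℂ) → G → ℂ} (hτ : Coh M τ₁)
variable {φ ψ : Idx M W₁ W₂} (hφ : φ ∈ D1 (W₁.subgroupOf M) (W₂.subgroupOf M))
variable (hψ : ψ ∈ D2 (W₁.subgroupOf M) (W₂.subgroupOf M)) (hψ1 : ψ ≠ 1)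
variable {N : ℤ} (hN : χ ψ 1 - 1 = N * (Nat.card W₁ : ℂ))
variable [Fintype ↥(D1 (W₁.subgroupOf M) (W₂.subgroupOf M))]
include F hζ hτ hφ hψ hψ1 hN

/-- The coefficient of `ζ^τ₁` in the image of the bridge. -/
theorem tau_bridge_ref :
    classInner (tau M (bridge χ ζ N φ ψ)) (τ₁ ζ) = -(N : ℂ) := by
  classical
  haveI := hh.der_normal
  set a := bridge χ ζ N φ ψ with ha
  obtain ⟨hA, -⟩ := bridge_adm hh F hζ hφ hψ hN
  obtain ⟨A, hAint⟩ := inner_gen_int (hh.tau_gen hA (bridge_gen hh F hζ hφ))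
    (hτ.iso.2.2.2 _ (zspan_subset hζ.mem))
  obtain ⟨s, hs, hsgn⟩ := sgn_int (χ := χ) ψ
  have hne : mu χ ψ ≠ ζ := fun e => by
    have := norm_mu hh F hψ
    rw [e, irr_inner_self hζ.irr] at this
    have h1 : Nat.card W₁ = 1 := by exact_mod_cast this.symm
    obtain ⟨h3, -⟩ := hh.w₁_facts
    omega
  have haz : classInner a ζ = -(N : ℂ) := by
    rw [ha, bridge_member hh F hζ hφ hψ hψ1 hN hζ.mem, if_neg hne.symm, if_pos rfl, zero_sub]
  let e : ℤ := A + N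
  let cA : (↥M → ℂ) → ℝ := fun μ =>
    (if μ = mu χ ψ then (s : ℝ) else 0) - (if μ = ζ then (N : ℝ) else 0)
  let b : (↥M → ℂ) → ℝ := fun μ => (μ 1).re / Nat.card W₁ * (e : ℝ) + cA μ
  have hS : ∀ {μ}, μ ∈ seqFinset (der M) ⊥ → μ ∈ calS M := fun {μ} h =>
    (coe_seqFinset (der M) ⊥).subset (Finset.mem_coe.mpr h)
  have hpos : ∀ {μ}, μ ∈ calS M → normSqFn μ ≠ 0 := fun {μ} h => by
    obtain ⟨θ, h0, -, -, rfl⟩ := h
    exact (normSq_ind_pos (der M) ⟨θ, h0⟩).ne'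
  have hb := bessel (ξ := tau M a) (seqFinset (der M) ⊥) τ₁ (fun μ => normSqFn μ) b
    (fun μ h => hpos (hS h))
    (fun μ h => by
      rw [hτ.iso.2.2.1 _ (zspan_subset (hS h)) _ (zspan_subset (hS h)), inner_self])
    (fun μ h μ' h' hne => by
      rw [hτ.iso.2.2.1 _ (zspan_subset (hS h)) _ (zspan_subset (hS h')),
        hh.member_orth (hS h) (hS h') hne])
    (fun μ h => by
      rw [ha, tau_bridge_member hh F hζ hφ hψ hψ1 hN hτ (hS h),
        bridge_member hh F hζ hφ hψ hψ1 hN (hS h), ← ha, hAint, haz, hsgn]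
      simp only [b, cA, e]
      push_cast
      split_ifs <;> push_cast <;> ring)
  have hnorm : normSqFn (tau M a) = 2 + (N : ℝ) ^ 2 := by
    have := hh.tau_inner hA hA
    rw [bridge_norm hh F hζ hφ hψ hψ1 hN, inner_self] at this
    exact_mod_cast this
  have hle : ∑ μ ∈ seqFinset (der M) ⊥, b μ ^ 2 / normSqFn μ ≤ 2 + (N : ℝ) ^ 2 := by
    rw [← hnorm, hb]
    exact le_add_of_nonneg_left (normSqFn_nonneg _)
  have hmuS : mu χ ψ ∈ seqFinset (der M) ⊥ := by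
    rw [← Finset.mem_coe, coe_seqFinset]; exact mu_mem hh F hψ hψ1
  have hζS : ζ ∈ seqFinset (der M) ⊥ := by
    rw [← Finset.mem_coe, coe_seqFinset]; exact hζ.mem
  have hnmu : normSqFn (mu χ ψ) = (Nat.card W₁ : ℝ) := by
    have := norm_mu hh F hψ
    rw [inner_self] at this
    exact_mod_cast this
  have hnζ : normSqFn ζ = 1 := by
    have := irr_inner_self hζ.irr
    rw [inner_self] at this
    exact_mod_cast this
  have hmu1 : (mu χ ψ 1).re = s * (Nat.card W₁ : ℝ) * ((N : ℝ) * Nat.card W₁ + 1) := by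
    rw [mu_one hh F, hsgn, show χ ψ 1 = N * (Nat.card W₁ : ℂ) + 1 by linear_combination hN,
      show (s : ℂ) * ((Nat.card W₁ : ℂ) * (N * (Nat.card W₁ : ℂ) + 1)) =
        (((s : ℝ) * Nat.card W₁ * ((N : ℝ) * Nat.card W₁ + 1) : ℝ) : ℂ) by push_cast; ring,
      Complex.ofReal_re]
  have hζ1 : (ζ 1).re = (Nat.card W₁ : ℝ) := by rw [hζ.deg, Complex.natCast_re]
  have hw0 : (Nat.card W₁ : ℝ) ≠ 0 := Nat.cast_ne_zero.mpr Nat.card_pos.ne'
  have hcA : ∀ μ, μ ≠ mu χ ψ → μ ≠ ζ → cA μ = 0 := fun μ h1 h2 => by simp [cA, h1, h2]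
  have hexp : ∑ μ ∈ seqFinset (der M) ⊥, b μ ^ 2 / normSqFn μ =
      (e : ℝ) ^ 2 / (Nat.card W₁ : ℝ) ^ 2 *
          ((Nat.card W₁ : ℝ) * ((Nat.card ↥(der M) : ℝ) - 1)) +
        2 * e / (Nat.card W₁ : ℝ) * ∑ μ ∈ seqFinset (der M) ⊥, (μ 1).re * cA μ / normSqFn μ +
        ∑ μ ∈ seqFinset (der M) ⊥, cA μ ^ 2 / normSqFn μ := by
    rw [← sum_members hh, Finset.mul_sum, Finset.mul_sum, ← Finset.sum_add_distrib,
      ← Finset.sum_add_distrib]
    refine Finset.sum_congr rfl fun μ h => ?_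
    have := hpos (hS h)
    simp only [b]
    field_simp
    ring
  have h2 : ∑ μ ∈ seqFinset (der M) ⊥, (μ 1).re * cA μ / normSqFn μ = 1 := by
    rw [Finset.sum_eq_add (mu χ ψ) ζ hne (fun μ _ h => by rw [hcA μ h.1 h.2]; simp)
      (fun h => absurd hmuS h) (fun h => absurd hζS h)]
    simp only [cA, if_pos, if_neg hne, if_neg hne.symm, hnmu, hnζ, hmu1, hζ1]
    rcases hs with rfl | rfl <;> field_simp <;> push_cast <;> ring
  have h3 : ∑ μ ∈ seqFinset (der M) ⊥, cA μ ^ 2 / normSqFn μ =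
      1 / (Nat.card W₁ : ℝ) + (N : ℝ) ^ 2 := by
    rw [Finset.sum_eq_add (mu χ ψ) ζ hne (fun μ _ h => by rw [hcA μ h.1 h.2]; simp)
      (fun h => absurd hmuS h) (fun h => absurd hζS h)]
    simp only [cA, if_pos, if_neg hne, if_neg hne.symm, hnmu, hnζ]
    rcases hs with rfl | rfl <;> push_cast <;> ring
  rw [hexp, h2, h3] at hle
  have hwp : (0 : ℝ) < Nat.card W₁ := by exact_mod_cast Nat.card_pos
  have hineq : (e : ℝ) ^ 2 * ((Nat.card ↥(der M) : ℝ) - 1) + 2 * e + 1 ≤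
      2 * (Nat.card W₁ : ℝ) := by
    have h4 : ((e : ℝ) ^ 2 * ((Nat.card ↥(der M) : ℝ) - 1) + 2 * e + 1) / Nat.card W₁ ≤ 2 := by
      refine le_trans (le_of_eq ?_) (show _ - (N : ℝ) ^ 2 ≤ (2 : ℝ) from sub_le_iff_le_add.mpr hle)
      field_simp
      ring
    rwa [div_le_iff₀ hwp] at h4
  have he : e = 0 := by
    by_contra hne0
    have h5 : (1 : ℤ) ≤ |e| := Int.one_le_abs hne0
    have h5' : (1 : ℝ) ≤ |(e : ℝ)| := by exact_mod_cast h5
    have hk := two_mul_lt_card_der hh F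
    have h6 : (e : ℝ) ^ 2 = |(e : ℝ)| ^ 2 := (sq_abs _).symm
    obtain ⟨h3, -⟩ := hh.w₁_facts
    have h3' : (3 : ℝ) ≤ Nat.card W₁ := by exact_mod_cast h3
    have h7 : |(e : ℝ)| ≤ |(e : ℝ)| ^ 2 := by nlinarith
    have h8 : ((Nat.card ↥(der M) : ℝ) - 3) * 1 ≤
        ((Nat.card ↥(der M) : ℝ) - 3) * |(e : ℝ)| ^ 2 :=
      mul_le_mul_of_nonneg_left (by nlinarith) (by linarith)
    rw [h6] at hineq
    linarith [neg_abs_le (e : ℝ)]
  rw [hAint]
  have : A = -N := by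
    simp only [e] at he
    omega
  rw [this]; push_cast; rfl

variable {η : Idx M W₁ W₂ → G → ℂ} (E : PF.Eta M (W₁.subgroupOf M) (W₂.subgroupOf M) η)
include E

/-- Peterfalvi (10.5). -/
theorem tau_bridge_eq :
    tau M (bridge χ ζ N φ ψ) = η (φ * ψ) - η φ - (N : ℂ) • τ₁ ζ := by
  classical
  have hs := hh.primeTI.split
  haveI := hs.finite_dual
  haveI : Fintype ↥(D2 (W₁.subgroupOf M) (W₂.subgroupOf M)) := Fintype.ofFinite _
  obtain ⟨hA, hW⟩ := bridge_adm hh F hζ hφ hψ hN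
  have hgen : IsGeneralizedCharacter G (tau M (bridge χ ζ N φ ψ)) :=
    hh.tau_gen hA (bridge_gen hh F hζ hφ)
  have hX := orth_eta hh hζ hτ E
  have hXs := signed_image hh hζ hτ hζ.mem hζ.irr
  have hne : φ * ψ ≠ φ := fun e => hψ1
    (CycTI.mul_inj _ _ hφ hφ hψ (one_mem _) (by rw [e]; exact (mul_one φ).symm)).2
  have hint := fun ω => inner_gen_int hgen (E.signed ω).isGeneralizedCharacter
  choose b hb using hint
  set θ := tau M (bridge χ ζ N φ ψ) - η (φ * ψ) + η φ with hθ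
  have hθcl : IsClassFunction G θ := fun x y => by
    simp only [hθ, Pi.add_apply, Pi.sub_apply, hh.tau_class hA x y, E.isClassFun _ x y]
  have hθV : ∀ w : ↥(W₁.subgroupOf M ⊔ W₂.subgroupOf M), (w : ↥M) ∉ W₁.subgroupOf M →
      (w : ↥M) ∉ W₂.subgroupOf M → θ ((w : ↥M) : G) = 0 := by
    intro w h1 h2
    have hv := hh.tau_off hA.1 (off_mem hh h1 h2)
    rw [show (⟨((w : ↥M) : G), hh.W_le (off_mem hh h1 h2).1⟩ : ↥M) = w from rfl] at hv
    simp only [hθ, Pi.add_apply, Pi.sub_apply, hv, E.eq_on _ w h1 h2]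
    simp only [bridge, Pi.sub_apply, Pi.smul_apply,
      F.on_off _ w h2, hh.member_off hζ.mem fun q => h2 (hh.primeTI.mem_W2_of_K w q), smul_zero]
    ring
  let c : Idx M W₁ W₂ → ℤ := fun ω =>
    b ω - (if φ * ψ = ω then 1 else 0) + (if φ = ω then 1 else 0)
  have hc : ∀ ω, classInner θ (η ω) = (c ω : ℂ) := by
    intro ω
    rw [hθ, CharCore.classInner_add_left, CharCore.classInner_sub_left, hb]
    simp only [c]
    push_cast
    congr 1
    · congr 1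
      split_ifs with h
      · rw [h]; exact E.self ω
      · exact E.orth _ _ h
    · split_ifs with h
      · rw [h]; exact E.self ω
      · exact E.orth _ _ h
  have hb1 : b 1 = if φ = 1 then -1 else 0 := by
    have e1 : (b 1 : ℂ) = classInner (bridge χ ζ N φ ψ) (fun _ => 1) := by
      rw [← hb, E.map_one, hh.tau_inner_one hA]
    rw [show (fun _ : ↥M => (1 : ℂ)) = χ 1 from F.fam.map_one.symm, bridge,
      CharCore.classInner_sub_left, CharCore.classInner_sub_left, CharCore.classInner_smul_left,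
      F.fam.orthonormal, F.fam.orthonormal, chi_orth hh F hζ.mem hζ.irr, if_neg fun e => hψ1
        (CycTI.mul_inj _ _ hφ (one_mem _) hψ (one_mem _) (by rw [e]; exact (mul_one 1).symm)).2,
      mul_zero, sub_zero, zero_sub] at e1
    split_ifs at e1 ⊢ <;> push_cast at e1 <;> exact_mod_cast e1
  have hc1 : c 1 = 0 := by
    have h' : φ * ψ ≠ 1 := fun e => hψ1
      (CycTI.mul_inj _ _ hφ (one_mem _) hψ (one_mem _) (by rw [e]; exact (mul_one 1).symm)).2
    simp only [c, hb1, if_neg h']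
    split_ifs <;> ring
  have hadd : ∀ (a : ↥(D1 (W₁.subgroupOf M) (W₂.subgroupOf M)))
      (d : ↥(D2 (W₁.subgroupOf M) (W₂.subgroupOf M))), c (a.1 * d.1) = c a.1 + c d.1 := by
    intro a d
    have := E.additive θ hθcl hθV a.1 a.2 d.1 d.2
    rw [hc, hc, hc, hc, hc1, Int.cast_zero, sub_zero] at this
    exact_mod_cast this
  -- Bessel
  have hcell : ∀ t : ↥(D1 (W₁.subgroupOf M) (W₂.subgroupOf M)) ×
      ↥(D2 (W₁.subgroupOf M) (W₂.subgroupOf M)),
      Grid.cell (fun a => c a.1) (fun d => c d.1) (⟨φ, hφ⟩, ⟨ψ, hψ⟩) (⟨φ, hφ⟩, 1) t =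
        b (t.1.1 * t.2.1) := by
    rintro ⟨a, d⟩
    have hiff1 : ((a, d) = ((⟨φ, hφ⟩ : ↥(D1 (W₁.subgroupOf M) (W₂.subgroupOf M))),
        (⟨ψ, hψ⟩ : ↥(D2 (W₁.subgroupOf M) (W₂.subgroupOf M))))) ↔ φ * ψ = a.1 * d.1 := by
      constructor
      · intro e
        obtain ⟨e1, e2⟩ := Prod.ext_iff.mp e
        simp only at e1 e2
        rw [e1, e2]
      · intro e
        obtain ⟨u, v⟩ := CycTI.mul_inj _ _ hφ a.2 hψ d.2 e
        exact Prod.ext (Subtype.ext u.symm) (Subtype.ext v.symm)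
    have hiff2 : ((a, d) = ((⟨φ, hφ⟩ : ↥(D1 (W₁.subgroupOf M) (W₂.subgroupOf M))),
        (1 : ↥(D2 (W₁.subgroupOf M) (W₂.subgroupOf M))))) ↔ φ = a.1 * d.1 := by
      constructor
      · intro e
        obtain ⟨e1, e2⟩ := Prod.ext_iff.mp e
        simp only at e1 e2
        rw [e1, e2]; exact (mul_one φ).symm
      · intro e
        obtain ⟨u, v⟩ := CycTI.mul_inj _ _ hφ a.2 (one_mem _) d.2 ((mul_one φ).trans e)
        exact Prod.ext (Subtype.ext u.symm) (Subtype.ext v.symm)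
    simp only [Grid.cell, ← hadd, hiff1, hiff2, c]
    ring
  obtain ⟨A, hAr⟩ : ∃ A : ℝ, classInner (tau M (bridge χ ζ N φ ψ)) (τ₁ ζ) = (A : ℂ) ∧
      A ^ 2 = (N : ℝ) ^ 2 :=
    ⟨-(N : ℝ), by rw [tau_bridge_ref hh F hζ hτ hφ hψ hψ1 hN]; push_cast; rfl, neg_sq _⟩
  let gf : Option (↥(D1 (W₁.subgroupOf M) (W₂.subgroupOf M)) ×
      ↥(D2 (W₁.subgroupOf M) (W₂.subgroupOf M))) → G → ℂ :=
    fun o => o.elim (τ₁ ζ) fun t => η (t.1.1 * t.2.1)
  have hbs := bessel (ξ := tau M (bridge χ ζ N φ ψ)) Finset.univ gf (fun _ => 1)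
    (fun o => o.elim A fun t => (b (t.1.1 * t.2.1) : ℝ)) (fun _ _ => one_ne_zero)
    (fun o _ => by
      rcases o with _ | t
      · simpa [gf] using signed_inner_self hXs
      · simpa [gf] using E.self (t.1.1 * t.2.1))
    (fun o _ o' _ hne => by
      rcases o with _ | t <;> rcases o' with _ | t'
      · exact absurd rfl hne
      · exact (hX _).1
      · show classInner (η _) (τ₁ ζ) = 0
        rw [← CharCore.conj_classInner, (hX _).1, map_zero]
      · refine E.orth _ _ fun e => hne ?_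
        obtain ⟨u, v⟩ := CycTI.mul_inj _ _ t.1.2 t'.1.2 t.2.2 t'.2.2 e
        exact congrArg some (Prod.ext (Subtype.ext u) (Subtype.ext v)))
    (fun o _ => by
      rcases o with _ | t
      · simpa [gf] using hAr.1
      · simpa [gf] using hb (t.1.1 * t.2.1))
  have hnorm : normSqFn (tau M (bridge χ ζ N φ ψ)) = 2 + (N : ℝ) ^ 2 := by
    have := hh.tau_inner hA hA
    rw [bridge_norm hh F hζ hφ hψ hψ1 hN, inner_self] at this
    exact_mod_cast this
  have hle := le_of_le_of_eq (le_add_of_nonneg_left (normSqFn_nonneg _)) hbs.symm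
  rw [hnorm, Fintype.sum_option] at hle
  simp only [Option.elim, div_one, hAr.2] at hle
  have hb2 : ∑ t, Grid.cell (fun a : ↥(D1 (W₁.subgroupOf M) (W₂.subgroupOf M)) => c a.1)
      (fun d : ↥(D2 (W₁.subgroupOf M) (W₂.subgroupOf M)) => c d.1)
      (⟨φ, hφ⟩, ⟨ψ, hψ⟩) (⟨φ, hφ⟩, 1) t ^ 2 ≤ 2 := by
    simp only [hcell]
    have : ((∑ t : ↥(D1 (W₁.subgroupOf M) (W₂.subgroupOf M)) ×
        ↥(D2 (W₁.subgroupOf M) (W₂.subgroupOf M)), b (t.1.1 * t.2.1) ^ 2 : ℤ) : ℝ) ≤ 2 := by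
      push_cast
      linarith
    exact_mod_cast this
  obtain ⟨o1, o2, h31, h32, hne12⟩ := CycTI.card_facts hh.primeTI.selfNorm hh.primeTI.odd
  have hgrid := Grid.eq_zero_of_norm_le_two
    (X := ↥(D1 (W₁.subgroupOf M) (W₂.subgroupOf M)))
    (Y := ↥(D2 (W₁.subgroupOf M) (W₂.subgroupOf M)))
    (by rw [← Nat.card_eq_fintype_card, hs.card_d1]; exact h31)
    (by rw [← Nat.card_eq_fintype_card, hs.card_d2]; exact h32)
    (by
      rw [← Nat.card_eq_fintype_card, ← Nat.card_eq_fintype_card, hs.card_d1, hs.card_d2]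
      obtain ⟨u, hu⟩ := o1
      obtain ⟨v, hv⟩ := o2
      omega)
    (fun a => c a.1) (fun d => c d.1) 1 1 hc1 hc1 ⟨φ, hφ⟩ ⟨ψ, hψ⟩
    (fun e => hψ1 (congrArg Subtype.val e)) hb2
  have hp : b (φ * ψ) = 1 := by
    have := hgrid ⟨φ, hφ⟩ ⟨ψ, hψ⟩
    rw [← hadd] at this
    simp only [c, if_true, if_neg hne.symm] at this
    omega
  have hq : b φ = -1 := by
    have := hgrid ⟨φ, hφ⟩ 1
    rw [← hadd] at this
    simp only [OneMemClass.coe_one, c, if_neg hne,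
      show φ * (1 : Idx M W₁ W₂) = φ from mul_one φ, if_true] at this
    omega
  have key : classInner (tau M (bridge χ ζ N φ ψ) - (η (φ * ψ) - η φ - (N : ℂ) • τ₁ ζ))
      (tau M (bridge χ ζ N φ ψ) - (η (φ * ψ) - η φ - (N : ℂ) • τ₁ ζ)) = 0 := by
    have e0 := tau_bridge_ref hh F hζ hτ hφ hψ hψ1 hN
    have e0' : classInner (τ₁ ζ) (tau M (bridge χ ζ N φ ψ)) = -(N : ℂ) := by
      rw [← CharCore.conj_classInner, e0, map_neg, map_intCast]
    have e1 : classInner (η (φ * ψ)) (tau M (bridge χ ζ N φ ψ)) = 1 := by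
      rw [← CharCore.conj_classInner, hb, hp, map_intCast, Int.cast_one]
    have e2 : classInner (η φ) (tau M (bridge χ ζ N φ ψ)) = -1 := by
      rw [← CharCore.conj_classInner, hb, hq, map_intCast]; norm_num
    have e3 : ∀ ω, classInner (η ω) (τ₁ ζ) = 0 := fun ω => by
      rw [← CharCore.conj_classInner, (hX ω).1, map_zero]
    simp only [CharCore.classInner_sub_left, CharCore.classInner_sub_right,
      CharCore.classInner_smul_left, CharCore.classInner_smul_right, map_intCast, hb, hp, hq,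
      e0, e0', e1, e2, e3, fun ω => (hX ω).1, E.self, E.orth _ _ hne, E.orth _ _ hne.symm,
      signed_inner_self hXs, hh.tau_inner hA hA, bridge_norm hh F hζ hφ hψ hψ1 hN]
    push_cast; ring
  exact sub_eq_zero.mp (inner_self_eq_zero.mp key)

end Bridges

section Column

variable {ζ : ↥M → ℂ} (hζ : Ref M W₁ ζ) {τ₁ : (↥M → ℂ) → G → ℂ} (hτ : Coh M τ₁)
variable {η : Idx M W₁ W₂ → G → ℂ} (E : PF.Eta M (W₁.subgroupOf M) (W₂.subgroupOf M) η)
variable {ψ : Idx M W₁ W₂}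
variable (hψ : ψ ∈ D2 (W₁.subgroupOf M) (W₂.subgroupOf M)) (hψ1 : ψ ≠ 1)
variable [Fintype ↥(D1 (W₁.subgroupOf M) (W₂.subgroupOf M))]
include F hζ hτ E hψ hψ1

/-- Peterfalvi (10.6): the coherent image of `μ_j`. -/
theorem tau_mu :
    τ₁ (mu χ ψ) = sgn χ ψ • ∑ a : ↥(D1 (W₁.subgroupOf M) (W₂.subgroupOf M)), η (a.1 * ψ) := by
  classical
  have hs := hh.primeTI.split
  haveI := hs.finite_dual
  haveI : Fintype ↥(D2 (W₁.subgroupOf M) (W₂.subgroupOf M)) := Fintype.ofFinite _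
  have hm := mu_mem hh F hψ hψ1
  have hgen : IsGeneralizedCharacter G (τ₁ (mu χ ψ)) := hτ.iso.2.2.2 _ (zspan_subset hm)
  have hint := fun ω => inner_gen_int hgen (E.signed ω).isGeneralizedCharacter
  choose c hc using hint
  obtain ⟨s, hs', hsgn⟩ := sgn_int (χ := χ) ψ
  have hmζ : mu χ ψ ≠ ζ := fun e => by
    have := norm_mu hh F hψ
    rw [e, irr_inner_self hζ.irr] at this
    have h1 : Nat.card W₁ = 1 := by exact_mod_cast this.symm
    obtain ⟨h3, -⟩ := hh.w₁_facts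
    omega
  have hrow : ∀ (a : ↥(D1 (W₁.subgroupOf M) (W₂.subgroupOf M)))
      (d : ↥(D2 (W₁.subgroupOf M) (W₂.subgroupOf M))),
      c (a.1 * d.1) = c a.1 + (if d.1 = ψ then s else 0) := by
    intro a d
    by_cases hd : d.1 = 1
    · rw [hd, show a.1 * (1 : Idx M W₁ W₂) = a.1 from MonoidHom.ext fun v => mul_one _, if_neg (Ne.symm hψ1), add_zero]
    obtain ⟨N, hN⟩ := F.degree_congr d.1
    rw [hh.card₁] at hN
    have e := congrArg (fun f => classInner f (τ₁ (mu χ ψ)))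
      (tau_bridge_eq hh F hζ hτ a.2 d.2 hd hN E)
    rw [tau_bridge_member hh F hζ a.2 d.2 hd hN hτ hm, tau_bridge_ref hh F hζ hτ a.2 d.2 hd hN,
      bridge_member hh F hζ a.2 d.2 hd hN hm, bridge_member hh F hζ a.2 d.2 hd hN hζ.mem,
      if_neg hmζ, if_pos rfl, sub_zero, CharCore.classInner_sub_left, CharCore.classInner_sub_left,
      CharCore.classInner_smul_left, hτ.iso.2.2.1 _ (zspan_subset hζ.mem) _ (zspan_subset hm),
      hh.member_orth hζ.mem hm (Ne.symm hmζ), ← CharCore.conj_classInner (τ₁ (mu χ ψ)),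
      ← CharCore.conj_classInner (τ₁ (mu χ ψ)) (η a.1), hc, hc, map_intCast, map_intCast] at e
    have hz : (if ζ = mu χ d.1 then sgn χ d.1 else 0) = 0 := by
      rw [if_neg]
      intro q
      have := norm_mu hh F d.2
      rw [← q, irr_inner_self hζ.irr] at this
      have h1 : Nat.card W₁ = 1 := by exact_mod_cast this.symm
      obtain ⟨h3, -⟩ := hh.w₁_facts
      omega
    rw [hz] at e
    by_cases hdψ : d.1 = ψ
    · rw [hdψ, if_pos rfl]
      rw [hdψ, if_pos rfl, hsgn] at e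
      have : (c (a.1 * ψ) : ℂ) = c a.1 + s := by linear_combination -e
      exact_mod_cast this
    · rw [if_neg hdψ, add_zero]
      rw [if_neg fun q => hdψ (mu_injOn hh F hψ d.2 q).symm] at e
      have : (c (a.1 * d.1) : ℂ) = c a.1 := by linear_combination -e
      exact_mod_cast this
  let gf : ↥(D1 (W₁.subgroupOf M) (W₂.subgroupOf M)) ×
      ↥(D2 (W₁.subgroupOf M) (W₂.subgroupOf M)) → G → ℂ := fun t => η (t.1.1 * t.2.1)
  have hnorm : classInner (τ₁ (mu χ ψ)) (τ₁ (mu χ ψ)) = (Nat.card W₁ : ℂ) := by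
    rw [hτ.iso.2.2.1 _ (zspan_subset hm) _ (zspan_subset hm), norm_mu hh F hψ]
  have hbs := bessel (ξ := τ₁ (mu χ ψ)) Finset.univ gf (fun _ => 1)
    (fun t => (c (t.1.1 * t.2.1) : ℝ)) (fun _ _ => one_ne_zero)
    (fun t _ => by simpa [gf] using E.self _)
    (fun t _ t' _ hne => E.orth _ _ fun e => hne (by
      obtain ⟨u, v⟩ := CycTI.mul_inj _ _ t.1.2 t'.1.2 t.2.2 t'.2.2 e
      exact Prod.ext (Subtype.ext u) (Subtype.ext v)))
    (fun t _ => by simpa [gf] using hc _)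
  rw [inner_self] at hnorm
  have hle : ∑ t : ↥(D1 (W₁.subgroupOf M) (W₂.subgroupOf M)) ×
      ↥(D2 (W₁.subgroupOf M) (W₂.subgroupOf M)), c (t.1.1 * t.2.1) ^ 2 ≤ (Nat.card W₁ : ℤ) := by
    have h0 := normSqFn_nonneg (τ₁ (mu χ ψ) -
      ∑ t, ((((c (t.1.1 * t.2.1) : ℤ) : ℝ) / 1 : ℝ) : ℂ) • gf t)
    rw [show normSqFn (τ₁ (mu χ ψ)) = (Nat.card W₁ : ℝ) by exact_mod_cast hnorm] at hbs
    have : ((∑ t : ↥(D1 (W₁.subgroupOf M) (W₂.subgroupOf M)) ×
        ↥(D2 (W₁.subgroupOf M) (W₂.subgroupOf M)), c (t.1.1 * t.2.1) ^ 2 : ℤ) : ℝ) ≤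
          (Nat.card W₁ : ℝ) := by
      push_cast
      simp only [div_one] at hbs h0
      linarith
    exact_mod_cast this
  have hrowsum : ∀ a : ↥(D1 (W₁.subgroupOf M) (W₂.subgroupOf M)),
      ∑ d : ↥(D2 (W₁.subgroupOf M) (W₂.subgroupOf M)), c (a.1 * d.1) ^ 2 =
        (Nat.card W₂ : ℤ) * c a.1 ^ 2 + 2 * c a.1 * s + 1 := by
    intro a
    have hh2 : ∀ d : ↥(D2 (W₁.subgroupOf M) (W₂.subgroupOf M)),
        c (a.1 * d.1) ^ 2 = c a.1 ^ 2 + if d = ⟨ψ, hψ⟩ then 2 * c a.1 * s + s ^ 2 else 0 := by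
      intro d
      rw [hrow]
      by_cases h : d = ⟨ψ, hψ⟩
      · rw [if_pos h, if_pos (congrArg Subtype.val h)]; ring
      · rw [if_neg h, if_neg fun q => h (Subtype.ext q)]; ring
    rw [Finset.sum_congr rfl fun d _ => hh2 d, Finset.sum_add_distrib, Finset.sum_const,
      Finset.card_univ, Finset.sum_ite_eq', if_pos (Finset.mem_univ _), ← Nat.card_eq_fintype_card,
      hs.card_d2, hh.card₂, nsmul_eq_mul]
    rcases hs' with rfl | rfl <;> ring
  rw [Fintype.sum_prod_type, Finset.sum_congr rfl fun a _ => hrowsum a, Finset.sum_add_distrib,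
    Finset.sum_const, Finset.card_univ, ← Nat.card_eq_fintype_card, hs.card_d1, hh.card₁,
    nsmul_eq_mul, mul_one] at hle
  obtain ⟨-, h32, -⟩ := hh.w₁_facts
  have hnn : ∀ r : ℤ, 0 ≤ (Nat.card W₂ : ℤ) * r ^ 2 + 2 * r * s ∧
      ((Nat.card W₂ : ℤ) * r ^ 2 + 2 * r * s = 0 → r = 0) := by
    intro r
    have h3 : (3 : ℤ) ≤ Nat.card W₂ := by exact_mod_cast h32
    by_cases hr : r = 0
    · subst hr; exact ⟨by simp, fun _ => rfl⟩
    · have h1 : (1 : ℤ) ≤ |r| := Int.one_le_abs hr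
      have h2 : -2 * |r| ≤ 2 * r * s := by
        rcases hs' with rfl | rfl <;> nlinarith [neg_abs_le r, le_abs_self r]
      have h4 : 3 * |r| ≤ (Nat.card W₂ : ℤ) * r ^ 2 := by
        rw [← sq_abs r]; nlinarith
      exact ⟨by linarith, fun e => absurd e (by intro e; linarith)⟩
  have hsum0 : ∑ a : ↥(D1 (W₁.subgroupOf M) (W₂.subgroupOf M)),
      ((Nat.card W₂ : ℤ) * c a.1 ^ 2 + 2 * c a.1 * s) = 0 :=
    le_antisymm (by linarith) (Finset.sum_nonneg fun a _ => (hnn _).1)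
  have hz : ∀ a : ↥(D1 (W₁.subgroupOf M) (W₂.subgroupOf M)), c a.1 = 0 := fun a =>
    (hnn _).2 ((Finset.sum_eq_zero_iff_of_nonneg fun a _ => (hnn _).1).mp hsum0 a
      (Finset.mem_univ _))
  have hcψ : ∀ a : ↥(D1 (W₁.subgroupOf M) (W₂.subgroupOf M)), c (a.1 * ψ) = s := fun a => by
    have := hrow a ⟨ψ, hψ⟩
    rwa [hz, zero_add, if_pos rfl] at this
  have key : classInner (τ₁ (mu χ ψ) - (s : ℂ) • ∑ a : ↥(D1 (W₁.subgroupOf M) (W₂.subgroupOf M)),
      η (a.1 * ψ)) (τ₁ (mu χ ψ) - (s : ℂ) • ∑ a : ↥(D1 (W₁.subgroupOf M) (W₂.subgroupOf M)),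
      η (a.1 * ψ)) = 0 := by
    have e1 : ∀ a : ↥(D1 (W₁.subgroupOf M) (W₂.subgroupOf M)),
        classInner (η (a.1 * ψ)) (τ₁ (mu χ ψ)) = (s : ℂ) := fun a => by
      rw [← CharCore.conj_classInner, hc, hcψ, map_intCast]
    have e2 : ∀ a a' : ↥(D1 (W₁.subgroupOf M) (W₂.subgroupOf M)),
        classInner (η (a.1 * ψ)) (η (a'.1 * ψ)) = if a = a' then 1 else 0 := fun a a' => by
      split_ifs with h
      · rw [h]; exact E.self _
      · exact E.orth _ _ fun e => h (Subtype.ext (CycTI.mul_inj _ _ a.2 a'.2 hψ hψ e).1)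
    have e3 : classInner (τ₁ (mu χ ψ)) (τ₁ (mu χ ψ)) = (Nat.card W₁ : ℂ) := by
      rw [inner_self]; exact hnorm
    simp only [CharCore.classInner_sub_left, CharCore.classInner_sub_right,
      CharCore.classInner_smul_left, CharCore.classInner_smul_right, CharCore.classInner_sum_left,
      CharCore.classInner_sum_right, hc, hcψ, e1, e2, e3, map_intCast, Finset.sum_const,
      Finset.sum_ite_eq, Finset.mem_univ, if_true, Finset.card_univ, nsmul_eq_mul,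
      Finset.sum_ite_eq']
    rw [← Nat.card_eq_fintype_card, hs.card_d1, hh.card₁]
    rcases hs' with rfl | rfl <;> push_cast <;> ring
  rw [sub_eq_zero.mp (inner_self_eq_zero.mp key), hsgn]

/-- Outside the supports of the Dade images, `ζ^τ₁` is the sum of the first row. -/
theorem ref_eq_row {g : G}
    (hg : ∀ α : ↥M → ℂ, Adm M α → (∀ w : ↥M, (w : G) ∈ W₁ → w ≠ 1 → α w = 0) →
      tau M α g = 0) :
    τ₁ ζ g = ∑ a : ↥(D1 (W₁.subgroupOf M) (W₂.subgroupOf M)), η a.1 g := by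
  obtain ⟨N, hN⟩ := F.degree_congr ψ
  rw [hh.card₁] at hN
  obtain ⟨s, hs', hsgn⟩ := sgn_int (χ := χ) ψ
  have hcol : ∀ a : ↥(D1 (W₁.subgroupOf M) (W₂.subgroupOf M)),
      η (a.1 * ψ) g = η a.1 g + (N : ℂ) * τ₁ ζ g := by
    intro a
    obtain ⟨hA, hW⟩ := bridge_adm hh F hζ a.2 hψ hN
    have := congrFun (tau_bridge_eq hh F hζ hτ a.2 hψ hψ1 hN E) g
    rw [hg _ hA hW] at this
    simp only [Pi.sub_apply, Pi.smul_apply, smul_eq_mul] at this
    linear_combination -this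
  have hm := mu_mem hh F hψ hψ1
  have hv : mu χ ψ 1 = ((s * (N * Nat.card W₁ + 1) : ℤ) : ℂ) * (Nat.card W₁ : ℂ) := by
    rw [mu_one hh F, hsgn, show χ ψ 1 = N * (Nat.card W₁ : ℂ) + 1 by linear_combination hN]
    push_cast; ring
  have hz : (s * (N * Nat.card W₁ + 1) : ℤ) • ζ - mu χ ψ ∈ zspanOn (calS M) {1}ᶜ :=
    mem_zspanOn_one.2 ⟨zspan_sub (zspan_zsmul _ (zspan_subset hζ.mem)) (zspan_subset hm), by
      rw [Pi.sub_apply, Pi.smul_apply, zsmul_eq_mul, hζ.deg, hv, sub_self]⟩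
  have h0 := hg _ (hh.adm_zspanOn hz) fun w hw hw1 =>
    hh.zspan_off hz.1 (hh.not_der_W₁ hw hw1)
  rw [← hτ.agree _ hz, iso_map_sub hτ.iso (zspan_zsmul _ (zspan_subset hζ.mem)) (zspan_subset hm)
    (zspan_neg (zspan_subset hm)), hτ.iso.2.1 _ (zspan_subset hζ.mem),
    tau_mu hh F hζ hτ E hψ hψ1] at h0
  simp only [Pi.sub_apply, Coherence.zsmul_eq, Pi.smul_apply, smul_eq_mul, Finset.sum_apply, hsgn,
    Finset.sum_congr rfl fun a _ => hcol a, Finset.sum_add_distrib, Finset.sum_const,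
    Finset.card_univ] at h0
  rw [← Nat.card_eq_fintype_card, hh.primeTI.split.card_d1, hh.card₁, nsmul_eq_mul] at h0
  rcases hs' with rfl | rfl <;> push_cast at h0
  · linear_combination h0
  · linear_combination -h0

end Column

end Cfsg.Agent.PF10
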