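import Cfsg.Agent.PF10.Graft
import Cfsg.Agent.S1496

/-!
`W₁` acts without fixed points on `M'/M''`.
-/

set_option autoImplicit false

namespace Cfsg.Agent.PF10

open Cfsg
open scoped commutatorElement

universe u

variable {G : Type u} [Group G] [Finite G] {M W₁ U W₂ : Subgroup G}
variable (hh : Hyp M W₁ U W₂)
include hh

omit [Finite G] in
theorem W₂_le_low : W₂.subgroupOf M ≤ ⁅der M, der M⁆ := fun x hx => by
  have e : (⁅der M, der M⁆).map M.subtype = ⁅⁅M, M⁆, ⁅M, M⁆⁆ := by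
    rw [Subgroup.map_commutator, Subgroup.map_subgroupOf_eq_of_le hh.derived_le]
  obtain ⟨y, hy, hyx⟩ := e.symm.le (hh.W₂_le_derived_two hx)
  exact Subtype.ext hyx ▸ hy

theorem W₂_central_W₁ {a b : ↥M} (ha : a ∈ W₁.subgroupOf M) (hb : b ∈ W₂.subgroupOf M) :
    a * b = b * a := by
  haveI : Fintype ↥M := Fintype.ofFinite _
  exact hh.primeTI.split.comm a ha b hb

/-- An element outside `M'` centralises only `1` in `M'/M''`. -/
theorem frob_top : ∀ k ∈ der M, k ∉ ⁅der M, der M⁆ →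
    ∀ x : ↥M, x * k * x⁻¹ * k⁻¹ ∈ ⁅der M, der M⁆ → x ∈ der M := by
  intro k hk hkn x hx
  by_contra hxK
  set H₁ : Subgroup ↥M := ⁅der M, der M⁆ with hH₁
  haveI hH₁n : H₁.Normal := Subgroup.commutator_normal _ _
  have hH₁K : H₁ ≤ der M := Subgroup.commutator_le_self _
  obtain ⟨c, hc, a, ha, rfl⟩ := hh.primeTI.exists_factor x
  have ha1 : a ≠ 1 := fun e => hxK (by simpa [e] using hc)
  -- remove the factor in `M'`
  have hak : a * k * a⁻¹ * k⁻¹ ∈ H₁ := by
    have h1 : c * k * c⁻¹ * k⁻¹ ∈ H₁ := by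
      simpa [commutatorElement_def] using Subgroup.commutator_mem_commutator hc hk
    have h2 : c * a * k * (c * a)⁻¹ * k⁻¹ * (c * k * c⁻¹ * k⁻¹)⁻¹ ∈ H₁ :=
      H₁.mul_mem hx (H₁.inv_mem h1)
    have h3 := hH₁n.conj_mem _ h2 c⁻¹
    have e : c⁻¹ * (c * a * k * (c * a)⁻¹ * k⁻¹ * (c * k * c⁻¹ * k⁻¹)⁻¹) * c⁻¹⁻¹ =
        a * k * a⁻¹ * k⁻¹ := by group
    rwa [e] at h3
  -- move `a` into a conjugate
  set h' : ↥M := k⁻¹ * (a * k * a⁻¹ * k⁻¹) * k with hh'
  have hh'H : h' ∈ H₁ := by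
    have := hH₁n.conj_mem _ hak k⁻¹
    rwa [inv_inv] at this
  have he : h' * a = k⁻¹ * a * k := by rw [hh']; group
  have hcop : (orderOf a).Coprime (Nat.card H₁) := by
    haveI : Fintype ↥M := Fintype.ofFinite _
    exact (hh.primeTI.coprime.coprime_dvd_left (Subgroup.orderOf_dvd_natCard _ ha)).coprime_dvd_right
      (Subgroup.card_dvd_of_le hH₁K)
  obtain ⟨y, hy, d, hd, hda, hyd⟩ :=
    S1496.result H₁ a (by rw [Subgroup.normalizer_eq_top]; trivial) hcop h' hh'H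
  have hd1 : d = 1 := by
    have hord : orderOf (d * a) = orderOf a := by
      rw [← hyd, he, show y * (k⁻¹ * a * k) * y⁻¹ = MulAut.conj (y * k⁻¹) a by
        simp [mul_assoc], MulEquiv.orderOf_eq]
    have h1 : (d * a) ^ orderOf a = 1 := by rw [← hord, pow_orderOf_eq_one]
    rw [(show Commute d a from hda).mul_pow, pow_orderOf_eq_one, mul_one] at h1
    rw [← orderOf_eq_one_iff]
    exact Nat.eq_one_of_dvd_coprimes hcop (orderOf_dvd_of_pow_eq_one h1)
      (Subgroup.orderOf_dvd_natCard _ hd)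
  rw [hd1, one_mul, he] at hyd
  have hzC : y * k⁻¹ ∈ der M ⊓ Subgroup.centralizer ({a} : Set ↥M) := by
    refine ⟨(der M).mul_mem (hH₁K hy) ((der M).inv_mem hk),
      Subgroup.mem_centralizer_singleton_iff.2 ?_⟩
    calc y * k⁻¹ * a = y * (k⁻¹ * a * k) * y⁻¹ * (y * k⁻¹) := by group
      _ = a * (y * k⁻¹) := by rw [hyd]
  rw [hh.primeTI.cent a ha ha1] at hzC
  refine hkn ?_
  have := H₁.mul_mem (H₁.inv_mem (W₂_le_low hh hzC)) hy
  simpa using this

end Cfsg.Agent.PF10
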