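import Cfsg.Agent.PF10.TI
import Cfsg.Agent.PF10.Frob
import Cfsg.Agent.S1517
import Cfsg.Agent.S1522
import Cfsg.Agent.OddLocal44.SelfCentralizing

/-!
Peterfalvi (6.8), case (c2): if `M'` is a trivial-intersection Sylow `p`-subgroup of `G`, then
`calS M` is coherent.
-/

set_option autoImplicit false

namespace Cfsg.Agent.PF10

open Cfsg Cfsg.Agent.OddChar Cfsg.Agent.Coherence
open scoped ComplexConjugate

universe u

variable {G : Type u} [Group G] [Fintype G] {M W₁ U W₂ : Subgroup G} [Fintype ↥M]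
variable (hh : Hyp M W₁ U W₂)
include hh

theorem der_ne_bot : der M ≠ ⊥ := fun e =>
  hh.primeTI.ne₂ (le_bot_iff.1 (hh.primeTI.le.trans e.le))

theorem der_lt_top : der M < ⊤ := by
  refine lt_top_iff_ne_top.2 fun e => ?_
  have h := hh.index_der
  rw [e, Subgroup.index_top] at h
  obtain ⟨h3, -⟩ := hh.w₁_facts
  omega

theorem low_lt_der (hnil : Group.IsNilpotent ↥(der M)) : ⁅der M, der M⁆ < der M := by
  haveI := hnil
  exact frob_commutator_lt (der M) (der_ne_bot hh)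

theorem exists_lowCoh {Rs : (↥M → ℂ) → Finset (G → ℂ)}
    (hS : IsCoherenceSystem (calS M) (tau M) Rs) (hnil : Group.IsNilpotent ↥(der M)) :
    ∃ τ₂, LowCoh M τ₂ ∧ ∃ ζ, ζ ∈ lowS M := by
  haveI := hnil
  haveI : (⁅der M, der M⁆).Normal := Subgroup.commutator_normal _ _
  obtain ⟨θ, hθ, -⟩ := exists_linear (der M) inferInstance ⁅der M, der M⁆
    (fun h => (low_lt_der hh hnil).not_ge h)
  have hζ : indFun (der M) (θ : der M → ℂ) ∈ lowS M := (mem_seqFinset _).2 ⟨θ, hθ, rfl⟩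
  obtain ⟨-, τ₂, h1, h2⟩ := S1517.result _ _ Rs
    (sys_subset hS (low_subset hh) ⟨_, Finset.mem_coe.2 hζ⟩ (fun χ h => low_conj hh h))
    (fun φ hφ ψ hψ => by
      rw [low_degree hh (Finset.mem_coe.1 hφ), low_degree hh (Finset.mem_coe.1 hψ)])
  exact ⟨τ₂, ⟨h1, h2⟩, _, hζ⟩

omit [Fintype ↥M] hh in
theorem comp_ringHom_trivOn {θ : ↥(der M) → ℂ} (σ : ℂ →+* ℂ) (Z : Subgroup ↥M) :
    TrivOn (der M) Z (fun k => σ (θ k)) ↔ TrivOn (der M) Z θ :=
  ⟨fun h a ha => σ.injective (h a ha), fun h a ha => congrArg σ (h a ha)⟩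

variable (hTI : IsTISubset ((⁅M, M⁆ : Subgroup G) : Set G))
variable {p : ℕ} [Fact p.Prime] (hp : IsPGroup p ↥(⁅M, M⁆ : Subgroup G))
variable (hHall : (Nat.card ↥(⁅M, M⁆ : Subgroup G)).Coprime (⁅M, M⁆ : Subgroup G).index)
include hTI hp hHall

/-- Peterfalvi (6.8), case (c2). -/
theorem coherent_of_ti : IsCoherent (calS M) {1}ᶜ (tau M) := by
  classical
  haveI : Fintype ↥(der M) := Fintype.ofFinite _
  have hpK : IsPGroup p ↥(der M) := hp.of_equiv (Subgroup.subgroupOfEquivOfLe hh.derived_le).symm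
  have hnil : Group.IsNilpotent ↥(der M) := hpK.isNilpotent
  haveI := hnil
  obtain ⟨Rs, hS⟩ := nonempty_system hh
  obtain ⟨τ₂, hτ, ζ, hζ⟩ := exists_lowCoh hh hS hnil
  haveI hH₁n : (⁅der M, der M⁆).Normal := Subgroup.commutator_normal _ _
  set W₂' : Subgroup ↥M := W₂.subgroupOf M with hW₂'
  have hW₂H : W₂' ≤ ⁅der M, der M⁆ := W₂_le_low hh
  have hW₂p : (Nat.card W₂').Prime := by rw [hh.card₂]; exact hh.prime
  have hex : ∀ (Z : Subgroup ↥M) [Z.Normal], Z ≤ ⁅der M, der M⁆ →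
      ∃ g : IrrCharacter ↥(der M) → ℤ, ∀ θ ∈ offZ Z, coef τ₂ ζ θ = (g θ : ℂ) := by
    intro Z _ hZH
    have : ∀ θ : IrrCharacter ↥(der M), ∃ g : ℤ, θ ∈ offZ Z → coef τ₂ ζ θ = (g : ℂ) := fun θ => by
      by_cases h : θ ∈ offZ Z
      · obtain ⟨h0, hnot⟩ := offZ_not_low hh hZH h
        obtain ⟨g, hg, -⟩ := coef_bound hh hS hτ hζ h0 hnot
        exact ⟨g, fun _ => hg⟩
      · exact ⟨0, fun h' => absurd h' h⟩
    choose g hg using this
    exact ⟨g, hg⟩
  have hcentW₁ : ∀ a ∈ W₁.subgroupOf M, ∀ b ∈ W₂', a * b = b * a :=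
    fun a ha b hb => W₂_central_W₁ hh ha hb
  by_cases hcB : ∀ v ∈ W₂', ∀ k ∈ der M, v * k = k * v
  · -- `W₂` is central
    have hcen : ∀ v ∈ W₂', ∀ x : ↥M, x * v = v * x := by
      intro v hv x
      obtain ⟨c, hc, a, ha, rfl⟩ := hh.primeTI.exists_factor x
      rw [mul_assoc, hcentW₁ a ha v hv, ← mul_assoc, ← hcB v hv c hc, mul_assoc]
    haveI hW₂n : W₂'.Normal := ⟨fun v hv x => by rw [hcen v hv x, mul_inv_cancel_right]; exact hv⟩
    have hz : 3 ≤ Nat.card W₂' := by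
      rw [hh.card₂]; exact hh.w₁_facts.2.1
    obtain ⟨g, hg⟩ := hex W₂' hW₂H
    refine coherent_of_const hh hTI hp hHall hS hτ hζ W₂' hW₂H hz hcB
      (fun z hz' z' hz'' _ _ => by
        have e : ∀ v ∈ W₂', Subgroup.centralizer ({v} : Set ↥M) = ⊤ := fun v hv =>
          eq_top_iff.2 fun x _ => Subgroup.mem_centralizer_singleton_iff.2 (hcen v hv x)
        rw [e z hz', e z' hz'']) hg ?_
    intro z z' hz1 hz1' hne hne'
    -- `z'` is a power of `z` prime to `p`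
    haveI := Fact.mk hW₂p
    have hgen : (z' : ↥M) ∈ Submonoid.powers (z : ↥M) := by
      have hzz : (⟨(z : ↥M), hz1⟩ : W₂') ≠ 1 := fun e =>
        hne (Subtype.ext (congrArg (fun t : W₂' => (t : ↥M)) e :))
      obtain ⟨k, hk⟩ := Submonoid.mem_powers_iff _ _ |>.1
        (mem_powers_of_prime_card (G := W₂') (p := Nat.card W₂') rfl
          (g := ⟨(z : ↥M), hz1⟩) (g' := ⟨(z' : ↥M), hz1'⟩) hzz)
      exact ⟨k, congrArg (fun t : W₂' => (t : ↥M)) hk⟩
    obtain ⟨k, hk⟩ := hgen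
    have hkK : z ^ k = z' := Subtype.ext hk
    have hkcop : k.Coprime (Nat.card ↥(der M)) := by
      obtain ⟨n, hn⟩ := IsPGroup.iff_card.1 hpK
      rw [hn]
      refine Nat.Coprime.pow_right n ?_
      rw [Nat.coprime_comm, (Fact.out : p.Prime).coprime_iff_not_dvd]
      rintro ⟨c, rfl⟩
      refine hne' (hkK.symm.trans ?_)
      have hord : orderOf z = p := by
        have h1 : orderOf z ∣ Nat.card W₂' := by
          rw [← Subgroup.orderOf_coe z]
          exact Subgroup.orderOf_dvd_natCard _ hz1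
        rcases (Nat.dvd_prime hW₂p).1 h1 with h | h
        · exact absurd (orderOf_eq_one_iff.1 h) hne
        · have h2 : Nat.card W₂' ∣ Nat.card ↥(der M) :=
            Subgroup.card_dvd_of_le (hW₂H.trans (Subgroup.commutator_le_self _))
          rw [hn] at h2
          rw [h, (Nat.prime_dvd_prime_iff_eq hW₂p Fact.out).1 (hW₂p.dvd_of_dvd_pow h2)]
      rw [pow_mul, ← hord, pow_orderOf_eq_one, one_pow]
    obtain ⟨σ, hσ⟩ := CharClifford.exists_ringHom_map_isCharacter (G := ↥(der M)) hkcop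
    set F : IrrCharacter ↥(der M) → IrrCharacter ↥(der M) := fun θ =>
      ⟨fun x => σ ((θ : der M → ℂ) x), OddChar.isIrrCharacter_map σ θ.2⟩ with hF
    have hFinj : Function.Injective F := fun a b e => Subtype.ext (funext fun x =>
      σ.injective (congrFun (congrArg Subtype.val e) x))
    have hFdeg : ∀ θ, deg (F θ) = deg θ := fun θ => by
      have h : ((deg (F θ) : ℕ) : ℂ) = (deg θ : ℂ) := by
        rw [← deg_eq]
        show σ ((θ : der M → ℂ) 1) = _
        rw [deg_eq, map_natCast]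
      exact_mod_cast h
    have himg : (offZ W₂').image F = offZ W₂' := by
      refine Finset.eq_of_subset_of_card_le (fun θ hθ => ?_)
        (by rw [Finset.card_image_of_injective _ hFinj])
      obtain ⟨θ', hθ', rfl⟩ := Finset.mem_image.1 hθ
      rw [offZ_mem] at hθ' ⊢
      exact mt (comp_ringHom_trivOn σ W₂').1 hθ'
    have hgF : ∀ θ ∈ offZ W₂', g (F θ) = g θ := by
      intro θ hθ
      have hθ' : F θ ∈ offZ W₂' := himg ▸ Finset.mem_image_of_mem F hθ
      obtain ⟨h0, hnot⟩ := offZ_not_low hh hW₂H hθ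
      obtain ⟨h0', hnot'⟩ := offZ_not_low hh hW₂H hθ'
      have := coef_eq_of_deg hh hS hτ hζ h0' hnot' h0 hnot (hFdeg θ)
      rw [hg _ hθ', hg _ hθ] at this
      exact_mod_cast this
    set Φ : ↥(der M) → ℂ := fun x =>
      ∑ θ ∈ offZ W₂', (g θ : ℂ) * ((θ : der M → ℂ) x - (θ : der M → ℂ) 1) with hΦ
    show Φ z = Φ z'
    have e1 : σ (Φ z) = Φ z' := by
      simp only [hΦ, map_sum, map_mul, map_sub, map_intCast]
      refine Finset.sum_congr rfl fun θ _ => ?_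
      rw [hσ _ (irr_isCharacter θ.2) z, hσ _ (irr_isCharacter θ.2) 1, one_pow, hkK]
    have e2 : σ (Φ z) = Φ z := by
      simp only [hΦ, map_sum, map_mul, map_sub, map_intCast]
      conv_rhs => rw [← himg, Finset.sum_image hFinj.injOn]
      exact Finset.sum_congr rfl fun θ hθ => by rw [hgF θ hθ]
    rw [← e2, e1]
  · -- `W₂` is not central
    push Not at hcB
    obtain ⟨v₀, hv₀, k₀, hk₀, hvk⟩ := hcB
    haveI : (Subgroup.centralizer (der M : Set ↥M)).Normal := inferInstance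
    set Z : Subgroup ↥M := ⁅der M, der M⁆ ⊓ Subgroup.centralizer (der M : Set ↥M) with hZdef
    haveI : Z.Normal := Subgroup.normal_inf_normal _ _
    have hZH : Z ≤ ⁅der M, der M⁆ := inf_le_left
    have hZK : Z ≤ der M := hZH.trans (Subgroup.commutator_le_self _)
    have hZc : ∀ z ∈ Z, ∀ k ∈ der M, z * k = k * z := fun z hz k hk =>
      ((Subgroup.mem_centralizer_iff.1 hz.2) k hk).symm
    have hZW : Z ⊓ W₂' = ⊥ := by
      haveI := Fact.mk hW₂p
      rcases Subgroup.eq_bot_or_eq_top_of_prime_card ((Z ⊓ W₂').subgroupOf W₂') with h | h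
      · rw [Subgroup.subgroupOf_eq_bot] at h
        rwa [disjoint_iff, inf_assoc, inf_idem] at h
      · rw [Subgroup.subgroupOf_eq_top] at h
        exact absurd (hZc v₀ (h hv₀).1 k₀ hk₀) hvk
    have hH₁ne : ⁅der M, der M⁆ ≠ ⊥ := fun e =>
      hh.primeTI.ne₂ (le_bot_iff.1 (hW₂H.trans e.le))
    have hZ1 : Z ≠ ⊥ := by
      have h0 : (⁅der M, der M⁆).subgroupOf (der M) ≠ ⊥ := by
        rw [Ne, Subgroup.subgroupOf_eq_bot, disjoint_iff,
          inf_eq_left.2 (Subgroup.commutator_le_self _)]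
        exact hH₁ne
      haveI : ((⁅der M, der M⁆).subgroupOf (der M)).Normal := Subgroup.normal_subgroupOf
      have h := OddLocal44.inf_center_ne_bot_of_nilpotent ((⁅der M, der M⁆).subgroupOf (der M)) h0
      intro hZ
      refine h ((Subgroup.eq_bot_iff_forall _).2 fun x hx => Subtype.ext ?_)
      have : (x : ↥M) ∈ Z := ⟨Subgroup.mem_subgroupOf.1 hx.1, Subgroup.mem_centralizer_iff.2
        fun k hk => congrArg Subtype.val ((Subgroup.mem_center_iff.1 hx.2) ⟨k, hk⟩)⟩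
      exact Subgroup.mem_bot.1 (hZ ▸ this)
    have hz : 3 ≤ Nat.card Z := by
      have h1 : 1 < Nat.card Z := (Subgroup.one_lt_card_iff_ne_bot Z).2 hZ1
      obtain ⟨j, hj⟩ := hh.odd_M.of_dvd_nat Z.card_subgroup_dvd_card
      omega
    -- no element outside `M'` centralises a non-identity element of `Z`
    have hcent : ∀ z ∈ Z, z ≠ 1 → Subgroup.centralizer ({z} : Set ↥M) = der M := by
      intro z hz hz1
      refine le_antisymm (fun x hx => ?_) fun x hx => Subgroup.mem_centralizer_singleton_iff.2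
        (hZc z hz x hx).symm
      by_contra hxK
      rw [Subgroup.mem_centralizer_singleton_iff] at hx
      obtain ⟨y, w, hw, rfl⟩ := hh.primeTI.exists_conj hxK
      set z' := y * z * y⁻¹ with hz'
      have hz'Z : z' ∈ Z := Subgroup.Normal.conj_mem inferInstance z hz y
      have hwz : (w : ↥M) * z' = z' * w := by
        calc (w : ↥M) * z' = y * (y⁻¹ * w * y * z) * y⁻¹ := by rw [hz']; group
          _ = y * (z * (y⁻¹ * w * y)) * y⁻¹ := by rw [hx]
          _ = z' * w := by rw [hz']; group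
      have hsup : (w : ↥M) ∈ W₁.subgroupOf M ⊔ W₂' := w.2
      obtain ⟨a, ha, b, hb, hab⟩ : ∃ a ∈ W₁.subgroupOf M, ∃ b ∈ W₂', a * b = w := by
        have hs := hh.primeTI.split
        exact ⟨_, (CycTI.pr1 _ _ hs.disj hs.comm w).2, _, (CycTI.pr2 _ _ hs.disj hs.comm w).2,
          (CycTI.pr_mul_pr _ _ hs.disj hs.comm w).symm⟩
      have hbz : b * z' = z' * b := (hZc z' hz'Z b (hh.primeTI.le hb)).symm
      have haz : a * z' = z' * a := by
        have h1 : a = (w : ↥M) * b⁻¹ := eq_mul_inv_of_mul_eq hab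
        have h2 : b⁻¹ * z' = z' * b⁻¹ := by
          rw [inv_mul_eq_iff_eq_mul, ← mul_assoc, hbz, mul_inv_cancel_right]
        rw [h1, mul_assoc, h2, ← mul_assoc, hwz, mul_assoc]
      have ha1 : a ≠ 1 := fun e => hw (by rw [← hab, e, one_mul]; exact hb)
      have hz'W : z' ∈ Z ⊓ W₂' := ⟨hz'Z, by
        have h : z' ∈ der M ⊓ Subgroup.centralizer ({a} : Set ↥M) :=
          ⟨hZK hz'Z, Subgroup.mem_centralizer_singleton_iff.2 haz.symm⟩
        rwa [hh.primeTI.cent a ha ha1] at h⟩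
      rw [hZW, Subgroup.mem_bot, hz', conj_eq_one_iff] at hz'W
      exact hz1 hz'W
    -- characters fixed by `W₁` are trivial on `Z`
    have hirr : ∀ χ ∈ inducedIrrAbove (der M) ⊥ \ inducedIrrAbove (der M) Z,
        IsIrrCharacter ↥M χ := by
      rintro χ ⟨hχ, hχZ⟩
      obtain ⟨θ, hθ, rfl⟩ := (mem_seq_iff (der M)).1 hχ
      obtain ⟨t, -, -, -, h | ⟨hfix, -⟩⟩ := member_cases hh hθ
      · exact h.1
      exfalso
      refine hχZ ((mem_seq_iff (der M)).2 ⟨θ, (mem_irrNP _).2 ⟨((mem_irrNP _).1 hθ).1, ?_⟩, rfl⟩)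
      obtain ⟨⟨a, ha⟩, ha1⟩ := (Subgroup.ne_bot_iff_exists_ne_one).1 hh.primeTI.ne₁
      have ha1' : a ≠ 1 := fun e => ha1 (Subtype.ext e)
      let f : Z → Z := fun z => ⟨(z : ↥M)⁻¹ * (a * z * a⁻¹),
        Z.mul_mem (Z.inv_mem z.2) (Subgroup.Normal.conj_mem inferInstance _ z.2 a)⟩
      have hinj : Function.Injective f := by
        intro z z' e
        have e' : (z : ↥M)⁻¹ * (a * z * a⁻¹) = (z' : ↥M)⁻¹ * (a * z' * a⁻¹) :=
          congrArg Subtype.val e
        have hcm := hZc _ z'.2 _ (hZK (Z.inv_mem z.2))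
        have hfx : a * ((z' : ↥M) * (z : ↥M)⁻¹) * a⁻¹ = (z' : ↥M) * (z : ↥M)⁻¹ := by
          calc a * ((z' : ↥M) * (z : ↥M)⁻¹) * a⁻¹
              = (a * z' * a⁻¹) * (a * z * a⁻¹)⁻¹ := by group
            _ = ((z' : ↥M) * ((z' : ↥M)⁻¹ * (a * z' * a⁻¹))) *
                ((z : ↥M) * ((z : ↥M)⁻¹ * (a * z * a⁻¹)))⁻¹ := by group
            _ = (z' : ↥M) * (z : ↥M)⁻¹ := by rw [e']; group
        have hmem : (z' : ↥M) * (z : ↥M)⁻¹ ∈ Z ⊓ W₂' := ⟨Z.mul_mem z'.2 (Z.inv_mem z.2), by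
          have h : (z' : ↥M) * (z : ↥M)⁻¹ ∈ der M ⊓ Subgroup.centralizer ({a} : Set ↥M) :=
            ⟨hZK (Z.mul_mem z'.2 (Z.inv_mem z.2)),
              Subgroup.mem_centralizer_singleton_iff.2 (mul_inv_eq_iff_eq_mul.1 hfx).symm⟩
          rwa [hh.primeTI.cent a ha ha1'] at h⟩
        rw [hZW, Subgroup.mem_bot, mul_inv_eq_one] at hmem
        exact Subtype.ext hmem.symm
      intro u hu
      obtain ⟨z, hz⟩ := Finite.surjective_of_injective hinj ⟨(u : ↥M), hu⟩
      have hzu : (z : ↥M)⁻¹ * (a * z * a⁻¹) = (u : ↥M) := congrArg Subtype.val hz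
      set zk : ↥(der M) := ⟨z, hZK z.2⟩ with hzk
      have hzc : zk ∈ Subgroup.center ↥(der M) := Subgroup.mem_center_iff.2 fun k =>
        Subtype.ext (hZc _ z.2 k k.2).symm
      obtain ⟨c, hc0, hc⟩ := exists_central_scalar θ.2 hzc
      have e1 := congrFun (hfix a ha) zk
      simp only [conjBy] at e1
      have e2 : (⟨a * (zk : ↥M) * a⁻¹, (der_normal' M).conj_mem _ zk.2 a⟩ : ↥(der M)) = zk * u := by
        refine Subtype.ext ?_
        show a * (z : ↥M) * a⁻¹ = (z : ↥M) * (u : ↥M)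
        rw [← hzu]; group
      have e3 : (θ : der M → ℂ) (zk * u) = (θ : der M → ℂ) zk := e2 ▸ e1
      rw [hc u, show (θ : der M → ℂ) zk = c * (θ : der M → ℂ) 1 by rw [← hc 1, mul_one]] at e3
      exact mul_left_cancel₀ hc0 e3
    obtain ⟨-, hcoh⟩ := S1522.result (der M) inferInstance (tau M) Rs hS hh.odd_M hnil
      (low_lt_der hh hnil) (der_lt_top hh) (frob_top hh) Z hZ1 hZK hZc hirr
    obtain ⟨g, hg⟩ := hex Z hZH
    refine coherent_of_const hh hTI hp hHall hS hτ hζ Z hZH hz hZc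
      (fun z hz z' hz' h1 h1' => by rw [hcent z hz h1, hcent z' hz' h1']) hg ?_
    have hoffX : ∀ θ ∈ offZ Z, indFun (der M) (θ : der M → ℂ) ∈
        inducedIrrAbove (der M) ⊥ \ inducedIrrAbove (der M) Z := by
      intro θ hθ
      refine ⟨(mem_seq_iff _).2 ⟨θ, (offZ_not_low hh hZH hθ).1, rfl⟩, fun h => offZ_mem.1 hθ ?_⟩
      obtain ⟨ψ, hψ, e⟩ := (mem_seq_iff _).1 h
      obtain ⟨x, rfl⟩ := (ind_eq_iff (der M) θ ψ).1 e.symm
      exact ((mem_irrNP _).1 (conjIrr_mem (der M) hψ x)).2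
    by_cases hne : (offZ Z).Nonempty
    swap
    · rw [Finset.not_nonempty_iff_eq_empty] at hne
      intro z z' _ _ _ _
      rw [hne, Finset.sum_empty, Finset.sum_empty]
    obtain ⟨θ₀, hθ₀⟩ := hne
    have hprop : ∀ θ ∈ offZ Z, (deg θ₀ : ℂ) * (g θ : ℂ) = (deg θ : ℂ) * (g θ₀ : ℂ) := by
      intro θ hθ
      rw [← hg θ hθ, ← hg θ₀ hθ₀]
      refine coef_prop hh hS hτ hζ (S₁ := inducedIrrAbove (der M) ⊥ \ inducedIrrAbove (der M) Z)
        (fun φ h => h.1) (fun φ h => ⟨seq_conj _ h.1, fun h' => h.2 (by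
          simpa [conjFun_conjFun] using seq_conj (der M) h')⟩) ?_ hcoh
        (offZ_not_low hh hZH hθ).1 (offZ_not_low hh hZH hθ₀).1 (hoffX θ hθ) (hoffX θ₀ hθ₀)
      intro φ h hφ
      refine h.2 ?_
      rw [← Finset.mem_coe, coe_seqFinset] at hφ
      exact seq_subset (der M) (fun x _ hx => hZH hx) hφ
    have hval : ∀ z : ↥(der M), (z : ↥M) ∈ Z → z ≠ 1 →
        (deg θ₀ : ℂ) * ∑ θ ∈ offZ Z, (g θ : ℂ) * ((θ : der M → ℂ) z - (θ : der M → ℂ) 1) =
          (g θ₀ : ℂ) * -(Nat.card ↥(der M) : ℂ) := by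
      intro z hz hz1
      have e : ∀ θ ∈ offZ Z, (deg θ₀ : ℂ) * ((g θ : ℂ) * ((θ : der M → ℂ) z - (θ : der M → ℂ) 1)) =
          (g θ₀ : ℂ) * ((deg θ : ℂ) * ((θ : der M → ℂ) z - (θ : der M → ℂ) 1)) := fun θ hθ => by
        rw [← mul_assoc, hprop θ hθ]; ring
      rw [Finset.mul_sum, Finset.sum_congr rfl e, ← Finset.mul_sum]
      congr 1
      rw [Finset.sum_subset (Finset.subset_univ _) fun θ _ hθ => by
        rw [offZ_mem, not_not] at hθ
        rw [hθ z hz, sub_self, mul_zero]]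
      simp only [← deg_eq, mul_sub, Finset.sum_sub_distrib, CharCore.sum_degree_mul_apply,
        if_neg hz1, if_pos]
      ring
    intro z z' hz hz' h1 h1'
    exact mul_left_cancel₀ (Nat.cast_ne_zero.2 (deg_pos θ₀).ne')
      ((hval z hz h1).trans (hval z' hz' h1').symm)

end Cfsg.Agent.PF10
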