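import Cfsg.Agent.PF10.SumCrit
import Cfsg.Agent.PF10.Sibley

/-!
Peterfalvi (10.10), the extraspecial case: `M'` has order `p³` with `p = 2|W₁| - 1`.
-/

set_option autoImplicit false

namespace Cfsg.Agent.PF10

open Cfsg Cfsg.Agent.OddChar Cfsg.Agent.OddChar.PrimeTI Cfsg.Agent.Coherence
open Cfsg.Agent.OddChar.CycTI (D1 D2)
open scoped ComplexConjugate

universe u

variable {G : Type u} [Group G] [Fintype G] {M W₁ U W₂ : Subgroup G} [Fintype ↥M]
variable (hh : Hyp M W₁ U W₂)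
include hh

omit hh in
theorem tau_sum {ι : Type*} (s : Finset ι) (f : ι → ↥M → ℂ) :
    tau M (∑ i ∈ s, f i) = ∑ i ∈ s, tau M (f i) :=
  map_sum (AddMonoidHom.mk' (tau M) (tau_add M)) f s

/-- A function of small norm has no component outside its own along the least members. -/
theorem coef_zero_of_norm {τ₂ : (↥M → ℂ) → G → ℂ} (hτ : LowCoh M τ₂) {ζ : ↥M → ℂ}
    (hζ : ζ ∈ lowS M) {α : ↥M → ℂ} (hα : Adm M α) (hgen : IsGeneralizedCharacter ↥M α) {a : ℤ}
    (hin : ∀ η ∈ lowS M, classInner α η = if η = ζ then -(a : ℂ) else 0) {R : ℕ}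
    (hnorm : classInner α α = ((R + a ^ 2 : ℤ) : ℂ))
    (hbig : (R : ℤ) + 2 * |a| < (lowS M).card) :
    classInner (tau M α) (τ₂ ζ) = -(a : ℂ) := by
  classical
  obtain ⟨c, hc⟩ := inner_gen_int (hh.tau_gen hα hgen) (hτ.iso.2.2.2 _ (zspan_subset hζ))
  set e : ℤ := c + a with he
  have hval : ∀ η ∈ lowS M,
      classInner (tau M α) (τ₂ η) = (((e : ℝ) - if η = ζ then (a : ℝ) else 0 : ℝ) : ℂ) := by
    intro η hη
    have hmem : η - ζ ∈ zspanOn (↑(lowS M) : Set (↥M → ℂ)) {1}ᶜ :=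
      mem_zspanOn_one.2 ⟨zspan_sub (zspan_subset hη) (zspan_subset hζ),
        by simp [low_degree hh hη, low_degree hh hζ]⟩
    have h1 : classInner (tau M α) (τ₂ (η - ζ)) = classInner α (η - ζ) := by
      rw [hτ.agree _ hmem]
      exact hh.tau_inner hα (hh.adm_zspanOn (zspanOn_mono (low_subset hh) _ hmem))
    rw [iso_map_sub hτ.iso (zspan_subset hη) (zspan_subset hζ) (zspan_neg (zspan_subset hζ)),
      Coherence.inner_sub_right, Coherence.inner_sub_right, hin η hη, hin ζ hζ, if_pos rfl, hc,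
      sub_eq_iff_eq_add] at h1
    rw [h1, he]
    split_ifs <;> push_cast <;> ring
  have hn : normSqFn (tau M α) = (R : ℝ) + (a : ℝ) ^ 2 := by
    apply Complex.ofReal_injective
    rw [← inner_self, hh.tau_inner hα hα, hnorm]
    push_cast; rfl
  have hb := bessel (ξ := tau M α) (lowS M) τ₂ (fun _ => 1)
    (fun η => (e : ℝ) - if η = ζ then (a : ℝ) else 0) (fun _ _ => one_ne_zero)
    (fun η h => by
      rw [hτ.iso.2.2.1 _ (zspan_subset h) _ (zspan_subset h), irr_inner_self (low_irr hh h)]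
      simp)
    (fun η h η' h' hne => by
      rw [hτ.iso.2.2.1 _ (zspan_subset h) _ (zspan_subset h'),
        irr_inner_ne (low_irr hh h) (low_irr hh h') hne])
    hval
  simp only [div_one] at hb
  set m := (lowS M).card with hm
  have hsum : ∑ η ∈ lowS M, ((e : ℝ) - if η = ζ then (a : ℝ) else 0) ^ 2 =
      (a : ℝ) ^ 2 - 2 * a * e + m * (e : ℝ) ^ 2 := by
    have h : ∀ η ∈ lowS M, ((e : ℝ) - if η = ζ then (a : ℝ) else 0) ^ 2 =
        (if η = ζ then (a : ℝ) ^ 2 - 2 * a * e else 0) + (e : ℝ) ^ 2 := fun η _ => by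
      split_ifs <;> ring
    rw [Finset.sum_congr rfl h, Finset.sum_add_distrib, Finset.sum_ite_eq', if_pos hζ,
      Finset.sum_const, nsmul_eq_mul]
  rw [hsum, hn] at hb
  have hineq : (m : ℝ) * (e : ℝ) ^ 2 - 2 * a * e ≤ R := by
    have := normSqFn_nonneg (tau M α - ∑ η ∈ lowS M,
      (((e : ℝ) - if η = ζ then (a : ℝ) else 0 : ℝ) : ℂ) • τ₂ η)
    linarith
  have hineq' : (m : ℤ) * e ^ 2 - 2 * a * e ≤ R := by exact_mod_cast hineq
  have he0 : e = 0 := by
    by_contra hne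
    have h1 : 1 ≤ |e| := Int.one_le_abs hne
    have h2 : a * e ≤ |a| * |e| := by rw [← abs_mul]; exact le_abs_self _
    have h3 : e ^ 2 = |e| ^ 2 := (sq_abs e).symm
    have h4 : (m : ℤ) * |e| ≤ (m : ℤ) * |e| ^ 2 :=
      mul_le_mul_of_nonneg_left (by nlinarith) (Int.natCast_nonneg _)
    have h5 : ((m : ℤ) - 2 * |a|) * 1 ≤ ((m : ℤ) - 2 * |a|) * |e| :=
      mul_le_mul_of_nonneg_left h1 (by have := abs_nonneg a; omega)
    rw [h3] at hineq'
    linarith
  rw [hc]
  have : c = -a := by omega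
  rw [this]; push_cast; rfl

/-- Peterfalvi (10.10) for `|M'| = p³`, `p = 2|W₁| - 1`. -/
theorem coherent_of_cube (hnil : Group.IsNilpotent ↥(der M))
    (hp : Nat.card W₂ + 1 = 2 * Nat.card W₁)
    (hK : Nat.card ↥(der M) = Nat.card W₂ ^ 3)
    (hcard : Nat.card ↥(⁅der M, der M⁆ : Subgroup ↥M) = Nat.card W₂) :
    IsCoherent (calS M) {1}ᶜ (tau M) := by
  classical
  haveI : Fintype ↥(der M) := Fintype.ofFinite _
  haveI := hnil
  haveI hH₁n : (⁅der M, der M⁆).Normal := Subgroup.commutator_normal _ _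
  obtain ⟨Rs, hS⟩ := nonempty_system hh
  obtain ⟨τ₂, hτ, ζ, hζ⟩ := exists_lowCoh hh hS hnil
  obtain ⟨χ, F⟩ := hh.primeTI.exists_fam
  haveI := hh.primeTI.split.finite_dual
  haveI : Fintype ↥(D1 (W₁.subgroupOf M) (W₂.subgroupOf M)) := Fintype.ofFinite _
  haveI : Fintype ↥(D2 (W₁.subgroupOf M) (W₂.subgroupOf M)) := Fintype.ofFinite _
  obtain ⟨h3, h3', -⟩ := hh.w₁_facts
  set Z : Subgroup ↥M := ⁅der M, der M⁆ with hZdef
  set w := Nat.card W₁ with hw
  set p := Nat.card W₂ with hpdef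
  have hZK : Z ≤ der M := Subgroup.commutator_le_self _
  have hrel : Z.relIndex (der M) = p ^ 2 := by
    have h := Subgroup.relIndex_mul_relIndex ⊥ Z (der M) bot_le hZK
    rw [Subgroup.relIndex_bot_left, Subgroup.relIndex_bot_left, hcard, hK] at h
    exact Nat.eq_of_mul_eq_mul_left (by omega : 0 < p) (h.trans (by ring))
  have hlowcard : (lowS M).card + 4 = 4 * w := by
    have h := weight_seq hh Z
    rw [hrel] at h
    have h2 : weight (lowS M) = ((lowS M).card : ℝ) * (w : ℝ) ^ 2 := by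
      rw [weight, Finset.sum_congr rfl fun (η : ↥M → ℂ) (hη : η ∈ lowS M) => (show (η 1).re ^ 2 / normSqFn η = (w : ℝ) ^ 2 by
        have h1 := irr_inner_self (low_irr hh hη)
        rw [inner_self] at h1
        rw [show normSqFn η = 1 by exact_mod_cast h1, low_degree hh hη, Complex.natCast_re,
          div_one]), Finset.sum_const, nsmul_eq_mul]
    rw [h2] at h
    have hp' : (p : ℝ) = 2 * (w : ℝ) - 1 := by
      have : (p : ℝ) + 1 = 2 * (w : ℝ) := by exact_mod_cast hp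
      linarith
    have hw0 : (0 : ℝ) < (w : ℝ) := by
      rw [hw]; exact_mod_cast Nat.card_pos
    have : (((lowS M).card + 4 : ℕ) : ℝ) = ((4 * w : ℕ) : ℝ) := by
      refine mul_left_cancel₀ (pow_ne_zero 2 hw0.ne') ?_
      push_cast at h ⊢
      rw [hp'] at h
      linear_combination h
    exact_mod_cast this
  -- every character nontrivial on `Z` is a `μ_j`
  set T : Finset (IrrCharacter ↥(der M)) :=
    (Finset.univ.filter fun b : ↥(D2 (W₁.subgroupOf M) (W₂.subgroupOf M)) => b ≠ 1).image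
      fun b => ⟨_, F.restrict_irr b.1⟩ with hTdef
  have hTdeg : ∀ θ ∈ T, (p : ℕ) ≤ deg θ ∧ θ ∈ offZ Z := by
    intro θ hθ
    obtain ⟨b, hb, rfl⟩ := Finset.mem_image.1 hθ
    have hb1 : b.1 ≠ 1 := fun e => (Finset.mem_filter.1 hb).2 (Subtype.ext e)
    obtain ⟨N, hN⟩ := F.degree_congr b.1
    rw [hh.card₁] at hN
    have hd := degree_bound hh F b.2 hb1 hN
    obtain ⟨s, hs, hsgn⟩ := sgn_int (χ := χ) b.1
    have ht : (deg (⟨_, F.restrict_irr b.1⟩ : IrrCharacter ↥(der M)) : ℤ) =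
        s * (N * (w : ℤ) + 1) := by
      have h := deg_eq (⟨_, F.restrict_irr b.1⟩ : IrrCharacter ↥(der M))
      change sgn χ b.1 * χ b.1 ((1 : der M) : ↥M) = _ at h
      have h1 : (s : ℂ) * ((N : ℂ) * (w : ℂ) + 1) = sgn χ b.1 * χ b.1 ((1 : der M) : ↥M) := by
        rw [OneMemClass.coe_one, hsgn, show χ b.1 1 = N * (w : ℂ) + 1 by linear_combination hN]
      exact_mod_cast (h1.trans h).symm
    have habs : |N * (w : ℤ) + 1| = (deg (⟨_, F.restrict_irr b.1⟩ : IrrCharacter ↥(der M)) : ℤ) := by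
      have h2 := congrArg abs ht
      rw [Nat.abs_cast, abs_mul] at h2
      rcases hs with rfl | rfl <;> simpa using h2.symm
    rw [habs] at hd
    have hdp : p ≤ deg (⟨_, F.restrict_irr b.1⟩ : IrrCharacter ↥(der M)) := by omega
    refine ⟨hdp, offZ_mem.2 fun htriv => ?_⟩
    have hlow : indFun (der M) (fun k : der M => (sgn χ b.1 • χ b.1) k) ∈ lowS M := by
      refine (mem_seqFinset _).2 ⟨⟨_, F.restrict_irr b.1⟩, (mem_irrNP _).2 ⟨fun e => ?_, htriv⟩, rfl⟩
      refine hb1 (F.restrict_inj b.2 (one_mem _) (e.trans ?_))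
      have h1 : sgn χ 1 = 1 := by
        rw [sgn, if_pos]
        rw [F.fam.map_one]
        exact CharCore.isIrrCharacter_one
      funext k
      simp [h1, F.fam.map_one]
    have h := low_degree hh hlow
    rw [CharInd.indFun_apply_one, hh.index_der] at h
    have h' := deg_eq (⟨_, F.restrict_irr b.1⟩ : IrrCharacter ↥(der M))
    simp only at h'
    rw [h'] at h
    have h2 : w * deg (⟨_, F.restrict_irr b.1⟩ : IrrCharacter ↥(der M)) = w * 1 := by
      rw [mul_one]; exact_mod_cast h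
    have := Nat.eq_of_mul_eq_mul_left (by omega : 0 < w) h2
    omega
  have hTcard : T.card + 1 = p := by
    rw [hTdef, Finset.card_image_of_injOn, Finset.filter_ne',
      Finset.card_erase_of_mem (Finset.mem_univ _), Finset.card_univ, ← Nat.card_eq_fintype_card,
      hh.primeTI.split.card_d2, hh.card₂]
    · omega
    · intro a _ b _ e
      exact Subtype.ext (F.restrict_inj a.2 b.2 (congrArg Subtype.val e))
  have hsum : ∑ θ ∈ offZ Z, deg θ * deg θ = T.card * (p * p) := by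
    have h := sum_offZ hh Z
    rw [hK, hrel] at h
    have hT' : (T.card : ℝ) = (p : ℝ) - 1 := by
      have : (T.card : ℝ) + 1 = (p : ℝ) := by exact_mod_cast hTcard
      linarith
    have : ((∑ θ ∈ offZ Z, deg θ * deg θ : ℕ) : ℝ) = ((T.card * (p * p) : ℕ) : ℝ) := by
      push_cast
      rw [hT', Finset.sum_congr rfl fun θ _ => (sq (deg θ : ℝ)).symm, h]
      push_cast
      ring
    exact_mod_cast this
  have hTsub : T ⊆ offZ Z := fun θ h => (hTdeg θ h).2
  have hoffT : ∀ θ ∈ offZ Z, θ ∈ T ∧ deg θ = p := by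
    have h1 : ∑ θ ∈ T, deg θ * deg θ + ∑ θ ∈ offZ Z \ T, deg θ * deg θ = T.card * (p * p) := by
      rw [← hsum, add_comm]; exact Finset.sum_sdiff hTsub
    have h2 : T.card * (p * p) ≤ ∑ θ ∈ T, deg θ * deg θ := by
      have := Finset.card_nsmul_le_sum T (fun θ => deg θ * deg θ) (p * p)
        fun θ h => Nat.mul_le_mul (hTdeg θ h).1 (hTdeg θ h).1
      simpa using this
    intro θ hθ
    have hmem : θ ∈ T := by
      by_contra hnot
      have := Finset.single_le_sum (f := fun θ => deg θ * deg θ) (fun _ _ => Nat.zero_le _)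
        (Finset.mem_sdiff.2 ⟨hθ, hnot⟩)
      have := Nat.mul_pos (deg_pos θ) (deg_pos θ)
      omega
    refine ⟨hmem, ?_⟩
    have h3 : ∑ θ ∈ T, deg θ * deg θ = ∑ _θ ∈ T, p * p := by
      rw [Finset.sum_const, smul_eq_mul]; omega
    have := (Finset.sum_eq_sum_iff_of_le fun θ h =>
      Nat.mul_le_mul (hTdeg θ h).1 (hTdeg θ h).1).1 h3.symm θ hmem
    exact (Nat.mul_self_inj.1 this).symm
  refine coherent_of_coef_zero hh hS hτ hζ Z le_rfl (by rw [hcard]; exact h3') fun θ hθ => ?_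
  obtain ⟨hθT, hdeg⟩ := hoffT θ hθ
  obtain ⟨⟨ψ, hψ⟩, hb, rfl⟩ := Finset.mem_image.1 hθT
  have hψ1 : ψ ≠ 1 := fun e => (Finset.mem_filter.1 hb).2 (Subtype.ext e)
  simp only at hdeg
  obtain ⟨N, hN⟩ := F.degree_congr ψ
  rw [hh.card₁] at hN
  obtain ⟨s, hs, hsgn⟩ := sgn_int (χ := χ) ψ
  have ht : (p : ℤ) = s * (N * (w : ℤ) + 1) := by
    have h := deg_eq (⟨_, F.restrict_irr ψ⟩ : IrrCharacter ↥(der M))
    rw [hdeg] at h
    change sgn χ ψ * χ ψ ((1 : der M) : ↥M) = _ at h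
    have h1 : (s : ℂ) * ((N : ℂ) * (w : ℂ) + 1) = sgn χ ψ * χ ψ ((1 : der M) : ↥M) := by
      rw [OneMemClass.coe_one, hsgn, show χ ψ 1 = N * (w : ℂ) + 1 by linear_combination hN]
    exact_mod_cast (h1.trans h).symm
  have hN2 : N = -2 := by
    have hpz : (p : ℤ) + 1 = 2 * (w : ℤ) := by exact_mod_cast hp
    have hw3 : (3 : ℤ) ≤ (w : ℤ) := by exact_mod_cast h3
    rcases hs with rfl | rfl
    · exfalso
      rw [one_mul] at ht
      have h : (2 - N) * (w : ℤ) = 2 := by linear_combination -hpz + ht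
      have h0 : 0 < 2 - N := by nlinarith
      nlinarith
    · have h : (N + 2) * (w : ℤ) = 0 := by linear_combination -hpz + ht
      have := (mul_eq_zero.1 h).resolve_right (by omega)
      omega
  have hRef : Ref M W₁ ζ := ⟨low_subset hh hζ, low_irr hh hζ, low_degree hh hζ⟩
  have hnotmu : ∀ η ∈ lowS M, ∀ ω ∈ D2 (W₁.subgroupOf M) (W₂.subgroupOf M), η ≠ mu χ ω := by
    intro η hη ω hω e
    have h1 := irr_inner_self (low_irr hh hη)
    rw [e, norm_mu hh F hω] at h1
    have : w = 1 := by exact_mod_cast h1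
    omega
  -- the bridges
  have hB : ∀ φ : ↥(D1 (W₁.subgroupOf M) (W₂.subgroupOf M)),
      classInner (tau M (bridge χ ζ N φ.1 ψ)) (τ₂ ζ) = -(N : ℂ) := by
    intro φ
    refine coef_zero_of_norm hh hτ hζ (bridge_adm hh F hRef φ.2 hψ hN).1
      (bridge_gen hh F hRef φ.2) (a := N) (fun η hη => ?_) (R := 2)
      (by rw [bridge_norm hh F hRef φ.2 hψ hψ1 hN]; push_cast; ring) (by rw [hN2]; norm_num; omega)
    rw [bridge_member hh F hRef φ.2 hψ hψ1 hN (low_subset hh hη), if_neg (hnotmu η hη ψ hψ)]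
    split_ifs <;> simp
  -- the first column
  set γ : ↥M → ℂ := mu χ 1 - ζ with hγ
  have hmu1 : mu χ 1 = ∑ φ : ↥(D1 (W₁.subgroupOf M) (W₂.subgroupOf M)), χ φ.1 := by
    have h1 : sgn χ 1 = 1 := by
      rw [sgn, if_pos]
      rw [F.fam.map_one]
      exact CharCore.isIrrCharacter_one
    rw [mu, h1, one_smul]
    exact Finset.sum_congr rfl fun φ _ => congrArg χ (MonoidHom.ext fun v => mul_one _)
  have hΓin : ∀ η ∈ lowS M, classInner (mu χ 1) η = 0 := by
    intro η hη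
    rw [hmu1, Coherence.inner_sum_left]
    refine Finset.sum_eq_zero fun φ _ => ?_
    rw [← Coherence.inner_conj_symm, chi_orth hh F (low_subset hh hη) (low_irr hh hη), map_zero]
  have hγgen : IsGeneralizedCharacter ↥M γ := by
    rw [hγ, hmu1]
    exact gen_sub (gen_sum _ _ fun φ _ => chi_gen hh F _) (irr_gen (low_irr hh hζ))
  have hγ1 : γ 1 = 0 := by
    rw [hγ, Pi.sub_apply, mu_one hh F, low_degree hh hζ, F.fam.map_one]
    have h1 : sgn χ 1 = 1 := by
      rw [sgn, if_pos]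
      rw [F.fam.map_one]
      exact CharCore.isIrrCharacter_one
    rw [h1]; ring
  have hγA : Adm M γ := by
    refine ⟨CharCore.IsGeneralizedCharacter.isClassFunction hγgen, hh.supp_der hγ1 fun x hx => ?_⟩
    rw [hγ, Pi.sub_apply, hh.member_off (low_subset hh hζ) hx, mu_eq hh F,
      indFun_eq_zero_of_notMem _ _ hx, sub_zero]
  have hC : classInner (tau M γ) (τ₂ ζ) = -((1 : ℤ) : ℂ) := by
    refine coef_zero_of_norm hh hτ hζ hγA hγgen (a := 1) (fun η hη => ?_) (R := w) ?_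
      (by rw [abs_one]; omega)
    · rw [hγ, Coherence.inner_sub_left, hΓin η hη]
      split_ifs with h
      · rw [h, irr_inner_self (low_irr hh hζ)]; simp
      · rw [irr_inner_ne (low_irr hh hζ) (low_irr hh hη) (Ne.symm h)]; simp
    · rw [hγ]
      simp only [Coherence.inner_sub_left, Coherence.inner_sub_right]
      rw [norm_mu hh F (one_mem _), hΓin ζ hζ, ← Coherence.inner_conj_symm (mu χ 1) ζ, hΓin ζ hζ,
        irr_inner_self (low_irr hh hζ), map_zero]
      push_cast; ring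
  -- the decomposition
  set θ₀ : IrrCharacter ↥(der M) := ⟨_, F.restrict_irr ψ⟩ with hθ₀
  have hsum' : ∑ φ : ↥(D1 (W₁.subgroupOf M) (W₂.subgroupOf M)), bridge χ ζ N φ.1 ψ + γ =
      (sgn χ ψ • mu χ ψ) - ((N * (w : ℤ) + 1 : ℤ) : ℂ) • ζ := by
    have hss : sgn χ ψ * sgn χ ψ = 1 := by rcases sgn_sq χ ψ with e | e <;> simp [e]
    have hD1 : (Fintype.card ↥(D1 (W₁.subgroupOf M) (W₂.subgroupOf M)) : ℂ) = (w : ℂ) := by
      rw [← Nat.card_eq_fintype_card, hh.primeTI.split.card_d1, hh.card₁]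
    simp only [bridge, Finset.sum_sub_distrib, Finset.sum_const, Finset.card_univ]
    rw [hγ, hmu1, mu, smul_smul, hss, one_smul]
    funext x
    simp only [Pi.add_apply, Pi.sub_apply, Pi.smul_apply, nsmul_eq_mul, smul_eq_mul, Pi.mul_apply,
      Pi.natCast_apply, hD1]
    push_cast
    ring
  have hanchor : anchor ζ θ₀ = (-sgn χ ψ) •
      (∑ φ : ↥(D1 (W₁.subgroupOf M) (W₂.subgroupOf M)), bridge χ ζ N φ.1 ψ + γ) := by
    rw [hsum', smul_sub, smul_smul, smul_smul]
    have hss : sgn χ ψ * sgn χ ψ = 1 := by rcases sgn_sq χ ψ with e | e <;> simp [e]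
    have hc : (-sgn χ ψ) * ((N * (w : ℤ) + 1 : ℤ) : ℂ) = -((p : ℤ) : ℂ) := by
      rw [ht, hsgn]; push_cast; ring
    rw [hc, neg_mul, hss, anchor, hdeg, mu_eq hh F, zsmul_eq]
    funext x
    simp only [Pi.sub_apply, Pi.smul_apply, smul_eq_mul]
    push_cast
    ring_nf
    rfl
  show (deg θ₀ : ℂ) - classInner (tau M (anchor ζ θ₀)) (τ₂ ζ) = 0
  rw [hanchor, tau_smul, tau_add, tau_sum, Coherence.inner_smul_left, Coherence.inner_add_left,
    Coherence.inner_sum_left, Finset.sum_congr rfl fun φ _ => hB φ, hC, Finset.sum_const,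
    Finset.card_univ, ← Nat.card_eq_fintype_card, hh.primeTI.split.card_d1, hh.card₁, nsmul_eq_mul,
    hdeg, hsgn]
  have h' : (p : ℂ) = (s : ℂ) * ((N : ℂ) * (w : ℂ) + 1) := by exact_mod_cast ht
  push_cast
  linear_combination h'

end Cfsg.Agent.PF10
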