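import Cfsg.Agent.PF10.System
import Cfsg.Agent.PF10.Coherent
import Cfsg.Agent.Coherence.Grow

/-!
Coherence of `calS M` from a coherent set of its members of least degree: if every member that is
nontrivial on a central subgroup `Z` is anchored correctly, the whole set is coherent.
-/

set_option autoImplicit false

namespace Cfsg.Agent.PF10

open Cfsg Cfsg.Agent.OddChar Cfsg.Agent.OddChar.PrimeTI Cfsg.Agent.Coherence
open Cfsg.Agent.OddChar.CycTI (D1 D2)
open scoped commutatorElement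

universe u

variable {G : Type u} [Group G] [Fintype G] {M W₁ U W₂ : Subgroup G} [Fintype ↥M]

instance der_normal' (M : Subgroup G) : (der M).Normal := by
  have h : der M = commutator ↥M := by
    refine Subgroup.map_injective M.subtype_injective ?_
    rw [Subgroup.map_subgroupOf_eq_of_le (Subgroup.commutator_le_self M), commutator_def,
      Subgroup.map_commutator, ← MonoidHom.range_eq_map, Subgroup.range_subtype]
  rw [h]
  infer_instance

/-- The members of `calS M` of least degree: those trivial on `M''`. -/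
noncomputable abbrev lowS (M : Subgroup G) [Fintype ↥M] : Finset (↥M → ℂ) :=
  seqFinset (der M) ⁅der M, der M⁆

/-- A coherent extension of the Dade map to `lowS M`. -/
structure LowCoh (M : Subgroup G) [Fintype ↥M] (τ₂ : (↥M → ℂ) → G → ℂ) : Prop where
  iso : IsLinearIsometryOn (zspan (↑(lowS M) : Set (↥M → ℂ))) τ₂
  agree : ∀ α ∈ zspanOn (↑(lowS M) : Set (↥M → ℂ)) {1}ᶜ, τ₂ α = tau M α

variable (hh : Hyp M W₁ U W₂)
include hh

theorem low_subset : (↑(lowS M) : Set (↥M → ℂ)) ⊆ calS M := by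
  rw [coe_seqFinset]; exact seq_subset_bot _ _

theorem low_conj {φ : ↥M → ℂ} (h : φ ∈ lowS M) : conjFun φ ∈ lowS M := by
  rw [← Finset.mem_coe, coe_seqFinset] at h ⊢
  exact seq_conj _ h

omit hh in
theorem linear_trivOn {L : Type*} [Group L] (K : Subgroup L) {θ : K → ℂ}
    (hθ : IsCharacter K θ) (h1 : θ 1 = 1) (b : K) (hb : (b : L) ∈ ⁅K, K⁆) : θ b = θ 1 := by
  obtain ⟨f, rfl⟩ := CharCore.IsCharacter.exists_hom_of_degree_one hθ h1
  have hle : ⁅K, K⁆ ≤ f.ker.map K.subtype := Subgroup.commutator_le.2 fun x hx y hy =>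
    ⟨⁅(⟨x, hx⟩ : K), ⟨y, hy⟩⁆, by
      show f _ = 1
      rw [map_commutatorElement, commutatorElement_def, mul_comm (f ⟨x, hx⟩)]
      group, by simp [commutatorElement_def]⟩
  obtain ⟨b', hb', hbe⟩ := hle hb
  obtain rfl : b' = b := Subtype.ext hbe
  simp [MonoidHom.mem_ker.1 hb']

theorem low_degree {φ : ↥M → ℂ} (h : φ ∈ lowS M) : φ 1 = (Nat.card W₁ : ℂ) := by
  classical
  haveI := hh.der_normal
  haveI := Subgroup.commutator_normal (der M) (der M)
  obtain ⟨θ, hθ, rfl⟩ := (mem_seqFinset (der M)).1 h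
  haveI := Fintype.ofFinite (der M)
  have hb := Coherence.degree_bound θ.2 ((⁅der M, der M⁆).subgroupOf (der M)) ⊤ ⊤ le_rfl
    (fun x _ y _ => show _ ∈ ⁅der M, der M⁆ by
      simpa [commutatorElement_def] using Subgroup.commutator_mem_commutator x.2 y.2)
    (fun b hb => ((mem_irrNP _).1 hθ).2 b hb)
  obtain ⟨t, ht, htp⟩ := char_one_nat (irr_isCharacter θ.2)
  rw [ht, Complex.natCast_re, Nat.card_congr (Subgroup.topEquiv (G := der M)).toEquiv] at hb
  have hb' : t ^ 2 * Nat.card (der M) * Nat.card (der M) ≤ Nat.card (der M) ^ 2 := by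
    exact_mod_cast hb
  have hK : 0 < Nat.card (der M) * Nat.card (der M) := Nat.mul_pos Nat.card_pos Nat.card_pos
  have ht2 : t ^ 2 ≤ 1 := by nlinarith
  have ht1 : t = 1 := by
    have := htp (irr_ne_zero θ.2)
    nlinarith
  rw [CharInd.indFun_apply_one, ht, ht1, Nat.cast_one, mul_one, hh.index_der]

theorem mem_low_of_linear {θ : IrrCharacter ↥(der M)} (hθ : θ ∈ irrNP (der M) ⊥)
    (h1 : (θ : der M → ℂ) 1 = 1) : indFun (der M) (θ : der M → ℂ) ∈ lowS M :=
  (mem_seqFinset _).2 ⟨θ, (mem_irrNP _).2 ⟨((mem_irrNP _).1 hθ).1,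
    linear_trivOn (der M) (irr_isCharacter θ.2) h1⟩, rfl⟩

/-- A member is irreducible or is one of the `μ_j`. -/
theorem member_cases {θ : IrrCharacter ↥(der M)} (hθ : θ ∈ irrNP (der M) ⊥) :
    ∃ t : ℕ, (θ : der M → ℂ) 1 = (t : ℂ) ∧ 0 < t ∧
      indFun (der M) (θ : der M → ℂ) 1 = ((Nat.card W₁ * t : ℕ) : ℂ) ∧
      ((IsIrrCharacter ↥M (indFun (der M) (θ : der M → ℂ)) ∧
          normSqFn (indFun (der M) (θ : der M → ℂ)) = 1) ∨
        ((∀ x ∈ W₁.subgroupOf M, conjBy (der M) x (θ : der M → ℂ) = θ) ∧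
          normSqFn (indFun (der M) (θ : der M → ℂ)) = (Nat.card W₁ : ℝ) ∧
          2 * Nat.card W₁ ≤ t + 1)) := by
  classical
  haveI := hh.der_normal
  haveI : Fintype ↥(der M) := Fintype.ofFinite _
  obtain ⟨t, ht, htp⟩ := char_one_nat (irr_isCharacter θ.2)
  refine ⟨t, ht, htp (irr_ne_zero θ.2), by
    rw [CharInd.indFun_apply_one, hh.index_der, ht]; push_cast; rfl, ?_⟩
  by_cases hfix : ∀ x ∈ W₁.subgroupOf M, conjBy (der M) x (θ : der M → ℂ) = θ
  · right
    obtain ⟨χ, F⟩ := hh.primeTI.exists_fam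
    haveI := hh.primeTI.split.finite_dual
    haveI : Fintype ↥(D1 (W₁.subgroupOf M) (W₂.subgroupOf M)) := Fintype.ofFinite _
    obtain ⟨ψ, hψ, e⟩ := F.exists_restrict θ.2 hfix
    have hψ1 : ψ ≠ 1 := by
      intro h0
      refine ((mem_irrNP _).1 hθ).1 ?_
      rw [← e, h0]
      have h1 : sgn χ 1 = 1 := by
        rw [sgn, if_pos]
        rw [F.fam.map_one]
        exact CharCore.isIrrCharacter_one
      funext k
      simp [h1, F.fam.map_one]
    obtain ⟨N, hN⟩ := F.degree_congr ψ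
    rw [hh.card₁] at hN
    have hd := degree_bound hh F hψ hψ1 hN
    have ht' : (t : ℂ) = sgn χ ψ * ((N * Nat.card W₁ + 1 : ℤ) : ℂ) := by
      rw [← ht, ← e]
      show sgn χ ψ * χ ψ ((1 : der M) : ↥M) = _
      rw [OneMemClass.coe_one, show χ ψ 1 = N * (Nat.card W₁ : ℂ) + 1 by linear_combination hN]
      push_cast; rfl
    obtain ⟨s, hs, hsgn⟩ := sgn_int (χ := χ) ψ
    rw [hsgn] at ht'
    have ht2 : (t : ℤ) = s * (N * Nat.card W₁ + 1) := by exact_mod_cast ht'
    have habs : |N * (Nat.card W₁ : ℤ) + 1| = t := by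
      have h2 : |(t : ℤ)| = |s * (N * Nat.card W₁ + 1)| := congrArg _ ht2
      rw [Nat.abs_cast, abs_mul] at h2
      rcases hs with rfl | rfl <;> simpa using h2.symm
    rw [habs] at hd
    refine ⟨hfix, ?_, by omega⟩
    have h2 := norm_mu hh F hψ
    rw [mu_eq hh F, e, inner_self] at h2
    exact_mod_cast h2
  · push Not at hfix
    have hirr := hh.primeTI.ind_irr θ.2 hfix
    refine Or.inl ⟨hirr, ?_⟩
    have h2 := irr_inner_self hirr
    rw [inner_self] at h2
    exact_mod_cast h2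

theorem weight_seq (A : Subgroup ↥M) [A.Normal] :
    weight (seqFinset (der M) A) =
      (Nat.card W₁ : ℝ) * ((A.relIndex (der M) : ℝ) - 1) := by
  haveI := hh.der_normal
  rw [weight, sum_seq, sum_irrNP, hh.index_der]

/-- A member trivial on `Z` has small degree. -/
theorem member_small {Z : Subgroup ↥M} [Z.Normal] {θ : IrrCharacter ↥(der M)}
    (hθ : θ ∈ irrNP (der M) Z) {t : ℕ} (ht : (θ : der M → ℂ) 1 = (t : ℂ)) :
    Nat.card W₁ * t < Z.relIndex (der M) := by
  haveI := hh.der_normal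
  have hθ0 : θ ∈ irrNP (der M) ⊥ := (mem_irrNP _).2 ⟨((mem_irrNP _).1 hθ).1, fun a ha => by
    rw [show a = 1 from Subtype.ext (Subgroup.mem_bot.1 ha)]⟩
  obtain ⟨t', ht', htpos, hdeg, hcase⟩ := member_cases hh hθ0
  have htt : t' = t := by exact_mod_cast ht'.symm.trans ht
  rw [htt] at htpos hdeg hcase
  obtain ⟨h3, -⟩ := hh.w₁_facts
  have hmem : indFun (der M) (θ : der M → ℂ) ∈ seqFinset (der M) Z :=
    (mem_seqFinset _).2 ⟨θ, hθ, rfl⟩
  have hw := weight_seq hh Z
  have hone := Finset.single_le_sum (f := fun φ : ↥M → ℂ => (φ 1).re ^ 2 / normSqFn φ)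
    (fun φ _ => div_nonneg (sq_nonneg _) (normSqFn_nonneg φ)) hmem
  rw [← weight, hw, hdeg, Complex.natCast_re] at hone
  set w := Nat.card W₁ with hwdef
  set P := Z.relIndex (der M) with hP
  have hw3 : (3 : ℝ) ≤ (w : ℝ) := by exact_mod_cast h3
  have hw0 : (0 : ℝ) < (w : ℝ) := by linarith
  have htp : (1 : ℝ) ≤ (t : ℝ) := by exact_mod_cast htpos
  have key : ((w * t : ℕ) : ℝ) < (P : ℝ) := by
    rcases hcase with ⟨-, hn⟩ | ⟨-, hn, ht2⟩
    · rw [hn, div_one] at hone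
      have h4 : (w : ℝ) * (t : ℝ) ^ 2 ≤ (P : ℝ) - 1 := by
        refine le_of_mul_le_mul_left ?_ hw0
        push_cast at hone ⊢
        linarith
      push_cast
      nlinarith
    · rw [hn, div_le_iff₀ hw0] at hone
      have h4 : (t : ℝ) ^ 2 ≤ (P : ℝ) - 1 := by
        refine le_of_mul_le_mul_left ?_ (mul_pos hw0 hw0)
        push_cast at hone ⊢
        linarith
      have h5 : (2 : ℝ) * w ≤ t + 1 := by exact_mod_cast ht2
      push_cast
      nlinarith
  exact_mod_cast key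

/-- If every member nontrivial on `Z` is anchored correctly, `calS M` is coherent. -/
theorem coherent_of_anchor {Rs : (↥M → ℂ) → Finset (G → ℂ)}
    (hS : IsCoherenceSystem (calS M) (tau M) Rs) (Z : Subgroup ↥M) [Z.Normal]
    (hZH : Z ≤ ⁅der M, der M⁆) (hz : 3 ≤ Nat.card Z) {τ₂ : (↥M → ℂ) → G → ℂ}
    (hτ₂ : LowCoh M τ₂) {ζ : ↥M → ℂ} (hζ : ζ ∈ lowS M)
    (hanchor : ∀ θ : IrrCharacter ↥(der M), ¬ TrivOn (der M) Z (θ : der M → ℂ) →
      ∀ t : ℕ, (θ : der M → ℂ) 1 = (t : ℂ) → ∀ η ∈ lowS M,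
        classInner (tau M ((t : ℤ) • ζ - indFun (der M) (θ : der M → ℂ))) (τ₂ η) =
          classInner ((t : ℤ) • ζ - indFun (der M) (θ : der M → ℂ)) η) :
    IsCoherent (calS M) {1}ᶜ (tau M) := by
  classical
  haveI := hh.der_normal
  set U := seqFinset (der M) (⊥ : Subgroup ↥M) with hUdef
  have hU : (↑U : Set (↥M → ℂ)) = calS M := coe_seqFinset _ _
  have hZK : Z ≤ der M := hZH.trans (Subgroup.commutator_le_self _)
  set X := U \ seqFinset (der M) Z with hXdef
  have hYU : lowS M ⊆ U := by rw [← Finset.coe_subset, hU]; exact low_subset hh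
  have hYZ : lowS M ⊆ seqFinset (der M) Z := by
    rw [← Finset.coe_subset, coe_seqFinset, coe_seqFinset]
    exact seq_subset _ fun x _ hx => hZH hx
  have hZU : seqFinset (der M) Z ⊆ U := by
    rw [← Finset.coe_subset, coe_seqFinset, hU]; exact seq_subset_bot _ _
  have hmemS : ∀ {φ}, φ ∈ U → φ ∈ calS M := fun {φ} h => hU.subset (Finset.mem_coe.2 h)
  set T₀ := lowS M ∪ X with hT₀
  have hT₀U : T₀ ⊆ U := Finset.union_subset hYU Finset.sdiff_subset
  have hUc : ∀ φ ∈ U, conjFun φ ∈ U := fun φ h => by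
    rw [← Finset.mem_coe, hU]; exact seq_conj _ (hmemS h)
  have hXc : ∀ φ ∈ X, conjFun φ ∈ X := fun φ h => by
    rw [hXdef, Finset.mem_sdiff] at h ⊢
    refine ⟨hUc φ h.1, fun h' => h.2 ?_⟩
    rw [← Finset.mem_coe, coe_seqFinset] at h' ⊢
    simpa [conjFun_conjFun] using seq_conj (der M) h'
  have hT₀c : ∀ φ ∈ T₀, conjFun φ ∈ T₀ := fun φ h => by
    rcases Finset.mem_union.1 h with h | h
    · exact Finset.mem_union_left _ (low_conj hh h)
    · exact Finset.mem_union_right _ (hXc φ h)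
  have hT₀S : (↑T₀ : Set (↥M → ℂ)) ⊆ calS M := fun φ h => hmemS (hT₀U h)
  have hcoh₀ : IsCoherent (↑T₀ : Set (↥M → ℂ)) {1}ᶜ (tau M) := by
    refine coherent_extend Finset.subset_union_left
      (fun φ h => sys_ne_zero hS (hT₀S h))
      (fun φ h ψ h' hne => hS.orthogonal φ (hT₀S h) ψ (hT₀S h') hne)
      (by
        have hm' := zspanOn_mono hT₀S ({1}ᶜ : Set ↥M)
        exact ⟨fun x hx y hy => hS.isometry.1 x (hm' hx) y (hm' hy),
          fun x hx => hS.isometry.2.1 x (hm' hx),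
          fun x hx y hy => hS.isometry.2.2.1 x (hm' hx) y (hm' hy),
          fun x hx => hS.isometry.2.2.2 x (hm' hx)⟩)
      hτ₂.iso hτ₂.agree hζ ?_
      (sys_nonzero hS hT₀S (χ := ζ) (Finset.mem_union_left _ hζ)
        (Finset.mem_union_left _ (low_conj hh hζ)))
    intro φ hφ hφY
    have hφX : φ ∈ X := (Finset.mem_union.1 hφ).resolve_left hφY
    obtain ⟨hφU, hφZ⟩ := Finset.mem_sdiff.1 hφX
    obtain ⟨θ, hθ, rfl⟩ := (mem_seqFinset _).1 hφU
    obtain ⟨t, ht, -, hdeg, -⟩ := member_cases hh hθ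
    refine ⟨(t : ℤ), ?_, hanchor θ (fun h => hφZ ((mem_seqFinset _).2
      ⟨θ, (mem_irrNP _).2 ⟨((mem_irrNP _).1 hθ).1, h⟩, rfl⟩)) t ht⟩
    simp [hdeg, low_degree hh hζ]
    ring
  rw [← hU]
  refine coherent_grow hS hU.subset hUc hT₀U hT₀c hcoh₀ ?_
  intro T hT₀T hTU _ hne
  obtain ⟨χ, hχU, hχT⟩ : ∃ χ ∈ U, χ ∉ T := by
    by_contra hall
    push Not at hall
    exact hne (Finset.Subset.antisymm hTU hall)
  have hχZ : χ ∈ seqFinset (der M) Z := by
    by_contra h
    exact hχT (hT₀T (Finset.mem_union_right _ (Finset.mem_sdiff.2 ⟨hχU, h⟩)))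
  obtain ⟨θ, hθ, rfl⟩ := (mem_seqFinset _).1 hχZ
  obtain ⟨t, ht, -⟩ := char_one_nat (irr_isCharacter θ.2)
  have hdeg : indFun (der M) (θ : der M → ℂ) 1 = (t : ℂ) * (Nat.card W₁ : ℂ) := by
    rw [CharInd.indFun_apply_one, hh.index_der, ht, mul_comm]
  refine ⟨_, hχU, hχT, ζ, hT₀T (Finset.mem_union_left _ hζ), t, ?_, ?_⟩
  · rw [hdeg, low_degree hh hζ]
  have hsmall := member_small hh hθ ht
  refine lt_of_lt_of_le ?_ (weight_mono (Finset.subset_union_right.trans hT₀T))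
  have hwX : weight X = (Nat.card W₁ : ℝ) *
      ((Nat.card (der M) : ℝ) - (Z.relIndex (der M) : ℝ)) := by
    have h := Finset.sum_sdiff (f := fun φ : ↥M → ℂ => (φ 1).re ^ 2 / normSqFn φ) hZU
    rw [← hXdef, ← weight, ← weight, ← weight, weight_seq hh Z, hUdef, weight_seq hh ⊥,
      Subgroup.relIndex_bot_left] at h
    linarith
  have hK : Nat.card Z * Z.relIndex (der M) = Nat.card (der M) := by
    have := Subgroup.relIndex_mul_relIndex ⊥ Z (der M) bot_le hZK
    rwa [Subgroup.relIndex_bot_left, Subgroup.relIndex_bot_left] at this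
  rw [hwX, hdeg, low_degree hh hζ, ← hK]
  have h1 : ((Nat.card W₁ * t : ℕ) : ℝ) < (Z.relIndex (der M) : ℝ) := by exact_mod_cast hsmall
  have h2 : (3 : ℝ) ≤ (Nat.card Z : ℝ) := by exact_mod_cast hz
  have h3 : (0 : ℝ) < (Nat.card W₁ : ℝ) := by exact_mod_cast Nat.card_pos
  simp only [Complex.mul_re, Complex.natCast_re, Complex.natCast_im, mul_zero, sub_zero]
  push_cast at h1 ⊢
  nlinarith [mul_le_mul_of_nonneg_right h2
    (Nat.cast_nonneg (Z.relIndex (der M)) : (0 : ℝ) ≤ _)]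

end Cfsg.Agent.PF10
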