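import Cfsg.Prelude.Def_OddOrderLocal
import Cfsg.Agent.OddChar.CyclicTI
import Cfsg.Agent.S1496
import Cfsg.Agent.BGSigma.Basic
import Cfsg.Agent.BGUniq.FittingOf
import Cfsg.Agent.BGUniq.Uniqueness
import Cfsg.Agent.BGSummary.TypeCore
import Cfsg.Agent.Lib.SmallGroups.Local

/-!
The partner of a maximal subgroup in Peterfalvi (10.8): a subgroup `S` of type II, and a bound for
the set of elements of order not prime to `|W₁|`.
-/

set_option autoImplicit false

namespace Cfsg.Agent.PF10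

open Cfsg
open Cfsg.Agent.OddChar.CycTI (offSet)

universe u

variable {G : Type u} [Group G]

/-- The properties of the type II partner that (10.8) uses. -/
structure Partner (S W₂ V W₁ : Subgroup G) : Prop where
  coatom : IsCoatom S
  data : IsTypePWith S W₂ V W₁
  prime : (Nat.card W₂).Prime
  ne_bot : V ≠ ⊥
  abelian : IsMulCommutative V
  norm : ¬ Subgroup.normalizer (V : Set G) ≤ S
  ti : IsTISubset (fittingOf S : Set G)
  hall : (Nat.card (fittingHallOf S)).Coprime (fittingHallOf S).index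
  uniq : ∀ u ∈ V, u ≠ 1 → fittingHallOf S ⊓ Subgroup.centralizer ({u} : Set G) ≠ ⊥ →
    ∀ L : Subgroup G, IsCoatom L → Subgroup.centralizer ({u} : Set G) ≤ L → L = S

theorem card_complIn [Finite G] {A B M : Subgroup G} (h : IsComplIn A B M) :
    Nat.card M = Nat.card A * Nat.card B := by
  obtain ⟨hA, hB, hAB, hdec⟩ := h
  rw [← Nat.card_prod]
  refine (Nat.card_congr (Equiv.ofBijective
    (fun t : A × B => (⟨t.1 * t.2, M.mul_mem (hA t.1.2) (hB t.2.2)⟩ : M)) ⟨?_, ?_⟩)).symm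
  · rintro ⟨a, b⟩ ⟨a', b'⟩ e
    have e' : (a : G) * b = a' * b' := congrArg Subtype.val e
    have h0 : (a' : G)⁻¹ * a = b' * (b : G)⁻¹ := by
      rw [inv_mul_eq_iff_eq_mul, ← mul_assoc, eq_mul_inv_iff_mul_eq, e']
    have h1 : (a' : G)⁻¹ * a = 1 := Subgroup.mem_bot.mp
      (hAB.le ⟨A.mul_mem (A.inv_mem a'.2) a.2, h0 ▸ B.mul_mem b'.2 (B.inv_mem b.2)⟩)
    rw [h1] at h0
    exact Prod.ext (Subtype.ext (inv_mul_eq_one.mp h1).symm)
      (Subtype.ext (mul_inv_eq_one.mp h0.symm).symm)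
  · rintro ⟨m, hm⟩
    obtain ⟨a, ha, b, hb, rfl⟩ := hdec m hm
    exact ⟨(⟨a, ha⟩, ⟨b, hb⟩), rfl⟩

/-- The conjugates of a set normalised by `L`. -/
def sat (A : Set G) : Set G := {g | ∃ y : G, y * g * y⁻¹ ∈ A}

theorem ncard_sat_mul_le [Finite G] (A : Set G) (L : Subgroup G)
    (hL : ∀ l ∈ L, ∀ a ∈ A, l * a * l⁻¹ ∈ A) :
    (sat A).ncard * Nat.card L ≤ Nat.card G * A.ncard := by
  have hsub : sat A ⊆ (fun t : (G ⧸ L) × G => t.1.out * t.2 * t.1.out⁻¹) ''
      ((Set.univ : Set (G ⧸ L)) ×ˢ A) := by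
    rintro g ⟨y, hy⟩
    obtain ⟨l, hl⟩ := QuotientGroup.mk_out_eq_mul L y⁻¹
    refine ⟨(QuotientGroup.mk y⁻¹, (l : G)⁻¹ * (y * g * y⁻¹) * (l : G)),
      ⟨Set.mem_univ _, by simpa using hL (l : G)⁻¹ (L.inv_mem l.2) _ hy⟩, ?_⟩
    simp only [hl]
    group
  calc (sat A).ncard * Nat.card L
      ≤ ((Set.univ : Set (G ⧸ L)) ×ˢ A).ncard * Nat.card L :=
        Nat.mul_le_mul_right _ ((Set.ncard_le_ncard hsub).trans (Set.ncard_image_le))
    _ = Nat.card G * A.ncard := by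
        rw [Set.ncard_prod, Set.ncard_univ, Subgroup.card_eq_card_quotient_mul_card_subgroup L]
        ring

namespace Partner

variable [Finite G] {S W₂ V W₁ : Subgroup G} (hG : IsMinSimpleOddOrder G) (P : Partner S W₂ V W₁)
include P

/-- The elements of `S'` centralising a non-identity element of `S_F`. -/
def supp (S : Subgroup G) : Set G :=
  {g | g ∈ ⁅S, S⁆ ∧ g ≠ 1 ∧ ∃ x ∈ fittingHallOf S, x ≠ 1 ∧ g * x = x * g}

/-- The non-identity elements of `V` centralising a non-identity element of `S_F`. -/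
def bad (S V : Subgroup G) : Set G :=
  {u | u ∈ V ∧ u ≠ 1 ∧ fittingHallOf S ⊓ Subgroup.centralizer ({u} : Set G) ≠ ⊥}

theorem H_le : fittingHallOf S ≤ ⁅S, S⁆ := P.data.U_compl.1

theorem derived_le : ⁅S, S⁆ ≤ S := P.data.W₁_compl.1

theorem W₁_le : W₁ ≤ fittingHallOf S := P.data.W₂_le.trans inf_le_left

theorem card_derived : Nat.card ↥⁅S, S⁆ = Nat.card (fittingHallOf S) * Nat.card V :=
  card_complIn P.data.U_compl

theorem card_S : Nat.card S = Nat.card (fittingHallOf S) * Nat.card V * Nat.card W₂ := by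
  rw [card_complIn P.data.W₁_compl, P.card_derived]

theorem coprime_V : (Nat.card V).Coprime (Nat.card (fittingHallOf S)) := by
  refine (P.hall.coprime_dvd_right ?_).symm
  have h := Subgroup.card_subgroup_dvd_card ⁅S, S⁆
  rw [P.card_derived, ← (fittingHallOf S).card_mul_index] at h
  exact Nat.dvd_of_mul_dvd_mul_left Nat.card_pos h

theorem coprime_W₂ : (Nat.card W₂).Coprime (Nat.card ↥⁅S, S⁆) := by
  have h := P.data.W₁_hall
  have e := Subgroup.relIndex_mul_relIndex (⊥ : Subgroup G) W₂ S bot_le P.data.W₁_compl.2.1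
  rw [Subgroup.relIndex_bot_left, Subgroup.relIndex_bot_left, card_complIn P.data.W₁_compl,
    mul_comm (Nat.card ↥⁅S, S⁆)] at e
  rwa [Nat.eq_of_mul_eq_mul_left Nat.card_pos e] at h

theorem le_norm_V : W₂ ≤ Subgroup.normalizer (V : Set G) := P.data.U_normal

omit [Finite G] in
theorem le_norm_H : ∀ l ∈ S, ∀ h ∈ fittingHallOf S, l * h * l⁻¹ ∈ fittingHallOf S := by
  intro l hl h hh
  obtain ⟨⟨y, hy⟩, hyF, rfl⟩ := hh
  exact ⟨⟨l, hl⟩ * ⟨y, hy⟩ * ⟨l, hl⟩⁻¹, (fittingHall_normal ↥S).conj_mem _ hyF _, rfl⟩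

omit [Finite G] in
theorem le_norm_derived : ∀ l ∈ S, ∀ d ∈ ⁅S, S⁆, l * d * l⁻¹ ∈ ⁅S, S⁆ := by
  intro l hl d hd
  have e : ⁅S, S⁆ = (commutator ↥S).map S.subtype := by
    rw [commutator_def, Subgroup.map_commutator, ← MonoidHom.range_eq_map, Subgroup.range_subtype]
  rw [e] at hd ⊢
  obtain ⟨⟨y, hy⟩, hyc, rfl⟩ := hd
  exact ⟨⟨l, hl⟩ * ⟨y, hy⟩ * ⟨l, hl⟩⁻¹,
    (inferInstance : (commutator ↥S).Normal).conj_mem _ hyc _, rfl⟩

theorem supp_conj : ∀ l ∈ S, ∀ a ∈ supp S, l * a * l⁻¹ ∈ supp S := by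
  rintro l hl a ⟨ha, ha1, x, hx, hx1, hax⟩
  refine ⟨P.le_norm_derived l hl a ha, fun e => ha1 (conj_eq_one_iff.mp e), l * x * l⁻¹,
    P.le_norm_H l hl x hx, fun e => hx1 (conj_eq_one_iff.mp e), ?_⟩
  calc l * a * l⁻¹ * (l * x * l⁻¹) = l * (a * x) * l⁻¹ := by group
    _ = l * (x * a) * l⁻¹ := by rw [hax]
    _ = l * x * l⁻¹ * (l * a * l⁻¹) := by group

include hG

theorem normalizer_S : Subgroup.normalizer (S : Set G) = S := by
  refine BGSigma.normalizer_eq_coatom hG P.coatom le_rfl (fun e => ?_) Subgroup.le_normalizer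
  exact P.ne_bot (eq_bot_iff.mpr (e ▸ (P.data.U_compl.2.1.trans P.derived_le)))

theorem centralizer_le {x : G} (hx : x ∈ fittingHallOf S) (hx1 : x ≠ 1) :
    Subgroup.centralizer ({x} : Set G) ≤ S := by
  intro g hg
  have hF : x ∈ fittingOf S := BGSummary.TypeCore.fittingHallOf_le_fittingOf S hx
  have hN : Subgroup.normalizer (fittingOf S : Set G) = S :=
    BGSigma.normalizer_eq_coatom hG P.coatom (BGUniq.fittingOf_le S)
      (fun e => hx1 (Subgroup.mem_bot.mp (e ▸ hF))) (BGUniq.le_normalizer_fittingOf S)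
  by_contra hgS
  refine hx1 (P.ti g (by rw [hN]; exact hgS) x hF ?_)
  rw [Subgroup.mem_centralizer_singleton_iff.mp hg, mul_inv_cancel_right]
  exact hF

theorem bad_ncard : 3 * (bad S V).ncard + 1 ≤ Nat.card V := by
  obtain ⟨e, heN, heS⟩ := Set.not_subset.mp P.norm
  have heN' : ∀ u ∈ V, e * u * e⁻¹ ∈ V := fun u hu =>
    (Subgroup.mem_normalizer_iff.mp heN u).mp hu
  have he2 : e * e ∉ S := by
    intro h
    obtain ⟨k, hk⟩ := hG.1.of_dvd_nat (orderOf_dvd_natCard e)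
    have : e = (e * e) ^ (k + 1) := by
      rw [← sq, ← pow_mul, show 2 * (k + 1) = orderOf e + 1 by omega, pow_succ, pow_orderOf_eq_one,
        one_mul]
    exact heS (this ▸ S.pow_mem h _)
  -- distinct translates of the bad set are disjoint
  have key : ∀ a : G, a ∉ S → ∀ u ∈ bad S V, a * u * a⁻¹ ∉ bad S V := by
    intro a ha u hu h'
    obtain ⟨T, hT, hCT⟩ : ∃ T : Subgroup G, IsCoatom T ∧
        Subgroup.centralizer ({u} : Set G) ≤ T := by
      refine ⟨S, P.coatom, ?_⟩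
      obtain ⟨M', hM', hle⟩ := (eq_top_or_exists_le_coatom
        (Subgroup.centralizer ({u} : Set G))).resolve_left fun htop => by
          have hcu : ∀ g : G, g * u = u * g := fun g =>
            Subgroup.mem_centralizer_singleton_iff.mp (htop ▸ Subgroup.mem_top g)
          refine BGSigma.normalizer_ne_top hG (X := Subgroup.zpowers u)
            (Subgroup.zpowers_ne_bot.mpr hu.2.1) (fun e => ?_) ?_
          · refine P.coatom.1 (top_le_iff.mp (e ▸ ?_))
            exact Subgroup.zpowers_le.mpr (P.derived_le (P.data.U_compl.2.1 hu.1))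
          · rw [Subgroup.normalizer_eq_top_iff]
            constructor
            rintro n hn g
            obtain ⟨k, rfl⟩ := Subgroup.mem_zpowers_iff.mp hn
            rw [((Commute.zpow_right (hcu g) k)).eq, mul_inv_cancel_right]
            exact hn
      rwa [← P.uniq u hu.1 hu.2.1 hu.2.2 M' hM' hle]
    have hTS := P.uniq u hu.1 hu.2.1 hu.2.2 T hT hCT
    have hsub : Subgroup.centralizer ({a * u * a⁻¹} : Set G) ≤
        S.map (MulAut.conj a).toMonoidHom := by
      intro g hg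
      refine ⟨a⁻¹ * g * a, hTS ▸ hCT ?_, by simp [mul_assoc]⟩
      rw [Subgroup.mem_centralizer_singleton_iff] at hg ⊢
      calc a⁻¹ * g * a * u = a⁻¹ * (g * (a * u * a⁻¹)) * a := by group
        _ = a⁻¹ * (a * u * a⁻¹ * g) * a := by rw [hg]
        _ = u * (a⁻¹ * g * a) := by group
    have := P.uniq _ h'.1 h'.2.1 h'.2.2 _ (BGUniq.isCoatom_map_conj P.coatom a) hsub
    refine ha ?_
    rw [← P.normalizer_S hG]
    exact Subgroup.mem_normalizer_iff_map_conj_eq.mpr this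
  let f : G → G := fun u => e * u * e⁻¹
  have hf : Function.Injective f := fun a b h => mul_left_cancel (mul_right_cancel h)
  have hd1 : Disjoint (bad S V) (f '' bad S V) := Set.disjoint_left.mpr fun x hx ⟨u, hu, hux⟩ =>
    key e heS u hu (by subst hux; exact hx)
  have hd2 : Disjoint (bad S V ∪ f '' bad S V) (f '' (f '' bad S V)) := by
    rw [Set.disjoint_left]
    rintro x (hx | ⟨u, hu, rfl⟩) ⟨y, ⟨v, hv, rfl⟩, hy⟩
    · refine key (e * e) he2 v hv ?_
      rw [show e * e * v * (e * e)⁻¹ = f (f v) by simp only [f]; group, hy]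
      exact hx
    · refine key e heS v hv ?_
      show f v ∈ bad S V
      rw [hf hy]; exact hu
  have hsub : bad S V ∪ f '' bad S V ∪ f '' (f '' bad S V) ⊆ (V : Set G) \ {1} := by
    have hmap : ∀ x ∈ (V : Set G) \ {1}, f x ∈ (V : Set G) \ {1} := fun x hx =>
      ⟨heN' x hx.1, fun q => hx.2 (conj_eq_one_iff.mp q)⟩
    have hB : ∀ x ∈ bad S V, x ∈ (V : Set G) \ {1} := fun x hx => ⟨hx.1, hx.2.1⟩
    rintro x ((hx | ⟨u, hu, rfl⟩) | ⟨y, ⟨v, hv, rfl⟩, rfl⟩)
    · exact hB x hx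
    · exact hmap _ (hB u hu)
    · exact hmap _ (hmap _ (hB v hv))
  have h := Set.ncard_le_ncard hsub
  rw [Set.ncard_union_eq hd2, Set.ncard_union_eq hd1, Set.ncard_image_of_injective (f '' bad S V) hf,
    Set.ncard_image_of_injective (bad S V) hf, Set.ncard_sdiff (by simp), Set.ncard_singleton,
    show (V : Set G).ncard = Nat.card V from (Nat.card_coe_set_eq _).symm] at h
  have := Nat.card_pos (α := V)
  omega

omit hG in
/-- `W₂` acts on `V` without fixed points, so `|V| ≥ 7`. -/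
theorem seven_le (hodd : Odd (Nat.card G)) : 7 ≤ Nat.card V := by
  haveI : Fact (Nat.card W₂).Prime := ⟨P.prime⟩
  obtain ⟨⟨w, hw⟩, hw1⟩ := (Subgroup.ne_bot_iff_exists_ne_one).mp P.data.W₁_ne
  have hw1' : w ≠ 1 := fun e => hw1 (Subtype.ext e)
  letI : MulAction W₂ V :=
    { smul := fun z v => ⟨z * v * (z : G)⁻¹,
        (Subgroup.mem_normalizer_iff.mp (P.le_norm_V z.2) v).mp v.2⟩
      one_smul := fun v => Subtype.ext (by
        show ((1 : W₂) : G) * v * ((1 : W₂) : G)⁻¹ = v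
        simp)
      mul_smul := fun a b v => Subtype.ext (by
        show ((a * b : W₂) : G) * v * ((a * b : W₂) : G)⁻¹ = a * (b * v * (b : G)⁻¹) * (a : G)⁻¹
        simp [mul_assoc]) }
  have hval : ∀ (z : W₂) (v : V), ((z • v : V) : G) = z * v * (z : G)⁻¹ := fun z v => rfl
  have h := SmallGroups.card_fixedBy_modEq_card (α := V) (x := (⟨w, hw⟩ : W₂))
    (q := Nat.card W₂) (i := 1) (by rw [pow_one]; exact pow_card_eq_one')
  have hfix : Nat.card (MulAction.fixedBy V (⟨w, hw⟩ : W₂)) = 1 := by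
    rw [Nat.card_eq_one_iff_exists]
    refine ⟨⟨1, Subtype.ext (by rw [hval]; simp)⟩, fun v => ?_⟩
    obtain ⟨⟨v, hv⟩, hfix⟩ := v
    have h' := congrArg Subtype.val hfix
    rw [hval] at h'
    simp only at h'
    have hc : v ∈ ⁅S, S⁆ ⊓ Subgroup.centralizer ({w} : Set G) :=
      ⟨P.data.U_compl.2.1 hv, Subgroup.mem_centralizer_singleton_iff.mpr
        (mul_inv_eq_iff_eq_mul.mp h').symm⟩
    rw [P.data.W₂_centralizer w hw hw1'] at hc
    have : v ∈ fittingHallOf S ⊓ V := ⟨P.W₁_le hc, hv⟩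
    rw [P.data.U_compl.2.2.1, Subgroup.mem_bot] at this
    exact Subtype.ext (Subtype.ext this)
  rw [hfix] at h
  have ho : Odd (Nat.card V) := hodd.of_dvd_nat (Subgroup.card_subgroup_dvd_card _)
  have h1 : 1 < Nat.card V := (Subgroup.one_lt_card_iff_ne_bot V).mpr P.ne_bot
  have ho2 : Odd (Nat.card W₂) := hodd.of_dvd_nat (Subgroup.card_subgroup_dvd_card _)
  have hd : Nat.card W₂ ∣ Nat.card V - 1 := (Nat.modEq_iff_dvd' h1.le).mp h
  by_contra hlt
  push Not at hlt
  obtain ⟨a, ha⟩ := ho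
  obtain ⟨b, hb⟩ := ho2
  have := P.prime.two_le
  have h3 := Nat.le_of_dvd (by omega) hd
  obtain ⟨t, ht⟩ := hd
  interval_cases hc : Nat.card V <;> interval_cases hc' : Nat.card W₂ <;> omega

omit hG in
theorem supp_ncard :
    (supp S).ncard + 1 ≤ Nat.card (fittingHallOf S) * ((bad S V).ncard + 1) := by
  have hsub : insert (1 : G) (supp S) ⊆ (fun t : G × G => t.1 * t.2) ''
      ((fittingHallOf S : Set G) ×ˢ insert (1 : G) (bad S V)) := by
    rintro g (rfl | ⟨hg, -, x, hx, hx1, hgx⟩)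
    · exact ⟨(1, 1), ⟨one_mem _, Or.inl rfl⟩, mul_one 1⟩
    obtain ⟨h, hh, u, hu, rfl⟩ := P.data.U_compl.2.2.2 g hg
    refine ⟨(h, u), ⟨hh, ?_⟩, rfl⟩
    by_cases hu1 : u = 1
    · exact Or.inl hu1
    refine Or.inr ⟨hu, hu1, fun hC => ?_⟩
    have huS : u ∈ S := P.derived_le (P.data.U_compl.2.1 hu)
    have hun : u ∈ Subgroup.normalizer (fittingHallOf S : Set G) :=
      Subgroup.mem_normalizer_iff.mpr fun y => ⟨P.le_norm_H u huS y, fun hy => by
        have := P.le_norm_H u⁻¹ (inv_mem huS) _ hy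
        simpa [mul_assoc] using this⟩
    obtain ⟨y, hy, c, hc, hcu, he⟩ := S1496.result (fittingHallOf S) u hun
      (P.coprime_V.coprime_dvd_left (Subgroup.orderOf_dvd_natCard V hu)) h hh
    have hc1 : c = 1 := by
      have : c ∈ fittingHallOf S ⊓ Subgroup.centralizer ({u} : Set G) :=
        ⟨hc, Subgroup.mem_centralizer_singleton_iff.mpr hcu⟩
      rwa [hC, Subgroup.mem_bot] at this
    rw [hc1, one_mul] at he
    have hmem : y * x * y⁻¹ ∈ fittingHallOf S ⊓ Subgroup.centralizer ({u} : Set G) := by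
      refine ⟨(fittingHallOf S).mul_mem ((fittingHallOf S).mul_mem hy hx)
        ((fittingHallOf S).inv_mem hy), Subgroup.mem_centralizer_singleton_iff.mpr ?_⟩
      rw [← he]
      calc y * x * y⁻¹ * (y * (h * u) * y⁻¹) = y * (x * (h * u)) * y⁻¹ := by group
        _ = y * (h * u * x) * y⁻¹ := by rw [hgx]
        _ = y * (h * u) * y⁻¹ * (y * x * y⁻¹) := by group
    rw [hC, Subgroup.mem_bot] at hmem
    exact hx1 (conj_eq_one_iff.mp hmem)
  have h := (Set.ncard_le_ncard hsub).trans Set.ncard_image_le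
  rw [Set.ncard_prod, Set.ncard_insert_of_notMem fun q => q.2.1 rfl,
    Set.ncard_insert_of_notMem fun q => q.2.1 rfl,
    show (fittingHallOf S : Set G).ncard = Nat.card (fittingHallOf S) from
      (Nat.card_coe_set_eq _).symm] at h
  exact h

/-- Elements of order not prime to `|W₁|`. -/
theorem covering (hcop : (Nat.card W₁).Coprime (Nat.card W₂)) {g : G}
    (hg : ¬ (orderOf g).Coprime (Nat.card W₁)) : g ∈ sat (supp S) ∪ sat (offSet W₁ W₂) := by
  obtain ⟨q, hq, hqg, hqw⟩ := Nat.Prime.not_coprime_iff_dvd.mp hg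
  haveI : Fact q.Prime := ⟨hq⟩
  have hqH : q ∣ Nat.card (fittingHallOf S) := hqw.trans (Subgroup.card_dvd_of_le P.W₁_le)
  have hqi : ¬ q ∣ (fittingHallOf S).index := fun h =>
    hq.ne_one (Nat.eq_one_of_dvd_coprimes P.hall hqH h)
  set x := g ^ (orderOf g / q) with hx
  have hxo : orderOf x = q := orderOf_pow_orderOf_div (orderOf_pos g).ne' hqg
  obtain ⟨Q⟩ : Nonempty (Sylow q (fittingHallOf S)) := inferInstance
  have hQ : ¬ q ∣ ((Q : Subgroup (fittingHallOf S)).map (fittingHallOf S).subtype).index := by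
    rw [Subgroup.index_map_subtype]
    exact fun h => (hq.dvd_mul.mp h).elim (fun h' => Q.not_dvd_index h') hqi
  let Q' : Sylow q G := (IsPGroup.map Q.isPGroup' _).toSylow hQ
  have hxp : IsPGroup q (Subgroup.zpowers x) :=
    IsPGroup.of_card (n := 1) (by rw [Nat.card_zpowers, hxo, pow_one])
  obtain ⟨R, hR⟩ := hxp.exists_le_sylow
  obtain ⟨y, hy⟩ := MulAction.exists_smul_eq G R Q'
  have hxH : y * x * y⁻¹ ∈ fittingHallOf S := by
    have h1 : y * x * y⁻¹ ∈ ((y • R : Sylow q G) : Subgroup G) :=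
      ⟨x, hR (Subgroup.mem_zpowers x), rfl⟩
    rw [hy] at h1
    obtain ⟨z, -, hz⟩ := h1
    rw [← hz]; exact z.2
  have hx1 : y * x * y⁻¹ ≠ 1 := fun e => hq.ne_one (by
    rw [← hxo, conj_eq_one_iff.mp e, orderOf_one])
  set g' := y * g * y⁻¹ with hg'
  have hcomm : g' * (y * x * y⁻¹) = y * x * y⁻¹ * g' := by
    rw [hg', hx]; group
  have hgS : g' ∈ S :=
    P.centralizer_le hG hxH hx1 (Subgroup.mem_centralizer_singleton_iff.mpr hcomm)
  have ho : orderOf g' = orderOf g := orderOf_injective (MulAut.conj y).toMonoidHom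
    (MulAut.conj y).injective g
  by_cases hgd : g' ∈ ⁅S, S⁆
  · exact Or.inl ⟨y, hgd, fun e => hq.ne_one (Nat.dvd_one.mp (by
      rw [← orderOf_eq_one_iff.mpr e, ho]; exact hqg)), _, hxH, hx1, hcomm⟩
  obtain ⟨d, hd, w, hw, hdw⟩ := P.data.W₁_compl.2.2.2 g' hgS
  have hw1 : w ≠ 1 := fun e => hgd (by rw [hdw, e, mul_one]; exact hd)
  have hwS : w ∈ S := P.data.W₁_compl.2.1 hw
  have hwn : w ∈ Subgroup.normalizer ((⁅S, S⁆ : Subgroup G) : Set G) :=
    Subgroup.mem_normalizer_iff.mpr fun z => ⟨P.le_norm_derived w hwS z, fun hz => by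
      have := P.le_norm_derived w⁻¹ (inv_mem hwS) _ hz
      simpa [mul_assoc] using this⟩
  obtain ⟨z, -, c, hc, hcw, he⟩ := S1496.result ⁅S, S⁆ w hwn
    (P.coprime_W₂.coprime_dvd_left (Subgroup.orderOf_dvd_natCard W₂ hw)) d hd
  have hcW : c ∈ W₁ := by
    rw [← P.data.W₂_centralizer w hw hw1]
    exact ⟨hc, Subgroup.mem_centralizer_singleton_iff.mpr hcw⟩
  rw [← hdw] at he
  have hW : ∀ {a : G}, a ∈ W₁ → a ∈ W₂ → a = 1 := fun h1 h2 =>
    Subgroup.mem_bot.mp (P.data.selfNormalizing.2.2.1.le ⟨h2, h1⟩)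
  refine Or.inr ⟨z * y, ?_⟩
  rw [show z * y * g * (z * y)⁻¹ = z * g' * z⁻¹ by rw [hg']; group, he]
  refine ⟨Subgroup.mul_mem_sup hcW hw, ?_⟩
  rintro (h1 | h2)
  · exact hw1 (hW ((W₁.mul_mem_cancel_left hcW).mp h1) hw)
  · have hc1 : c = 1 := hW hcW ((W₂.mul_mem_cancel_right hw).mp h2)
    rw [hc1, one_mul] at he
    have hwo : orderOf w = orderOf g := by
      rw [← ho, ← he]
      exact orderOf_injective (MulAut.conj z).toMonoidHom (MulAut.conj z).injective g'
    exact hq.ne_one (Nat.eq_one_of_dvd_coprimes hcop hqw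
      ((hwo ▸ hqg).trans (Subgroup.orderOf_dvd_natCard W₂ hw)))

end Partner

end Cfsg.Agent.PF10
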