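import Cfsg.Agent.PF10.Row
import Cfsg.Agent.PF10.Partner
import Mathlib.Algebra.Order.BigOperators.Ring.Finset

/-!
Peterfalvi (10.8): `calS M` is not coherent.
-/

set_option autoImplicit false

namespace Cfsg.Agent.PF10

open Cfsg Cfsg.Agent.OddChar Cfsg.Agent.OddChar.PrimeTI Cfsg.Agent.Coherence
open Cfsg.Agent.OddChar.CycTI (D1 D2 offSet)
open scoped ComplexConjugate

universe u

variable {G : Type u} [Group G] [Fintype G] {M W₁ U W₂ : Subgroup G}

/-- The indicator of `M' \ {1}`. -/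
noncomputable def indK (M : Subgroup G) : ↥M → ℂ :=
  Set.indicator {x : ↥M | x ∈ der M ∧ x ≠ 1} fun _ => 1

theorem indK_of_mem {x : ↥M} (h : x ∈ der M ∧ x ≠ 1) : indK M x = 1 :=
  Set.indicator_of_mem (s := {x : ↥M | x ∈ der M ∧ x ≠ 1}) h _

theorem indK_of_notMem {x : ↥M} (h : ¬ (x ∈ der M ∧ x ≠ 1)) : indK M x = 0 :=
  Set.indicator_of_notMem (s := {x : ↥M | x ∈ der M ∧ x ≠ 1}) h _

variable (hh : Hyp M W₁ U W₂)
include hh

theorem indK_adm : Adm M (indK M) ∧ ∀ w : ↥M, (w : G) ∈ W₁ → w ≠ 1 → indK M w = 0 := by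
  have hoff : ∀ x : ↥M, x ∉ der M → indK M x = 0 := fun x hx =>
    indK_of_notMem fun q => hx q.1
  have h1 : indK M 1 = 0 := indK_of_notMem fun q => q.2 rfl
  haveI : Fintype ↥M := Fintype.ofFinite _
  refine ⟨⟨fun x y => ?_, hh.supp_der h1 hoff⟩, fun w hw hw1 => hoff w (hh.not_der_W₁ hw hw1)⟩
  haveI := hh.der_normal
  have e : y * x * y⁻¹ ∈ der M ∧ y * x * y⁻¹ ≠ 1 ↔ x ∈ der M ∧ x ≠ 1 := by
    refine and_congr ⟨fun h => ?_, fun h => Subgroup.Normal.conj_mem hh.der_normal x h y⟩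
      (not_congr conj_eq_one_iff)
    simpa [mul_assoc] using Subgroup.Normal.conj_mem hh.der_normal _ h y⁻¹
  by_cases h : x ∈ der M ∧ x ≠ 1
  · exact (indK_of_mem (e.mpr h)).trans (indK_of_mem h).symm
  · exact (indK_of_notMem (mt e.mp h)).trans (indK_of_notMem h).symm

/-- The Dade support of `M'^#`. -/
noncomputable def covered (_hh : Hyp M W₁ U W₂) : Finset G :=
  (Set.toFinite {g | tau M (indK M) g ≠ 0}).toFinset

theorem tau_indK {g : G} (h : tau M (indK M) g ≠ 0) : tau M (indK M) g = 1 := by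
  unfold tau dadeIsometry at h ⊢
  split_ifs with hex
  · rw [dif_pos hex] at h
    unfold indK at h ⊢
    by_contra hne
    exact hne (Set.indicator_of_mem (Set.mem_of_indicator_ne_zero h) _)
  · rw [dif_neg hex] at h
    exact absurd rfl h

theorem card_covered :
    ((covered hh).card : ℝ) * (Nat.card W₁ : ℝ) * (Nat.card ↥(der M) : ℝ) =
      (Nat.card G : ℝ) * ((Nat.card ↥(der M) : ℝ) - 1) := by
  classical
  haveI : Fintype ↥M := Fintype.ofFinite _
  have h := hh.tau_inner_one (indK_adm hh).1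
  rw [CharCore.classInner_def, CharCore.classInner_def] at h
  simp only [map_one, mul_one] at h
  have e1 : ∑ g, tau M (indK M) g = ((covered hh).card : ℂ) := by
    rw [← Finset.sum_subset (Finset.subset_univ (covered hh)) fun g _ hg => by
      by_contra hne; exact hg ((Set.toFinite _).mem_toFinset.mpr hne)]
    rw [Finset.sum_congr (rfl : covered hh = covered hh) (g := fun _ => (1 : ℂ)) fun g hg =>
      tau_indK hh ((Set.toFinite _).mem_toFinset.mp hg)]
    simp
  have e2 : ∑ x : ↥M, indK M x = (Nat.card ↥(der M) : ℂ) - 1 := by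
    have : ∀ x : ↥M, indK M x = (if x ∈ der M then 1 else 0) - (if x = 1 then (1 : ℂ) else 0) := by
      intro x
      simp only [indK, Set.indicator_apply, Set.mem_setOf_eq]
      by_cases h1 : x = 1
      · subst h1; simp [one_mem]
      · simp [h1]
    rw [Finset.sum_congr rfl fun x _ => this x, Finset.sum_sub_distrib, Finset.sum_ite_eq',
      if_pos (Finset.mem_univ _), Finset.sum_boole, Nat.card_eq_fintype_card,
      Fintype.card_subtype]
  rw [e1, e2] at h
  have hM : Nat.card ↥M = Nat.card W₁ * Nat.card ↥(der M) := by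
    rw [← (der M).card_mul_index, hh.index_der, mul_comm]
  rw [hM] at h
  have hG : (Nat.card G : ℂ) ≠ 0 := Nat.cast_ne_zero.mpr Nat.card_pos.ne'
  have hW : (Nat.card W₁ : ℂ) ≠ 0 := Nat.cast_ne_zero.mpr Nat.card_pos.ne'
  have hK : (Nat.card ↥(der M) : ℂ) ≠ 0 := Nat.cast_ne_zero.mpr Nat.card_pos.ne'
  push_cast at h
  field_simp at h
  apply Complex.ofReal_injective
  push_cast
  linear_combination h

variable [Fintype ↥M]

theorem exists_ref : ∃ ζ, Ref M W₁ ζ := by
  haveI := hh.der_normal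
  haveI : Fintype ↥(der M) := Fintype.ofFinite _
  haveI := BGSigma.coatom_isSolvable hh.minSimple hh.coatom
  obtain ⟨χ, F⟩ := hh.primeTI.exists_fam
  have hne : ¬ der M ≤ ⊥ := fun e => hh.primeTI.ne₂ (le_bot_iff.mp (hh.primeTI.le.trans e))
  obtain ⟨θ, hθ, hθ1⟩ := exists_linear (der M) inferInstance ⊥ hne
  obtain ⟨hθne, hθA⟩ := (mem_irrNP (der M)).mp hθ
  refine ⟨indFun (der M) (θ : der M → ℂ), ⟨θ, θ.2, hθne, hθA, rfl⟩,
    hh.primeTI.ind_irr θ.2 ?_, ?_⟩
  · by_contra hno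
    push Not at hno
    obtain ⟨ψ, hψ, e⟩ := F.exists_restrict θ.2 hno
    by_cases hψ1 : ψ = 1
    · refine hθne ?_
      rw [← e, hψ1]
      have h1 : sgn χ 1 = 1 := by
        rw [sgn, if_pos]
        rw [F.fam.map_one]
        exact CharCore.isIrrCharacter_one
      funext k
      simp [h1, F.fam.map_one]
    obtain ⟨N, hN⟩ := F.degree_congr ψ
    rw [hh.card₁] at hN
    haveI := hh.primeTI.split.finite_dual
    haveI : Fintype ↥(D1 (W₁.subgroupOf M) (W₂.subgroupOf M)) := Fintype.ofFinite _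
    have hd := degree_bound hh F hψ hψ1 hN
    have h1 : sgn χ ψ * ((N * Nat.card W₁ + 1 : ℤ) : ℂ) = 1 := by
      rw [← hθ1, ← e]
      show _ = sgn χ ψ * χ ψ ((1 : der M) : ↥M)
      rw [OneMemClass.coe_one, show χ ψ 1 = N * (Nat.card W₁ : ℂ) + 1 by linear_combination hN]
      push_cast; rfl
    obtain ⟨s, hs, hsgn⟩ := sgn_int (χ := χ) ψ
    rw [hsgn] at h1
    have h2 : s * (N * Nat.card W₁ + 1) = 1 := by exact_mod_cast h1
    obtain ⟨h3, -⟩ := hh.w₁_facts
    rcases hs with rfl | rfl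
    · rw [one_mul] at h2; rw [h2] at hd; simp at hd; omega
    · rw [show N * (Nat.card W₁ : ℤ) + 1 = -1 by linarith] at hd; simp at hd; omega
  · rw [CharInd.indFun_apply_one, hh.index_der, hθ1, mul_one]

variable {χ : Idx M W₁ W₂ → (↥M → ℂ)} (F : Fam hh.primeTI χ)
variable {ζ : ↥M → ℂ} (hζ : Ref M W₁ ζ) {τ₁ : (↥M → ℂ) → G → ℂ} (hτ : Coh M τ₁)
variable [Fintype ↥(D1 (W₁.subgroupOf M) (W₂.subgroupOf M))]
include F hζ hτ

/-- The weight of `ζ^τ₁` on the Dade support of `M'^#`. -/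
theorem covered_bound :
    (Nat.card G : ℝ) * (1 - (Nat.card W₁ : ℝ) / ((Nat.card ↥(der M) : ℝ) - 1)) ≤
      ∑ g ∈ covered hh, ‖τ₁ ζ g‖ ^ 2 := by
  classical
  haveI := hh.der_normal
  set w : ℝ := (Nat.card W₁ : ℝ) with hw
  set k : ℝ := (Nat.card ↥(der M) : ℝ) with hk
  obtain ⟨h3, -⟩ := hh.w₁_facts
  have hw3 : (3 : ℝ) ≤ w := by rw [hw]; exact_mod_cast h3
  have hkw := two_mul_lt_card_der hh F
  rw [← hw, ← hk] at hkw
  -- integral coefficients of the members
  have hcoef : ∀ μ ∈ seqFinset (der M) ⊥, ∃ c : ℤ, (μ 1).re / normSqFn μ = (c : ℝ) := by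
    intro μ hμ
    obtain ⟨θ, hθ, rfl⟩ := (mem_seqFinset (der M)).mp hμ
    obtain ⟨m, hm⟩ := CharCore.IsCharacter.exists_degree (irr_isCharacter θ.2)
    have h1 : (indFun (der M) (θ : der M → ℂ) 1).re = w * (m : ℝ) := by
      rw [CharInd.indFun_apply_one, hh.index_der, hm]
      simp [hw]
    by_cases hfix : ∀ x ∈ W₁.subgroupOf M, conjBy (der M) x (θ : der M → ℂ) = θ
    · haveI : Fintype ↥(der M) := Fintype.ofFinite _
      obtain ⟨ψ, hψ, e⟩ := F.exists_restrict θ.2 hfix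
      have hn : normSqFn (indFun (der M) (θ : der M → ℂ)) = w := by
        have h2 := norm_mu hh F hψ
        rw [mu_eq hh F, e, inner_self] at h2
        rw [hw]
        exact_mod_cast h2
      refine ⟨m, ?_⟩
      rw [h1, hn, mul_comm, mul_div_assoc, div_self (by linarith), mul_one]
      simp
    · push Not at hfix
      have hn : normSqFn (indFun (der M) (θ : der M → ℂ)) = 1 := by
        have h2 := irr_inner_self (hh.primeTI.ind_irr θ.2 hfix)
        rw [inner_self] at h2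
        exact_mod_cast h2
      refine ⟨Nat.card W₁ * m, ?_⟩
      rw [h1, hn, div_one, hw]
      push_cast; rfl
  choose! c hc using hcoef
  have hS : ∀ {μ}, μ ∈ seqFinset (der M) ⊥ → μ ∈ calS M := fun {μ} h =>
    (coe_seqFinset (der M) ⊥).subset (Finset.mem_coe.mpr h)
  have hζS : ζ ∈ seqFinset (der M) ⊥ := by
    rw [← Finset.mem_coe, coe_seqFinset]; exact hζ.mem
  have hnζ : normSqFn ζ = 1 := by
    have := irr_inner_self hζ.irr
    rw [inner_self] at this
    exact_mod_cast this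
  let a : ℤ := (Nat.card ↥(der M) : ℤ) - 1
  let d : (↥M → ℂ) → ℤ := fun μ => (if μ = ζ then a else 0) - c μ
  have hdm : ∀ μ ∈ seqFinset (der M) ⊥,
      (d μ : ℝ) = (if μ = ζ then k - 1 else 0) - (μ 1).re / normSqFn μ := by
    intro μ hμ
    simp only [d, a, hc μ hμ, hk]
    split_ifs <;> push_cast <;> ring
  set β : ↥M → ℂ := ∑ μ ∈ seqFinset (der M) ⊥, d μ • μ with hβ
  have hreal : ∀ μ ∈ calS M, μ 1 = (((μ 1).re : ℝ) : ℂ) := by
    intro μ hμ
    obtain ⟨n, hn⟩ := CharCore.IsCharacter.exists_degree (seq_isCharacter _ hμ)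
    rw [hn]; simp
  have hsum := sum_members hh
  rw [← hw, ← hk] at hsum
  have hβz : β ∈ zspanOn (calS M) {1}ᶜ := by
    refine mem_zspanOn_one.2 ⟨zspan_sum _ _ fun μ hμ => zspan_zsmul _ (zspan_subset (hS hμ)), ?_⟩
    rw [hβ, Finset.sum_apply]
    have e : ∀ μ ∈ seqFinset (der M) ⊥, (d μ • μ) 1 =
        ((((if μ = ζ then k - 1 else 0) * (μ 1).re - (μ 1).re ^ 2 / normSqFn μ : ℝ)) : ℂ) := by
      intro μ hμ
      rw [Pi.smul_apply, zsmul_eq_mul, hreal μ (hS hμ), Complex.ofReal_re,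
        show ((d μ : ℂ)) = (((d μ : ℝ)) : ℂ) by push_cast; rfl, hdm μ hμ, ← Complex.ofReal_mul]
      congr 1
      ring
    rw [Finset.sum_congr rfl e, ← Complex.ofReal_sum, ← Complex.ofReal_zero]
    congr 1
    rw [Finset.sum_sub_distrib, hsum]
    simp only [ite_mul, zero_mul]
    rw [Finset.sum_ite_eq', if_pos hζS, hζ.deg, Complex.natCast_re, ← hw]
    ring
  have hτβ : tau M β = ∑ μ ∈ seqFinset (der M) ⊥, d μ • τ₁ μ := by
    rw [← hτ.agree β hβz, hβ, iso_zspan_sum hτ.iso _ _ _ fun μ hμ => zspan_subset (hS hμ)]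
  have horth : ∀ μ ∈ seqFinset (der M) ⊥, ∀ μ' ∈ seqFinset (der M) ⊥,
      classInner (τ₁ μ) (τ₁ μ') = if μ = μ' then (normSqFn μ : ℂ) else 0 := by
    intro μ hμ μ' hμ'
    rw [hτ.iso.2.2.1 _ (zspan_subset (hS hμ)) _ (zspan_subset (hS hμ'))]
    split_ifs with h
    · rw [← h, inner_self]
    · exact hh.member_orth (hS hμ) (hS hμ') h
  have hinner : classInner (tau M β) (τ₁ ζ) = ((k - 1 - w : ℝ) : ℂ) := by
    rw [hτβ, inner_sum_left, Finset.sum_eq_single ζ]
    · rw [inner_zsmul_left, horth ζ hζS ζ hζS, if_pos rfl, hnζ,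
        show ((d ζ : ℂ)) = (((d ζ : ℝ)) : ℂ) by push_cast; rfl, hdm ζ hζS, if_pos rfl, hnζ,
        hζ.deg, Complex.natCast_re, div_one, ← hw]
      simp
    · intro μ hμ hne
      rw [inner_zsmul_left, horth μ hμ ζ hζS, if_neg hne, mul_zero]
    · exact fun h => absurd hζS h
  have hnorm : normSqFn (tau M β) = (k - 1) * (k - 1 - w) := by
    apply Complex.ofReal_injective
    rw [← inner_self, hτβ, inner_sum_left]
    have e : ∀ μ ∈ seqFinset (der M) ⊥,
        classInner (d μ • τ₁ μ) (∑ μ' ∈ seqFinset (der M) ⊥, d μ' • τ₁ μ') =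
          (((d μ : ℝ) ^ 2 * normSqFn μ : ℝ) : ℂ) := by
      intro μ hμ
      rw [inner_sum_right, Finset.sum_eq_single μ]
      · rw [inner_zsmul_left, inner_zsmul_right, horth μ hμ μ hμ, if_pos rfl]
        push_cast; ring
      · intro μ' hμ' hne
        rw [inner_zsmul_left, inner_zsmul_right, horth μ hμ μ' hμ', if_neg (Ne.symm hne)]
        simp
      · exact fun h => absurd hμ h
    rw [Finset.sum_congr rfl e, ← Complex.ofReal_sum]
    congr 1
    have e2 : ∀ μ ∈ seqFinset (der M) ⊥, (d μ : ℝ) ^ 2 * normSqFn μ =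
        (if μ = ζ then (k - 1) ^ 2 * normSqFn μ - 2 * (k - 1) * (μ 1).re else 0) +
          (μ 1).re ^ 2 / normSqFn μ := by
      intro μ hμ
      rw [hdm μ hμ]
      have : normSqFn μ ≠ 0 := by
        obtain ⟨θ, h0, -, -, rfl⟩ := hS hμ
        exact (normSq_ind_pos (der M) ⟨θ, h0⟩).ne'
      split_ifs <;> field_simp <;> ring
    rw [Finset.sum_congr rfl e2, Finset.sum_add_distrib, Finset.sum_ite_eq', if_pos hζS, hnζ,
      hζ.deg, Complex.natCast_re, hsum, ← hw]
    ring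
  -- Cauchy-Schwarz on the support
  have hzero : ∀ g ∉ covered hh, tau M β g = 0 := by
    intro g hg
    have h0 : tau M (indK M) g = 0 := by
      by_contra hne; exact hg ((Set.toFinite _).mem_toFinset.mpr hne)
    unfold tau dadeIsometry at h0 ⊢
    split_ifs with hex
    · rw [dif_pos hex] at h0
      set x := Classical.choose hex
      by_cases hx : x ∈ der M ∧ x ≠ 1
      · rw [indK, Set.indicator_of_mem (show x ∈ {x : ↥M | x ∈ der M ∧ x ≠ 1} from hx)] at h0
        exact absurd h0 one_ne_zero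
      · by_cases hxK : x ∈ der M
        · rw [not_and_not_right.mp hx hxK]
          exact hβz.2 1 (by simp)
        · exact hh.zspan_off hβz.1 hxK
    · rfl
  have hcs : (∑ g ∈ covered hh, ‖tau M β g‖ * ‖τ₁ ζ g‖) ^ 2 ≤
      (∑ g ∈ covered hh, ‖tau M β g‖ ^ 2) * ∑ g ∈ covered hh, ‖τ₁ ζ g‖ ^ 2 :=
    Finset.sum_mul_sq_le_sq_mul_sq _ _ _
  have hGpos : (0 : ℝ) < Nat.card G := by exact_mod_cast Nat.card_pos
  have hsumβ : ∑ g ∈ covered hh, ‖tau M β g‖ ^ 2 = (Nat.card G : ℝ) * ((k - 1) * (k - 1 - w)) := by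
    rw [← hnorm, Coherence.normSqFn, ← mul_assoc, mul_inv_cancel₀ hGpos.ne', one_mul]
    exact Finset.sum_subset (Finset.subset_univ _) fun g _ hg => by rw [hzero g hg]; simp
  have hlow : (Nat.card G : ℝ) * (k - 1 - w) ≤ ∑ g ∈ covered hh, ‖tau M β g‖ * ‖τ₁ ζ g‖ := by
    have e : ∑ g ∈ covered hh, tau M β g * conj (τ₁ ζ g) =
        (((Nat.card G : ℝ) * (k - 1 - w) : ℝ) : ℂ) := by
      rw [Finset.sum_subset (Finset.subset_univ _) fun g _ hg => by rw [hzero g hg, zero_mul]]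
      rw [CharCore.classInner_def, inv_mul_eq_iff_eq_mul₀
        (Nat.cast_ne_zero.mpr Nat.card_pos.ne')] at hinner
      rw [hinner]; push_cast; ring
    have := norm_sum_le (covered hh) fun g => tau M β g * conj (τ₁ ζ g)
    rw [e, Complex.norm_real, Real.norm_eq_abs,
      abs_of_nonneg (mul_nonneg hGpos.le (by linarith))] at this
    refine this.trans (le_of_eq (Finset.sum_congr rfl fun g _ => ?_))
    rw [norm_mul, Complex.norm_conj]
  rw [hsumβ] at hcs
  have hpos1 : 0 ≤ (Nat.card G : ℝ) * (k - 1 - w) := mul_nonneg hGpos.le (by linarith)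
  have hsq := (pow_le_pow_left₀ hpos1 hlow 2).trans hcs
  rw [show (Nat.card G : ℝ) * (1 - w / (k - 1)) = (Nat.card G : ℝ) * (k - 1 - w) / (k - 1) by
    field_simp [show k - 1 ≠ 0 by linarith], div_le_iff₀ (by linarith)]
  refine le_of_mul_le_mul_left ?_ (show 0 < (Nat.card G : ℝ) * (k - 1 - w) from
    mul_pos hGpos (by linarith))
  nlinarith [hsq]

end Cfsg.Agent.PF10
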