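import Cfsg.Agent.PF10.Coherent
import Cfsg.Agent.S1508
import Mathlib.Algebra.BigOperators.Group.Finset.Basic
import Mathlib.Data.ZMod.Basic

/-!
The sum of the first row of the family of `G` is an odd integer at elements of order prime to `|W₁|`.
-/

set_option autoImplicit false

namespace Cfsg.Agent.PF10

open Cfsg Cfsg.Agent.OddChar Cfsg.Agent.Coherence
open Cfsg.Agent.OddChar.CycTI (D1 D2 offSet)
open scoped ComplexConjugate

universe u

variable {G : Type u} [Group G] [Fintype G] {M W₁ U W₂ : Subgroup G}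
variable (hh : Hyp M W₁ U W₂)
variable {η : Idx M W₁ W₂ → G → ℂ} (E : PF.Eta M (W₁.subgroupOf M) (W₂.subgroupOf M) η)
include hh E

/-- The family of `G` in the indexing of the subgroup of `G`, with its uniqueness. -/
theorem eta_family :
    ∃ (χ : (↥((W₁.subgroupOf M).map M.subtype ⊔ (W₂.subgroupOf M).map M.subtype) →* ℂˣ) →
        (G → ℂ)),
      IsCyclicTIFamily ((W₁.subgroupOf M).map M.subtype) ((W₂.subgroupOf M).map M.subtype) χ ∧
      ∀ (θ : G → ℂ), IsSignedIrr θ → ∀ ω : Idx M W₁ W₂,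
        (∀ w : ↥(W₁.subgroupOf M ⊔ W₂.subgroupOf M), (w : ↥M) ∉ W₁.subgroupOf M →
          (w : ↥M) ∉ W₂.subgroupOf M → θ ((w : ↥M) : G) = (ω w : ℂ)) →
        θ = χ (ω.comp (PF.wEquiv M (W₁.subgroupOf M) (W₂.subgroupOf M)).symm.toMonoidHom) := by
  have hodd : Odd (Nat.card ↥((W₁.subgroupOf M).map M.subtype ⊔ (W₂.subgroupOf M).map M.subtype)) :=
    hh.odd_card.of_dvd_nat (Subgroup.card_subgroup_dvd_card _)
  obtain ⟨χ, hχ⟩ := CycTI.exists_family hh.cyclicTI hodd
  refine ⟨χ, hχ, fun θ hθ ω hV => CycTI.family_unique hh.cyclicTI hodd hχ hθ _ fun v a b => ?_⟩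
  obtain ⟨w, rfl⟩ := (PF.wEquiv M (W₁.subgroupOf M) (W₂.subgroupOf M)).surjective v
  rw [PF.coe_wEquiv] at a b ⊢
  rw [hV w (fun q => a (PF.mem_up.mpr q)) (fun q => b (PF.mem_up.mpr q))]
  simp

theorem eta_conj (ω : Idx M W₁ W₂) : conjFun (η ω) = η ω⁻¹ := by
  obtain ⟨χ, hχ, hu⟩ := eta_family hh E
  have hsig : IsSignedIrr (conjFun (η ω)) := by
    rcases E.signed ω with h | h
    · exact Or.inl (isIrrCharacter_map (starRingEnd ℂ) h)
    · refine Or.inr ?_
      have e := isIrrCharacter_map (starRingEnd ℂ) h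
      simp only [Pi.neg_apply, map_neg] at e
      exact e
  have hs := hh.primeTI
  haveI : Fintype ↥M := Fintype.ofFinite _
  rw [hu _ hsig ω⁻¹ fun w a b => ?_, ← hu _ (E.signed ω⁻¹) ω⁻¹ (E.eq_on ω⁻¹)]
  show conj (η ω ((w : ↥M) : G)) = _
  rw [E.eq_on ω w a b, CycTI.conj_hom_apply]
  simp

theorem eta_int {φ : Idx M W₁ W₂} (hφ : φ ∈ D1 (W₁.subgroupOf M) (W₂.subgroupOf M)) {g : G}
    (hg : (orderOf g).Coprime (Nat.card W₁)) : ∃ n : ℤ, η φ g = n := by
  obtain ⟨χ, hχ, hu⟩ := eta_family hh E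
  haveI : Fintype ↥M := Fintype.ofFinite _
  haveI := hh.primeTI.split.finite_dual
  rw [hu _ (E.signed φ) φ (E.eq_on φ)]
  refine S1508.result _ _ hh.cyclicTI
    (hh.odd_card.of_dvd_nat (Subgroup.card_subgroup_dvd_card _)) χ hχ _ g
    (hg.coprime_dvd_right (orderOf_dvd_of_pow_eq_one ?_))
  have h1 := congrArg Subtype.val
    (pow_card_eq_one' (G := ↥(D1 (W₁.subgroupOf M) (W₂.subgroupOf M))) (x := ⟨φ, hφ⟩))
  rw [hh.primeTI.split.card_d1, hh.card₁] at h1
  refine MonoidHom.ext fun v => ?_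
  simp only [MonoidHom.pow_apply, MonoidHom.one_apply, MonoidHom.comp_apply]
  exact DFunLike.congr_fun h1
    ((PF.wEquiv M (W₁.subgroupOf M) (W₂.subgroupOf M)).symm.toMonoidHom v)

variable [Fintype ↥(D1 (W₁.subgroupOf M) (W₂.subgroupOf M))]

/-- The row sum at an element of order prime to `|W₁|` is an odd integer. -/
theorem row_odd {g : G} (hg : (orderOf g).Coprime (Nat.card W₁)) :
    ∃ n : ℤ, Odd n ∧ ∑ a : ↥(D1 (W₁.subgroupOf M) (W₂.subgroupOf M)), η a.1 g = n := by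
  classical
  haveI : Fintype ↥M := Fintype.ofFinite _
  choose n hn using fun a : ↥(D1 (W₁.subgroupOf M) (W₂.subgroupOf M)) =>
    eta_int hh E a.2 hg
  refine ⟨∑ a, n a, ?_, by push_cast; exact Finset.sum_congr rfl fun a _ => hn a⟩
  have hinv : ∀ a, n a⁻¹ = n a := fun a => by
    have := congrFun (eta_conj hh E a.1) g
    simp only [conjFun, hn] at this
    rw [map_intCast] at this
    have e : η ((a⁻¹ : ↥(D1 (W₁.subgroupOf M) (W₂.subgroupOf M))) : Idx M W₁ W₂) g = n a⁻¹ := hn _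
    rw [Subgroup.coe_inv, ← this] at e
    exact_mod_cast e.symm
  have h1 : n 1 = 1 := by
    have := hn 1
    rw [OneMemClass.coe_one, E.map_one] at this
    simp only at this
    exact_mod_cast this.symm
  rw [← Finset.add_sum_erase Finset.univ n (Finset.mem_univ 1), h1]
  refine odd_one.add_even ?_
  rw [← ZMod.intCast_eq_zero_iff_even (n := _)]
  push_cast
  refine Finset.sum_involution (fun a _ => a⁻¹) (fun a _ => by rw [hinv]; exact CharTwo.add_self_eq_zero _)
    (fun a ha _ => ?_) (fun a ha => by simpa using ha) fun a _ => inv_inv a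
  intro e
  refine Finset.ne_of_mem_erase ha ?_
  have h2 : a ^ 2 = 1 := by rw [sq]; nth_rewrite 1 [← e]; exact inv_mul_cancel a
  have hodd : Odd (Nat.card ↥(D1 (W₁.subgroupOf M) (W₂.subgroupOf M))) := by
    rw [hh.primeTI.split.card_d1, hh.card₁]
    exact hh.w₁_facts.2.2.1
  rw [← orderOf_eq_one_iff]
  exact Nat.eq_one_of_dvd_coprimes (Nat.coprime_two_left.mpr hodd) (orderOf_dvd_of_pow_eq_one h2)
    (orderOf_dvd_natCard a)

end Cfsg.Agent.PF10
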