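import Cfsg.Prelude.Def_OddOrderLocal
import Cfsg.Prelude.Def_OddOrderChar
import Cfsg.Agent.OddChar.PrimeTIK
import Cfsg.Agent.OddChar.CyclicExist
import Cfsg.Agent.PF.PrimeDade
import Cfsg.Agent.OddChar.DadeIsometry
import Cfsg.Agent.Coherence.SeqInd
import Cfsg.Agent.Coherence.Irr
import Cfsg.Agent.S1500
import Cfsg.Agent.S1501

/-!
Peterfalvi, Hypothesis (10.1): a maximal subgroup `M` of type `P` with `M_s = M'` (types III, IV
and V), the Dade map on `A₀(M)`, and the two families of characters attached to `W₁ × W₂`.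
-/

set_option autoImplicit false

namespace Cfsg.Agent.PF10

open Cfsg Cfsg.Agent.OddChar
open Cfsg.Agent.OddChar.CycTI (D1 D2 offSet)

universe u

variable {G : Type u} [Group G]

/-- Peterfalvi's Hypothesis (10.1). -/
structure Hyp (M W₁ U W₂ : Subgroup G) : Prop where
  minSimple : IsMinSimpleOddOrder G
  coatom : IsCoatom M
  data : IsTypePWith M W₁ U W₂
  notI : ¬ IsOfTypeI M
  core : typeCore M = ⁅M, M⁆
  prime : (Nat.card W₂).Prime
  dade : DadeHypothesis (typeA0 M) M (supportR M)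

/-- `M'` as a subgroup of `M`. -/
abbrev der (M : Subgroup G) : Subgroup ↥M := (⁅M, M⁆).subgroupOf M

/-- The Dade map of `A₀(M)`. -/
noncomputable def tau (M : Subgroup G) (α : ↥M → ℂ) : G → ℂ :=
  dadeIsometry (typeA0 M) M (supportR M) α

/-- The characters induced from the nonprincipal irreducible characters of `M'`. -/
abbrev calS (M : Subgroup G) [Fintype ↥M] : Set (↥M → ℂ) := inducedIrrAbove (der M) ⊥

variable {M W₁ U W₂ : Subgroup G}

namespace Hyp

variable (hh : Hyp M W₁ U W₂)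
include hh

theorem derived_le : ⁅M, M⁆ ≤ M := hh.data.W₁_compl.1

theorem W₁_le : W₁ ≤ M := hh.data.W₁_compl.2.1

theorem W₂_le_derived : W₂ ≤ ⁅M, M⁆ :=
  (hh.data.W₂_le.trans inf_le_left).trans hh.data.U_compl.1

theorem W₂_le : W₂ ≤ M := hh.W₂_le_derived.trans hh.derived_le

theorem W_le : W₁ ⊔ W₂ ≤ M := sup_le hh.W₁_le hh.W₂_le

theorem W₂_le_derived_two : W₂ ≤ ⁅⁅M, M⁆, ⁅M, M⁆⁆ := hh.data.W₂_le.trans inf_le_right

theorem derived_eq : der M = commutator ↥M := by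
  refine Subgroup.map_injective M.subtype_injective ?_
  rw [Subgroup.map_subgroupOf_eq_of_le hh.derived_le, commutator_def,
    Subgroup.map_commutator, ← MonoidHom.range_eq_map, Subgroup.range_subtype]

theorem der_normal : (der M).Normal := by
  rw [hh.derived_eq]; infer_instance

variable [Finite G]

theorem odd_card : Odd (Nat.card G) := hh.minSimple.1

theorem primeTI : PrimeTI.Hyp (der M) (W₁.subgroupOf M) (W₂.subgroupOf M) where
  normal := hh.der_normal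
  inf := by
    rw [eq_bot_iff]
    rintro x ⟨hx1, hx2⟩
    exact Subgroup.mem_bot.mpr (Subtype.ext (Subgroup.mem_bot.mp
      (hh.data.W₁_compl.2.2.1.le ⟨hx1, hx2⟩)))
  sup := by
    rw [eq_top_iff]
    rintro ⟨m, hm⟩ -
    obtain ⟨a, ha, b, hb, rfl⟩ := hh.data.W₁_compl.2.2.2 m hm
    exact Subgroup.mul_mem_sup (S := der M) (T := W₁.subgroupOf M)
      (x := (⟨a, hh.derived_le ha⟩ : ↥M)) (y := (⟨b, hh.W₁_le hb⟩ : ↥M)) ha hb
  ne₁ := fun e => hh.data.W₁_ne (by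
    rw [← Subgroup.map_subgroupOf_eq_of_le hh.W₁_le, e, Subgroup.map_bot])
  cyc₁ := by
    haveI := hh.data.W₁_cyclic
    exact isCyclic_of_surjective _ (Subgroup.subgroupOfEquivOfLe hh.W₁_le).symm.surjective
  hall := by
    rw [Nat.card_congr (Subgroup.subgroupOfEquivOfLe hh.W₁_le).toEquiv]
    exact hh.data.W₁_hall
  ne₂ := fun e => hh.data.selfNormalizing.2.1 (by
    rw [← Subgroup.map_subgroupOf_eq_of_le hh.W₂_le, e, Subgroup.map_bot])
  cyc₂ := by
    haveI : Fact (Nat.card W₂).Prime := ⟨hh.prime⟩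
    haveI : IsCyclic W₂ := isCyclic_of_prime_card rfl
    exact isCyclic_of_surjective _ (Subgroup.subgroupOfEquivOfLe hh.W₂_le).symm.surjective
  le := fun _ hx => hh.W₂_le_derived hx
  cent := by
    rintro ⟨x, hxM⟩ hx hx1
    have h := hh.data.W₂_centralizer x hx fun e => hx1 (Subtype.ext e)
    ext ⟨y, hyM⟩
    simp only [Subgroup.mem_inf, Subgroup.mem_subgroupOf, ← h,
      Subgroup.mem_centralizer_singleton_iff]
    exact ⟨fun q => ⟨q.1, congrArg Subtype.val q.2⟩, fun q => ⟨q.1, Subtype.ext q.2⟩⟩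
  odd := hh.odd_card.of_dvd_nat
    ((Subgroup.card_subgroup_dvd_card _).trans (Subgroup.card_subgroup_dvd_card M))

theorem mem_W {w : ↥M} (hw : w ∈ W₁.subgroupOf M ⊔ W₂.subgroupOf M) : (w : G) ∈ W₁ ⊔ W₂ := by
  rw [← Subgroup.subgroupOf_sup hh.W₁_le hh.W₂_le] at hw
  exact hw

theorem oddW : Odd (Nat.card ↥(W₁ ⊔ W₂)) :=
  hh.odd_card.of_dvd_nat (Subgroup.card_subgroup_dvd_card _)

theorem w₁_facts : 3 ≤ Nat.card W₁ ∧ 3 ≤ Nat.card W₂ ∧ Odd (Nat.card W₁) ∧ Odd (Nat.card W₂) ∧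
    (Nat.card W₁).Coprime (Nat.card W₂) ∧ Nat.card W₁ ≠ Nat.card W₂ := by
  have h1 : Odd (Nat.card W₁) := hh.odd_card.of_dvd_nat (Subgroup.card_subgroup_dvd_card _)
  have h2 : Odd (Nat.card W₂) := hh.odd_card.of_dvd_nat (Subgroup.card_subgroup_dvd_card _)
  have a1 : Nat.card W₁ ≠ 1 := fun e => hh.data.W₁_ne (Subgroup.card_eq_one.mp e)
  have a2 : Nat.card W₂ ≠ 1 := hh.prime.ne_one
  have hc : (Nat.card W₁).Coprime (Nat.card W₂) := by
    haveI : Fintype ↥M := Fintype.ofFinite _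
    have h := hh.primeTI.coprime.coprime_dvd_right (Subgroup.card_dvd_of_le hh.primeTI.le)
    rwa [Nat.card_congr (Subgroup.subgroupOfEquivOfLe hh.W₁_le).toEquiv,
      Nat.card_congr (Subgroup.subgroupOfEquivOfLe hh.W₂_le).toEquiv] at h
  refine ⟨?_, ?_, h1, h2, hc, fun e => ?_⟩
  · obtain ⟨k, hk⟩ := h1; omega
  · obtain ⟨k, hk⟩ := h2; omega
  · rw [e, Nat.coprime_self] at hc
    exact a2 hc

/-- `M'^#` lies in `A₀(M)`. -/
theorem mem_A0_der {x : G} (hx : x ∈ ⁅M, M⁆) (hx1 : x ≠ 1) : x ∈ typeA0 M := by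
  refine Or.inl ?_
  rw [typeA, if_neg hh.notI, hh.core]
  exact ⟨hx, hx1, x, hx, hx1, rfl⟩

/-- The `M`-conjugates of `W \ (W₁ ∪ W₂)` lie in `A₀(M)`. -/
theorem mem_A0_off {v m : G} (hv : v ∈ offSet W₁ W₂) (hm : m ∈ M) :
    m * v * m⁻¹ ∈ typeA0 M :=
  Or.inr ⟨hh.notI, W₁, U, W₂, hh.data, m, hm, v, hv.1, fun q => hv.2 (Or.inl q),
    fun q => hv.2 (Or.inr q), rfl⟩

/-- Elements outside `M'` are conjugate in `M` into `W₁^#` or into `W \ (W₁ ∪ W₂)`. -/
theorem outside {g : ↥M} (hg : g ∉ der M) :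
    ∃ (x : ↥M) (w : ↥(W₁.subgroupOf M ⊔ W₂.subgroupOf M)), ((w : ↥M) : G) ∉ W₂ ∧
      g = x⁻¹ * w * x ∧ (((w : ↥M) : G) ∉ W₁ → (g : G) ∈ typeA0 M) := by
  haveI : Fintype ↥M := Fintype.ofFinite _
  obtain ⟨x, w, hw, e⟩ := hh.primeTI.exists_conj hg
  refine ⟨x, w, hw, e, fun hw1 => ?_⟩
  have h : ((w : ↥M) : G) ∈ offSet W₁ W₂ := ⟨hh.mem_W w.2, fun q => q.elim hw1 hw⟩
  have := hh.mem_A0_off h (inv_mem x.2)
  rw [inv_inv] at this
  rwa [e]

/-- `supportR` is trivial on `W \ (W₁ ∪ W₂)`. -/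
theorem supportR_off {v : G} (hv : v ∈ offSet W₁ W₂) : supportR M v = ⊥ := by
  rw [supportR, dif_neg]
  rintro ⟨h, -⟩
  exact h ((CycTI.centralizer_eq hh.data.selfNormalizing hv).le.trans hh.W_le)

/-- A class function of `M` supported in `A₀(M)`. -/
theorem supp_of {α : ↥M → ℂ} (hα : IsClassFunction ↥M α) (h1 : α 1 = 0)
    (hW₁ : ∀ w : ↥M, (w : G) ∈ W₁ → w ≠ 1 → α w = 0) :
    ∀ x : ↥M, (x : G) ∉ typeA0 M → α x = 0 := by
  intro x hx
  by_cases hx1 : x = 1
  · rw [hx1, h1]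
  by_cases hK : x ∈ der M
  · exact absurd (hh.mem_A0_der hK fun e => hx1 (Subtype.ext e)) hx
  obtain ⟨y, w, hw, rfl, hA⟩ := hh.outside hK
  have hw1 : ((w : ↥M) : G) ∈ W₁ := by_contra fun q => hx (hA q)
  have : α (y⁻¹ * w * y) = α w := by simpa using hα (w : ↥M) y⁻¹
  rw [this]
  exact hW₁ _ hw1 fun e => hw (by rw [e]; exact one_mem W₂)

/-- A class function of `M` vanishing off `M'` and at `1` is supported in `A₀(M)`. -/
theorem supp_der {α : ↥M → ℂ} (h1 : α 1 = 0) (hoff : ∀ x : ↥M, x ∉ der M → α x = 0) :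
    ∀ x : ↥M, (x : G) ∉ typeA0 M → α x = 0 := by
  intro x hx
  by_cases hx1 : x = 1
  · rw [hx1, h1]
  exact hoff x fun hK => hx (hh.mem_A0_der hK fun e => hx1 (Subtype.ext e))

end Hyp

/-! ### Linearity of the Dade map -/

theorem tau_add (M : Subgroup G) (α β : ↥M → ℂ) : tau M (α + β) = tau M α + tau M β := by
  funext g
  simp only [tau, dadeIsometry, Pi.add_apply]
  split_ifs <;> simp

theorem tau_smul (M : Subgroup G) (c : ℂ) (α : ↥M → ℂ) : tau M (c • α) = c • tau M α := by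
  funext g
  simp only [tau, dadeIsometry, Pi.smul_apply]
  split_ifs <;> simp

theorem tau_zsmul (M : Subgroup G) (n : ℤ) (α : ↥M → ℂ) : tau M (n • α) = n • tau M α := by
  rw [← Int.cast_smul_eq_zsmul ℂ n α, tau_smul, Int.cast_smul_eq_zsmul]

theorem tau_sub (M : Subgroup G) (α β : ↥M → ℂ) : tau M (α - β) = tau M α - tau M β := by
  rw [sub_eq_add_neg, tau_add, ← neg_one_smul ℂ β, tau_smul, neg_one_smul, ← sub_eq_add_neg]

/-- The class functions of `M` supported in `A₀(M)`. -/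
def Adm (M : Subgroup G) (α : ↥M → ℂ) : Prop :=
  IsClassFunction ↥M α ∧ ∀ x : ↥M, (x : G) ∉ typeA0 M → α x = 0

namespace Hyp

variable (hh : Hyp M W₁ U W₂) [Fintype G]
include hh

theorem tau_class {α : ↥M → ℂ} (hα : Adm M α) : IsClassFunction G (tau M α) :=
  isClassFunction_dade hh.dade hα.1

theorem tau_inner [Fintype ↥M] {α β : ↥M → ℂ} (hα : Adm M α) (hβ : Adm M β) :
    classInner (tau M α) (tau M β) = classInner α β :=
  (S1500.result (typeA0 M) M (supportR M) hh.dade α hα.1 hα.2).1 β hβ.1 hβ.2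

theorem tau_inner_one [Fintype ↥M] {α : ↥M → ℂ} (hα : Adm M α) :
    classInner (tau M α) (fun _ => 1) = classInner α (fun _ => 1) := by
  refine (S1500.result (typeA0 M) M (supportR M) hh.dade α hα.1 hα.2).2 _ _
    (fun _ _ => rfl) fun a _ => ?_
  rw [finsum_mem_eq_finite_toFinset_sum _ (Set.toFinite _), Finset.sum_const, nsmul_eq_mul,
    mul_one, ← Set.ncard_eq_toFinset_card, ← Nat.card_coe_set_eq]
  exact (inv_mul_cancel₀ (CharInd.natCard_subgroup_ne_zero _)).symm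

theorem tau_gen [Fintype ↥M] {α : ↥M → ℂ} (hα : Adm M α) (hg : IsGeneralizedCharacter ↥M α) :
    IsGeneralizedCharacter G (tau M α) :=
  S1501.result (typeA0 M) M (supportR M) hh.dade α hg hα.2

theorem tau_map_one {α : ↥M → ℂ} : tau M α 1 = 0 := by
  refine dadeIsometry_notMem α hh.dade ?_
  rintro ⟨a, ha, u, hu, x, hx⟩
  rw [mul_one, mul_inv_cancel] at hx
  have hau : a = u⁻¹ := eq_inv_of_mul_eq_one_left hx.symm
  have haH : a ∈ supportR M a := (congrArg (· ∈ supportR M a) hau).mpr (inv_mem hu)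
  have h := hh.dade.inf_eq_bot a ha
  have hmem : a ∈ supportR M a ⊓ (M ⊓ Subgroup.centralizer ({a} : Set G)) :=
    ⟨haH, hh.dade.subset ha, Subgroup.mem_centralizer_singleton_iff.mpr rfl⟩
  rw [h, Subgroup.mem_bot] at hmem
  exact hh.dade.one_not_mem ((congrArg (· ∈ typeA0 M) hmem).mp ha)

theorem tau_off {α : ↥M → ℂ} (hα : IsClassFunction ↥M α) {v : G} (hv : v ∈ offSet W₁ W₂) :
    tau M α v = α ⟨v, hh.W_le hv.1⟩ := by
  have hA : v ∈ typeA0 M := by simpa using hh.mem_A0_off hv (one_mem M)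
  exact dadeIsometry_apply hh.dade hα (a := ⟨v, hh.W_le hv.1⟩) hA (u := 1) (one_mem _)
    (x := 1) (by simp)

/-- Where the Dade image of a function may be nonzero. -/
theorem tau_support {α : ↥M → ℂ} (hα : Adm M α)
    (hW₁ : ∀ w : ↥M, (w : G) ∈ W₁ → w ≠ 1 → α w = 0) {g : G} (h : tau M α g ≠ 0) :
    (∃ a : ↥M, a ∈ der M ∧ a ≠ 1 ∧ α a ≠ 0 ∧ ∃ u ∈ supportR M (a : G), ∃ y : G,
      y * g * y⁻¹ = (a : G) * u) ∨ ∃ y : G, y * g * y⁻¹ ∈ offSet W₁ W₂ := by
  have hex : g ∈ Coherence.dadeSupp (typeA0 M) (supportR M) :=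
    by_contra fun q => h (dadeIsometry_notMem α hh.dade q)
  obtain ⟨a, ha, u, hu, y, hy⟩ := hex
  have e : tau M α g = α ⟨a, hh.dade.subset ha⟩ :=
    dadeIsometry_apply hh.dade hα.1 (a := ⟨a, hh.dade.subset ha⟩) ha hu hy
  rw [e] at h
  by_cases hK : (⟨a, hh.dade.subset ha⟩ : ↥M) ∈ der M
  · exact Or.inl ⟨_, hK, fun q => hh.dade.one_not_mem
      ((congrArg (· ∈ typeA0 M) (congrArg Subtype.val q : a = 1)).mp ha), h, u, hu, y,
      hy⟩
  obtain ⟨x, w, hw, e', -⟩ := hh.outside hK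
  have hwne : ((w : ↥M) : G) ∉ W₁ := fun hw1 => h (by
    rw [e']
    have : α (x⁻¹ * w * x) = α w := by simpa using hα.1 (w : ↥M) x⁻¹
    rw [this]
    exact hW₁ _ hw1 fun q => hw (by rw [q]; exact one_mem W₂))
  refine Or.inr ⟨x * y, ?_⟩
  have hv : (w : G) ∈ offSet W₁ W₂ := ⟨hh.mem_W w.2, fun q => q.elim hwne hw⟩
  have ha' : a = (x : G)⁻¹ * w * x := congrArg Subtype.val e'
  have hRa : supportR M a = ⊥ := by
    have hwA : (w : G) ∈ typeA0 M := by simpa using hh.mem_A0_off hv (one_mem M)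
    rw [eq_bot_iff]
    intro z hz
    have := dade_H_conj_mem hh.dade ha (x := (x : G)) x.2 hz
    rw [show (x : G) * a * (x : G)⁻¹ = (w : G) by rw [ha']; group, hh.supportR_off hv,
      Subgroup.mem_bot] at this
    exact Subgroup.mem_bot.mpr (conj_eq_one_iff.mp this)
  rw [hRa, Subgroup.mem_bot] at hu
  rw [hu, mul_one] at hy
  rw [show (x : G) * y * g * ((x : G) * y)⁻¹ = (x : G) * (y * g * y⁻¹) * (x : G)⁻¹ by group, hy,
    show (x : G) * a * (x : G)⁻¹ = (w : G) by rw [ha']; group]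
  exact hv

end Hyp

namespace Hyp

variable (hh : Hyp M W₁ U W₂)
include hh

theorem cyclicTI [Finite G] : IsSelfNormalizingCyclic ((W₁.subgroupOf M).map M.subtype)
    ((W₂.subgroupOf M).map M.subtype) := by
  rw [Subgroup.map_subgroupOf_eq_of_le hh.W₁_le, Subgroup.map_subgroupOf_eq_of_le hh.W₂_le]
  exact hh.data.selfNormalizing

theorem primeDade [Finite G] : PF.PrimeDade (typeA M) (typeA0 M) M (supportR M) (der M) (der M)
    (W₁.subgroupOf M) (W₂.subgroupOf M) where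
  pti := hh.primeTI
  cyc := hh.cyclicTI
  normal := hh.der_normal
  le₂ := hh.primeTI.le
  leK := le_rfl
  subA := fun x hx => by
    rw [typeA, if_neg hh.notI] at hx
    exact hx.1
  centA := fun x hx hx1 n _ _ _ => by
    rw [typeA, if_neg hh.notI, hh.core]
    exact ⟨hx, fun e => hx1 (Subtype.ext e), (x : G), hx, fun e => hx1 (Subtype.ext e), rfl⟩
  leA₀ := Set.subset_union_left
  offA₀ := fun w h1 h2 => by
    simpa using hh.mem_A0_off (v := ((w : ↥M) : G)) ⟨hh.mem_W w.2, fun q => q.elim h1 h2⟩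
      (one_mem M)
  dade := hh.dade

end Hyp

end Cfsg.Agent.PF10
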