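import Cfsg.Agent.PF10.Coef

/-!
`calS M` is coherent as soon as the weighted sum of the coefficients over the characters nontrivial
on `Z` is divisible by the sum of their squared degrees.
-/

set_option autoImplicit false

namespace Cfsg.Agent.PF10

open Cfsg Cfsg.Agent.OddChar Cfsg.Agent.Coherence
open scoped ComplexConjugate

universe u

variable {G : Type u} [Group G] [Fintype G] {M W₁ U W₂ : Subgroup G} [Fintype ↥M]
variable (hh : Hyp M W₁ U W₂) {Rs : (↥M → ℂ) → Finset (G → ℂ)}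
variable (hS : IsCoherenceSystem (calS M) (tau M) Rs)
variable {τ₂ : (↥M → ℂ) → G → ℂ} (hτ : LowCoh M τ₂) {ζ : ↥M → ℂ} (hζ : ζ ∈ lowS M)
include hh hS hτ hζ

/-- If all coefficients vanish, `calS M` is coherent. -/
theorem coherent_of_coef_zero (Z : Subgroup ↥M) [Z.Normal] (hZH : Z ≤ ⁅der M, der M⁆)
    (hz : 3 ≤ Nat.card Z) (h0 : ∀ θ ∈ offZ Z, coef τ₂ ζ θ = 0) :
    IsCoherent (calS M) {1}ᶜ (tau M) := by
  refine coherent_of_anchor hh hS Z hZH hz hτ hζ fun θ hθ t ht η hη => ?_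
  obtain rfl : deg θ = t := by
    have := (deg_eq θ).symm.trans ht
    exact_mod_cast this
  obtain ⟨hθ0, hnot⟩ := offZ_not_low hh hZH (offZ_mem.2 hθ)
  show classInner (tau M (anchor ζ θ)) (τ₂ η) = classInner (anchor ζ θ) η
  rw [coef_spec hh hS hτ hζ hθ0 hnot hη, h0 θ (offZ_mem.2 hθ), sub_zero,
    anchor_inner hh hS hτ hζ hθ0 hnot hη]

/-- If the weighted sum of the coefficients is a multiple of the sum of the squared degrees,
`calS M` is coherent. -/
theorem coherent_of_dvd (Z : Subgroup ↥M) [Z.Normal] (hZH : Z ≤ ⁅der M, der M⁆)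
    (hz : 3 ≤ Nat.card Z) {g : IrrCharacter ↥(der M) → ℤ}
    (hg : ∀ θ ∈ offZ Z, coef τ₂ ζ θ = (g θ : ℂ))
    (hdvd : ((Nat.card (der M) : ℤ) - (Z.relIndex (der M) : ℤ)) ∣
      ∑ θ ∈ offZ Z, g θ * (deg θ : ℤ)) :
    IsCoherent (calS M) {1}ᶜ (tau M) := by
  classical
  have hb : ∀ θ ∈ offZ Z, 0 ≤ g θ ∧ g θ ≤ deg θ ∧ (g θ = deg θ → (lowS M).card = 2) := by
    intro θ hθ
    obtain ⟨hθ0, hnot⟩ := offZ_not_low hh hZH hθ
    obtain ⟨a, ha, h1, h2, h3⟩ := coef_bound hh hS hτ hζ hθ0 hnot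
    obtain rfl : a = g θ := by exact_mod_cast ha.symm.trans (hg θ hθ)
    exact ⟨h1, h2, h3⟩
  set D : ℤ := (Nat.card (der M) : ℤ) - (Z.relIndex (der M) : ℤ) with hD
  set S : ℤ := ∑ θ ∈ offZ Z, g θ * (deg θ : ℤ) with hSdef
  have hsq : ∑ θ ∈ offZ Z, (deg θ : ℤ) * (deg θ : ℤ) = D := by
    have h := sum_offZ hh Z
    have : ((∑ θ ∈ offZ Z, (deg θ : ℤ) * (deg θ : ℤ) : ℤ) : ℝ) = ((D : ℤ) : ℝ) := by
      rw [hD]
      push_cast
      rw [← h]
      exact Finset.sum_congr rfl fun θ _ => by ring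
    exact_mod_cast this
  have hS0 : 0 ≤ S := Finset.sum_nonneg fun θ hθ => mul_nonneg (hb θ hθ).1 (Int.natCast_nonneg _)
  have hSD : S ≤ D := by
    rw [← hsq]
    exact Finset.sum_le_sum fun θ hθ =>
      mul_le_mul_of_nonneg_right (hb θ hθ).2.1 (Int.natCast_nonneg _)
  have hZK : Z ≤ der M := hZH.trans (Subgroup.commutator_le_self _)
  have hDpos : 0 < D := by
    have h1 := Subgroup.relIndex_mul_relIndex ⊥ Z (der M) bot_le hZK
    rw [Subgroup.relIndex_bot_left, Subgroup.relIndex_bot_left] at h1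
    have h2 : 0 < Z.relIndex (der M) := Nat.pos_of_ne_zero Subgroup.index_ne_zero_of_finite
    have h3 : 3 * Z.relIndex (der M) ≤ Nat.card (der M) := h1 ▸ Nat.mul_le_mul_right _ hz
    omega
  obtain ⟨k, hk⟩ := hdvd
  have hk01 : k = 0 ∨ k = 1 := by
    rcases lt_trichotomy k 0 with h | h | h
    · nlinarith
    · exact Or.inl h
    · right; nlinarith
  rcases hk01 with rfl | rfl
  · rw [mul_zero] at hk
    refine coherent_of_coef_zero hh hS hτ hζ Z hZH hz fun θ hθ => ?_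
    have := (Finset.sum_eq_zero_iff_of_nonneg fun θ hθ =>
      mul_nonneg (hb θ hθ).1 (Int.natCast_nonneg (deg θ))).1 hk θ hθ
    rw [hg θ hθ, (mul_eq_zero.1 this).resolve_right (by exact_mod_cast (deg_pos θ).ne')]
    simp
  · rw [mul_one] at hk
    have hall : ∀ θ ∈ offZ Z, g θ = deg θ := by
      intro θ hθ
      have h0 : ∑ θ ∈ offZ Z, ((deg θ : ℤ) - g θ) * (deg θ : ℤ) = 0 := by
        simp only [sub_mul, Finset.sum_sub_distrib]
        rw [hsq, ← hSdef, hk, sub_self]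
      have := (Finset.sum_eq_zero_iff_of_nonneg fun θ hθ =>
        mul_nonneg (sub_nonneg.2 (hb θ hθ).2.1) (Int.natCast_nonneg (deg θ))).1 h0 θ hθ
      have := (mul_eq_zero.1 this).resolve_right (by exact_mod_cast (deg_pos θ).ne')
      omega
    obtain ⟨θ₀, hθ₀⟩ : (offZ Z).Nonempty := by
      by_contra hne
      rw [Finset.not_nonempty_iff_eq_empty] at hne
      rw [hne, Finset.sum_empty] at hsq
      omega
    have hcard := (hb θ₀ hθ₀).2.2 (hall θ₀ hθ₀)
    obtain ⟨τ', h1, h2, h3⟩ := flip_two (fun η h => low_irr hh h) (fun η h => low_conj hh h)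
      (fun η h => hS.conj_ne η (low_subset hh h)) hcard hτ.iso hτ.agree
    refine coherent_of_coef_zero hh hS ⟨h1, h2⟩ hζ Z hZH hz fun θ hθ => ?_
    obtain ⟨hθ0, hnot⟩ := offZ_not_low hh hZH hθ
    have hne : conjFun ζ ≠ ζ := hS.conj_ne ζ (low_subset hh hζ)
    show (deg θ : ℂ) - classInner (tau M (anchor ζ θ)) (τ' ζ) = 0
    rw [h3 ζ hζ, Coherence.inner_neg_right, coef_spec hh hS hτ hζ hθ0 hnot (low_conj hh hζ),
      if_neg hne, hg θ hθ, hall θ hθ]
    push_cast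
    ring

end Cfsg.Agent.PF10
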