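import Cfsg.Agent.PF10.Setup
import Cfsg.Agent.PF.PrimeCoherent

/-!
The coherence system of Peterfalvi (5.7) for the characters induced from `M'` in the situation
of Hypothesis (10.1).
-/

set_option autoImplicit false

namespace Cfsg.Agent.PF10

open Cfsg Cfsg.Agent.OddChar Cfsg.Agent.OddChar.PrimeTI
open Cfsg.Agent.OddChar.CycTI (D1 D2 offSet)

universe u

variable {G : Type u} [Group G] [Fintype G] {M W₁ U W₂ : Subgroup G} [Fintype ↥M]

theorem calS_eq : PF.indAbove (der M) (der M) = calS M := PF.indAbove_self _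

theorem Hyp.odd_M (hh : Hyp M W₁ U W₂) : Odd (Nat.card ↥M) :=
  hh.odd_card.of_dvd_nat (Subgroup.card_subgroup_dvd_card M)

/-- The coherence system on `calS M`, relative to a family `χ` of `M` and `η` of `G`. -/
theorem exists_system (hh : Hyp M W₁ U W₂)
    [Fintype ↥(D1 (W₁.subgroupOf M) (W₂.subgroupOf M))]
    {χ : (↥(W₁.subgroupOf M ⊔ W₂.subgroupOf M) →* ℂˣ) → (↥M → ℂ)} (F : Fam hh.primeTI χ)
    {η : (↥(W₁.subgroupOf M ⊔ W₂.subgroupOf M) →* ℂˣ) → G → ℂ}
    (E : PF.Eta M (W₁.subgroupOf M) (W₂.subgroupOf M) η) :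
    ∃ Rs, IsCoherenceSystem (calS M) (tau M) Rs ∧
      ∀ φ ∈ calS M, PF.RSpec (der M) χ η φ (Rs φ) := by
  obtain ⟨Rs, h1, h2⟩ := hh.primeDade.exists_system E F hh.odd_M
  exact ⟨Rs, calS_eq (M := M) ▸ h1, fun φ hφ => h2 φ (calS_eq (M := M) ▸ hφ)⟩

/-- A coherence system on `calS M` exists. -/
theorem nonempty_system (hh : Hyp M W₁ U W₂) :
    ∃ Rs, IsCoherenceSystem (calS M) (tau M) Rs := by
  haveI := hh.primeTI.split.finite_dual
  haveI : Fintype ↥(D1 (W₁.subgroupOf M) (W₂.subgroupOf M)) := Fintype.ofFinite _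
  obtain ⟨χ, F⟩ := hh.primeTI.exists_fam
  obtain ⟨η, E⟩ := PF.exists_eta M (W₁.subgroupOf M) (W₂.subgroupOf M) hh.cyclicTI hh.primeTI.odd
  exact (exists_system hh F E).imp fun _ h => h.1

end Cfsg.Agent.PF10
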