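import Cfsg.Agent.PF10.SumCrit
import Cfsg.Agent.PFTypeOne.Coherent
import Cfsg.Agent.S1523
import Cfsg.Agent.Lib.CharClifford.Galois
import Cfsg.Agent.OddChar.Twist

/-!
Coherence of `calS M` when `M'` is a trivial-intersection Sylow `p`-subgroup of `G` (the case of
Peterfalvi (6.8) that occurs in (10.10)).
-/

set_option autoImplicit false

namespace Cfsg.Agent.PF10

open Cfsg Cfsg.Agent.OddChar Cfsg.Agent.Coherence
open Cfsg.Agent.OddChar.CycTI (offSet)
open scoped ComplexConjugate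

universe u

variable {G : Type u} [Group G] [Fintype G] {M W₁ U W₂ : Subgroup G} [Fintype ↥M]

/-- An irreducible character is multiplied by a scalar under translation by a central element. -/
theorem exists_central_scalar {K : Type*} [Group K] [Finite K] {θ : K → ℂ}
    (hθ : IsIrrCharacter K θ) {z : K} (hz : z ∈ Subgroup.center K) :
    ∃ c : ℂ, c ≠ 0 ∧ ∀ x, θ (z * x) = c * θ x := by
  obtain ⟨n, ρ, hρ, rfl⟩ := hθ
  haveI := hρ
  obtain ⟨c, hc⟩ := CharClifford.exists_scalar_of_mem_center ρ hz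
  have key : ∀ x, ρ.character (z * x) = c * ρ.character x := fun x => by
    simp only [Representation.character, map_mul, hc, smul_mul_assoc, one_mul, map_smul,
      smul_eq_mul]
  refine ⟨c, fun h0 => ?_, key⟩
  have h := key z⁻¹
  rw [mul_inv_cancel, h0, zero_mul, Representation.char_one, Nat.cast_eq_zero] at h
  exact absurd h (CharClifford.finrank_pos_of_irreducible ρ).ne'

/-- An irreducible character nontrivial on a central subgroup sums to zero over it. -/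
theorem sum_central_eq_zero {K : Type*} [Group K] [Finite K] {θ : K → ℂ}
    (hθ : IsIrrCharacter K θ) (Z : Subgroup K) [Fintype Z] (hZ : Z ≤ Subgroup.center K)
    (hne : ∃ z ∈ Z, θ z ≠ θ 1) : ∑ z : Z, θ z = 0 := by
  obtain ⟨z₀, hz₀, hz⟩ := hne
  obtain ⟨c, -, hc⟩ := exists_central_scalar hθ (hZ hz₀)
  have h : ∑ z : Z, θ z = c * ∑ z : Z, θ z := by
    rw [Finset.mul_sum]
    refine (Equiv.sum_comp (Equiv.mulLeft (⟨z₀, hz₀⟩ : Z)) fun z : Z => θ z).symm.trans ?_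
    exact Finset.sum_congr rfl fun z _ => hc z
  have hc1 : c ≠ 1 := fun e => hz (by simpa [e] using hc 1)
  have h2 : (c - 1) * ∑ z : Z, θ z = 0 := by linear_combination -h
  exact (mul_eq_zero.1 h2).resolve_left (sub_ne_zero.2 hc1)

variable (hh : Hyp M W₁ U W₂) (hTI : IsTISubset ((⁅M, M⁆ : Subgroup G) : Set G))
include hh hTI

omit [Fintype ↥M] hTI in
theorem derived_ne_bot : ⁅M, M⁆ ≠ ⊥ := fun h =>
  hh.data.selfNormalizing.2.1 (le_bot_iff.1 (hh.W₂_le_derived.trans h.le))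

omit [Fintype ↥M] hTI in
theorem normalizer_derived : Subgroup.normalizer ((⁅M, M⁆ : Subgroup G) : Set G) = M := by
  have hle : M ≤ Subgroup.normalizer ((⁅M, M⁆ : Subgroup G) : Set G) := fun m hm => by
    rw [Subgroup.mem_normalizer_iff]
    intro h
    have key : ∀ a ∈ M, ∀ b ∈ ⁅M, M⁆, a * b * a⁻¹ ∈ ⁅M, M⁆ := fun a ha b hb =>
      (der_normal' M).conj_mem (⟨b, hh.derived_le hb⟩ : ↥M) hb ⟨a, ha⟩
    refine ⟨key m hm h, fun h' => ?_⟩
    have := key m⁻¹ (inv_mem hm) _ h'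
    simpa [mul_assoc] using this
  refine (hh.coatom.le_iff.1 hle).resolve_left fun htop => ?_
  haveI := Subgroup.normalizer_eq_top_iff.1 htop
  haveI : IsSimpleGroup G := hh.minSimple.2.1
  rcases Subgroup.Normal.eq_bot_or_eq_top
    (inferInstance : (⁅M, M⁆ : Subgroup G).Normal) with h | h
  · exact derived_ne_bot hh h
  · exact hh.coatom.1 (top_le_iff.1 (h ▸ hh.derived_le))

omit [Fintype ↥M] in
theorem centralizer_le_of_derived {a : G} (ha : a ∈ ⁅M, M⁆) (ha1 : a ≠ 1) :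
    Subgroup.centralizer ({a} : Set G) ≤ M := by
  intro c hc
  by_contra hcM
  rw [Subgroup.mem_centralizer_singleton_iff] at hc
  refine ha1 (hTI c (by rw [normalizer_derived hh]; exact hcM) a ha ?_)
  rw [hc, mul_inv_cancel_right]
  exact ha

omit [Fintype ↥M] in
theorem supportR_eq_bot {a : G} (ha : a ∈ typeA0 M) : supportR M a = ⊥ := by
  rw [supportR, dif_neg]
  rintro ⟨h, -⟩
  refine h ?_
  rcases ha with hA | ⟨-, V₁, V, V₂, hP, m, hm, v, hv, hv1, hv2, rfl⟩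
  · rw [typeA, if_neg hh.notI] at hA
    exact centralizer_le_of_derived hh hTI hA.1 hA.2.1
  · intro c hc
    rw [Subgroup.mem_centralizer_singleton_iff] at hc
    have hW : V₁ ⊔ V₂ ≤ M := sup_le hP.W₁_compl.2.1
      (((hP.W₂_le.trans inf_le_left).trans hP.U_compl.1).trans hP.W₁_compl.1)
    have h2 : m⁻¹ * c * m ∈ Subgroup.centralizer ({v} : Set G) := by
      rw [Subgroup.mem_centralizer_singleton_iff]
      calc m⁻¹ * c * m * v = m⁻¹ * (c * (m * v * m⁻¹)) * m := by group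
        _ = m⁻¹ * (m * v * m⁻¹ * c) * m := by rw [hc]
        _ = v * (m⁻¹ * c * m) := by group
    rw [CycTI.centralizer_eq hP.selfNormalizing ⟨hv, fun q => q.elim hv1 hv2⟩] at h2
    simpa [mul_assoc] using mul_mem (mul_mem hm (hW h2)) (inv_mem hm)

theorem tau_eq_ind {α : ↥M → ℂ} (hα : Adm M α) : tau M α = indFun M α :=
  PFTypeOne.dade_eq_indFun hh.dade (fun _ ha => supportR_eq_bot hh hTI ha) hα.1 hα.2

variable {p : ℕ} [Fact p.Prime] (hp : IsPGroup p ↥(⁅M, M⁆ : Subgroup G))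
variable (hHall : (Nat.card ↥(⁅M, M⁆ : Subgroup G)).Coprime (⁅M, M⁆ : Subgroup G).index)
include hp hHall

/-- Coherence from a central subgroup on which the weighted coefficient sum is constant. -/
theorem coherent_of_const {Rs : (↥M → ℂ) → Finset (G → ℂ)}
    (hS : IsCoherenceSystem (calS M) (tau M) Rs) {τ₂ : (↥M → ℂ) → G → ℂ} (hτ : LowCoh M τ₂)
    {ζ : ↥M → ℂ} (hζ : ζ ∈ lowS M) (Z : Subgroup ↥M) [Z.Normal]
    (hZH : Z ≤ ⁅der M, der M⁆) (hz : 3 ≤ Nat.card Z)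
    (hZc : ∀ z ∈ Z, ∀ k ∈ der M, z * k = k * z)
    (hCL : ∀ z ∈ Z, ∀ z' ∈ Z, z ≠ 1 → z' ≠ 1 →
      Nat.card (Subgroup.centralizer ({z} : Set ↥M)) =
        Nat.card (Subgroup.centralizer ({z'} : Set ↥M)))
    {g : IrrCharacter ↥(der M) → ℤ} (hg : ∀ θ ∈ offZ Z, coef τ₂ ζ θ = (g θ : ℂ))
    (hconst : ∀ z z' : ↥(der M), (z : ↥M) ∈ Z → (z' : ↥M) ∈ Z → z ≠ 1 → z' ≠ 1 →
      ∑ θ ∈ offZ Z, (g θ : ℂ) * ((θ : der M → ℂ) z - (θ : der M → ℂ) 1) =
        ∑ θ ∈ offZ Z, (g θ : ℂ) * ((θ : der M → ℂ) z' - (θ : der M → ℂ) 1)) :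
    IsCoherent (calS M) {1}ᶜ (tau M) := by
  classical
  haveI : Fintype ↥(der M) := Fintype.ofFinite _
  have hZK : Z ≤ der M := hZH.trans (Subgroup.commutator_le_self _)
  have hgen : IsGeneralizedCharacter G (τ₂ ζ) := hτ.iso.2.2.2 _ (zspan_subset hζ)
  have hGcl : IsClassFunction G (τ₂ ζ) := CharCore.IsGeneralizedCharacter.isClassFunction hgen
  set f : ↥M → ℂ := fun x => τ₂ ζ (x : G) with hf
  have hfcl : IsClassFunction ↥M f := fun a b => by
    simp only [hf, Subgroup.coe_mul, InvMemClass.coe_inv]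
    exact hGcl _ _
  have hfgen : IsGeneralizedCharacter ↥M f := by
    obtain ⟨u, v, hu, hv, huv⟩ := hgen
    exact ⟨_, _, CharCore.isCharacter_restrict hu M, CharCore.isCharacter_restrict hv M, by
      funext x; simp [hf, huv]⟩
  obtain ⟨b, hb⟩ := inner_gen_int (irr_gen (low_irr hh hζ)) hfgen
  set fK : ↥(der M) → ℂ := fun k => f k with hfK
  have hfKcl : IsClassFunction ↥(der M) fK := fun a c => by
    simp only [hfK, Subgroup.coe_mul, InvMemClass.coe_inv]
    exact hfcl _ _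
  have hc : ∀ θ ∈ offZ Z, classInner fK (θ : der M → ℂ) =
      (((b - 1) * (deg θ : ℤ) + g θ : ℤ) : ℂ) := by
    intro θ hθ
    obtain ⟨hθ0, hnot⟩ := offZ_not_low hh hZH hθ
    have hmem := anchor_mem hh hS hτ hζ hθ0
    have h1 : classInner (anchor ζ θ) f = (deg θ : ℂ) - (g θ : ℂ) := by
      rw [← CharInd.classInner_indFun_left M (anchor ζ θ) hGcl,
        ← tau_eq_ind hh hTI (hh.adm_zspanOn hmem), coef_spec hh hS hτ hζ hθ0 hnot hζ, if_pos rfl,
        hg θ hθ]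
    rw [anchor, Coherence.inner_sub_left, inner_zsmul_left, hb] at h1
    have h2 : classInner (indFun (der M) (θ : der M → ℂ)) f =
        (((b - 1) * (deg θ : ℤ) + g θ : ℤ) : ℂ) := by
      push_cast at h1 ⊢
      linear_combination -h1
    rw [hfK, ← CharInd.classInner_indFun_right (der M) (θ : der M → ℂ) hfcl,
      ← Coherence.inner_conj_symm, h2, map_intCast]
  set Φ : ↥(der M) → ℂ := fun z =>
    ∑ θ ∈ offZ Z, (g θ : ℂ) * ((θ : der M → ℂ) z - (θ : der M → ℂ) 1) with hΦ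
  have hzero : ∀ θ : IrrCharacter ↥(der M), θ ∉ offZ Z → ∀ z : ↥(der M), (z : ↥M) ∈ Z →
      (θ : der M → ℂ) z - (θ : der M → ℂ) 1 = 0 := fun θ hθ z hz => by
    rw [offZ_mem, not_not] at hθ
    rw [hθ z hz, sub_self]
  have hreg : ∀ z : ↥(der M), (z : ↥M) ∈ Z → z ≠ 1 →
      ∑ θ ∈ offZ Z, (deg θ : ℂ) * ((θ : der M → ℂ) z - (θ : der M → ℂ) 1) =
        -(Nat.card ↥(der M) : ℂ) := by
    intro z hz hz1
    rw [Finset.sum_subset (Finset.subset_univ _) fun θ _ hθ => by rw [hzero θ hθ z hz, mul_zero]]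
    simp only [← deg_eq, mul_sub, Finset.sum_sub_distrib, CharCore.sum_degree_mul_apply, if_neg hz1,
      if_pos]
    ring
  have hval : ∀ z : ↥(der M), (z : ↥M) ∈ Z → z ≠ 1 →
      fK z - fK 1 = -(((b - 1 : ℤ) : ℂ) * (Nat.card ↥(der M) : ℂ)) + Φ z := by
    intro z hz hz1
    rw [apply_sub_apply_one hfKcl z,
      ← Finset.sum_subset (Finset.subset_univ (offZ Z)) fun θ _ hθ => by
        rw [hzero θ hθ z hz, mul_zero]]
    have e : ∀ θ ∈ offZ Z, classInner fK (θ : der M → ℂ) *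
        ((θ : der M → ℂ) z - (θ : der M → ℂ) 1) =
        ((b - 1 : ℤ) : ℂ) * ((deg θ : ℂ) * ((θ : der M → ℂ) z - (θ : der M → ℂ) 1)) +
          (g θ : ℂ) * ((θ : der M → ℂ) z - (θ : der M → ℂ) 1) := fun θ hθ => by
      rw [hc θ hθ]; push_cast; ring
    rw [Finset.sum_congr rfl e, Finset.sum_add_distrib, ← Finset.mul_sum, hreg z hz hz1]
    simp only [hΦ]
    ring
  -- the Sylow subgroup of `G`
  have hpdvd : ¬ p ∣ (⁅M, M⁆ : Subgroup G).index := by
    obtain ⟨n, hn⟩ := IsPGroup.iff_card.1 hp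
    have hn0 : n ≠ 0 := fun h0 => derived_ne_bot hh (Subgroup.card_eq_one.1 (by rw [hn, h0, pow_zero]))
    intro hd
    exact (Fact.out : p.Prime).not_dvd_one
      (hHall ▸ Nat.dvd_gcd (hn ▸ dvd_pow_self p hn0) hd)
  set P : Sylow p G := hp.toSylow hpdvd with hPdef
  have hPc : (P : Subgroup G) = ⁅M, M⁆ := rfl
  have hN : Subgroup.normalizer ((P : Subgroup G) : Set G) = M := normalizer_derived hh
  set ZG : Subgroup G := Z.map M.subtype with hZG
  have hcentC : ∀ z : ↥M,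
      Nat.card ↥(Subgroup.normalizer ((P : Subgroup G) : Set G) ⊓
        Subgroup.centralizer ({(z : G)} : Set G)) =
      Nat.card (Subgroup.centralizer ({z} : Set ↥M)) := by
    intro z
    rw [hN]
    have e : (Subgroup.centralizer ({z} : Set ↥M)).map M.subtype =
        M ⊓ Subgroup.centralizer ({(z : G)} : Set G) := by
      ext x
      simp only [Subgroup.mem_map, Subgroup.mem_inf, Subgroup.mem_centralizer_singleton_iff,
        Subgroup.coe_subtype]
      constructor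
      · rintro ⟨y, hy, rfl⟩
        exact ⟨y.2, congrArg Subtype.val hy⟩
      · rintro ⟨hx, hc⟩
        exact ⟨⟨x, hx⟩, Subtype.ext hc, rfl⟩
    rw [← e, Subgroup.card_map_of_injective M.subtype_injective]
  obtain ⟨ε, hε, hψ⟩ : ∃ ε : ℤ, (ε = 1 ∨ ε = -1) ∧ IsIrrCharacter G ((ε : ℂ) • τ₂ ζ) := by
    rcases gen_norm_one hgen (by
      rw [hτ.iso.2.2.1 _ (zspan_subset hζ) _ (zspan_subset hζ),
        irr_inner_self (low_irr hh hζ)]) with h | h
    · exact ⟨1, Or.inl rfl, by rwa [Int.cast_one, one_smul]⟩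
    · exact ⟨-1, Or.inr rfl, by rwa [Int.cast_neg, Int.cast_one, neg_one_smul]⟩
  have hfeq : ∀ z z' : ↥(der M), (z : ↥M) ∈ Z → (z' : ↥M) ∈ Z → z ≠ 1 → z' ≠ 1 →
      fK z = fK z' := fun z z' hz hz' h1 h1' => by
    have a := hval z hz h1
    have a' := hval z' hz' h1'
    have e : Φ z = Φ z' := hconst z z' hz hz' h1 h1'
    linear_combination a - a' + e
  obtain ⟨z₀, hz₀, hz₀1⟩ : ∃ z ∈ Z, z ≠ 1 :=
    (Subgroup.bot_or_exists_ne_one Z).resolve_left fun h => by
      rw [h, Subgroup.card_bot] at hz; omega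
  set zk : ↥(der M) := ⟨z₀, hZK hz₀⟩ with hzk
  have hzk1 : zk ≠ 1 := fun e => hz₀1 (congrArg Subtype.val e)
  obtain ⟨n, d, hn, hd, hdvd⟩ := S1523.result p P (by rw [hPc]; exact hTI)
    (by rw [hN]; exact hh.odd_M) ZG
    (fun h => hz₀1 (Subtype.ext (Subgroup.mem_bot.1 (h.le ⟨z₀, hz₀, rfl⟩))))
    (by rintro _ ⟨y, hy, rfl⟩; exact hZK hy)
    (by
      rintro x hx _ ⟨y, hy, rfl⟩
      rw [hN] at hx
      exact ⟨⟨x, hx⟩ * y * ⟨x, hx⟩⁻¹, Subgroup.Normal.conj_mem ‹Z.Normal› y hy _, rfl⟩)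
    (by
      rintro _ ⟨y, hy, rfl⟩ k hk
      exact congrArg Subtype.val (hZc y hy ⟨k, hh.derived_le (hPc.le hk)⟩ (hPc.le hk)))
    (by
      rintro _ ⟨y, hy, rfl⟩ _ ⟨y', hy', rfl⟩ h1 h1'
      simp only [Subgroup.coe_subtype] at h1 h1' ⊢
      rw [hcentC, hcentC]
      exact hCL y hy y' hy' (fun e => h1 (by rw [e]; rfl)) (fun e => h1' (by rw [e]; rfl)))
    _ hψ
    (by
      rintro _ ⟨y, hy, rfl⟩ _ ⟨y', hy', rfl⟩ h1 h1'
      simp only [Subgroup.coe_subtype] at h1 h1' ⊢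
      have := hfeq ⟨y, hZK hy⟩ ⟨y', hZK hy'⟩ hy hy'
        (fun e => h1 (congrArg (fun k : ↥(der M) => ((k : ↥M) : G)) e :))
        (fun e => h1' (congrArg (fun k : ↥(der M) => ((k : ↥M) : G)) e :))
      simp only [Pi.smul_apply]
      exact congrArg (fun c : ℂ => (ε : ℂ) • c) this)
    ((z₀ : ↥M) : G) ⟨z₀, hz₀, rfl⟩ (fun e => hz₀1 (Subtype.ext e))
  have hcard : Nat.card (P : Subgroup G) = Nat.card ↥(der M) := by
    rw [hPc]; exact (Nat.card_congr (Subgroup.subgroupOfEquivOfLe hh.derived_le).toEquiv).symm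
  rw [hcard] at hdvd
  obtain ⟨k, hk⟩ := hdvd
  -- the constant
  have hPhi : Φ zk = (((b - 1) - ε * k : ℤ) : ℂ) * (Nat.card ↥(der M) : ℂ) := by
    have h := hval zk hz₀ hzk1
    have e1 : (ε : ℂ) * fK zk = (n : ℂ) := by
      rw [← hn]; rfl
    have e2 : (ε : ℂ) * fK 1 = (d : ℂ) := by
      rw [← hd]; rfl
    have hk' : (d : ℂ) - (n : ℂ) = (Nat.card ↥(der M) : ℂ) * (k : ℂ) := by exact_mod_cast hk
    have hε2 : (ε : ℂ) * (ε : ℂ) = 1 := by rcases hε with rfl | rfl <;> norm_num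
    have h' : fK zk - fK 1 = -((ε : ℂ) * ((Nat.card ↥(der M) : ℂ) * (k : ℂ))) := by
      rw [← hk', ← e1, ← e2]
      linear_combination (fK 1 - fK zk) * hε2
    push_cast
    rw [h'] at h
    push_cast at h
    linear_combination -h
  -- summing over `Z`
  set ZK : Subgroup ↥(der M) := Z.subgroupOf (der M) with hZKdef
  haveI : Fintype ZK := Fintype.ofFinite _
  have hZKc : ZK ≤ Subgroup.center ↥(der M) := fun z hz => Subgroup.mem_center_iff.2 fun k =>
    Subtype.ext (hZc _ hz k k.2).symm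
  have hsumΦ : ∑ z : ZK, Φ z = -((Nat.card Z : ℂ) * ∑ θ ∈ offZ Z, (g θ : ℂ) * (deg θ : ℂ)) := by
    simp only [hΦ]
    rw [Finset.sum_comm, Finset.mul_sum, ← Finset.sum_neg_distrib]
    refine Finset.sum_congr rfl fun θ hθ => ?_
    rw [← Finset.mul_sum, Finset.sum_sub_distrib, sum_central_eq_zero θ.2 ZK hZKc ?_,
      Finset.sum_const, Finset.card_univ, ← Nat.card_eq_fintype_card,
      Nat.card_congr (Subgroup.subgroupOfEquivOfLe hZK).toEquiv, nsmul_eq_mul, deg_eq]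
    · ring
    · have h := offZ_mem.1 hθ
      simp only [TrivOn, not_forall] at h
      obtain ⟨z, hz, hne⟩ := h
      exact ⟨z, hz, hne⟩
  have hsumΦ' : ∑ z : ZK, Φ z = ((Nat.card Z : ℂ) - 1) * Φ zk := by
    rw [← Finset.add_sum_erase _ _ (Finset.mem_univ (1 : ZK)),
      Finset.sum_congr rfl fun (z : ZK) hz => (show Φ z = Φ zk from
        hconst z zk z.2 hz₀ (fun e => Finset.ne_of_mem_erase hz (Subtype.ext e)) hzk1),
      Finset.sum_const, Finset.card_erase_of_mem (Finset.mem_univ _), Finset.card_univ,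
      nsmul_eq_mul, Nat.cast_sub Fintype.card_pos, Nat.cast_one, ← Nat.card_eq_fintype_card,
      Nat.card_congr (Subgroup.subgroupOfEquivOfLe hZK).toEquiv]
    simp [hΦ]
  refine coherent_of_dvd hh hS hτ hζ Z hZH hz hg ⟨-((b - 1) - ε * k), ?_⟩
  have hK : Nat.card Z * Z.relIndex (der M) = Nat.card (der M) := by
    have := Subgroup.relIndex_mul_relIndex ⊥ Z (der M) bot_le hZK
    rwa [Subgroup.relIndex_bot_left, Subgroup.relIndex_bot_left] at this
  have hK' : (Nat.card ↥(der M) : ℂ) = (Nat.card Z : ℂ) * (Z.relIndex (der M) : ℂ) := by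
    exact_mod_cast hK.symm
  have hz0 : (Nat.card Z : ℂ) ≠ 0 := Nat.cast_ne_zero.2 Nat.card_pos.ne'
  apply Int.cast_injective (α := ℂ)
  push_cast
  refine mul_left_cancel₀ hz0 ?_
  rw [hPhi] at hsumΦ'
  rw [hsumΦ'] at hsumΦ
  push_cast at hsumΦ
  rw [hK'] at hsumΦ ⊢
  linear_combination hsumΦ

end Cfsg.Agent.PF10
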